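import Cfsg.Agent.Lib.Fi23Local27.Quot
import Cfsg.Agent.Lib.Symplectic.Std
import Cfsg.Agent.S0270
import Cfsg.Agent.S0814

/-!
The data of `Setting` from the hypotheses of S3233.

Owner: helper27 (S3233).
-/

set_option autoImplicit false

open scoped commutatorElement Pointwise

namespace Cfsg.Agent.Lib.Fi23Local27

universe u v

theorem card_sup_eq_mul {G : Type*} [Group G] (A B : Subgroup G)
    (hn : B ≤ Subgroup.normalizer (A : Set G)) (hd : A ⊓ B = ⊥) :
    Nat.card (A ⊔ B : Subgroup G) = Nat.card A * Nat.card B := by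
  rw [← Nat.card_prod]
  symm
  have hmem : ∀ p : A × B, (p.1 : G) * p.2 ∈ A ⊔ B := fun p =>
    mul_mem (Subgroup.mem_sup_left p.1.2) (Subgroup.mem_sup_right p.2.2)
  refine Nat.card_congr (Equiv.ofBijective (fun p => (⟨_, hmem p⟩ : (A ⊔ B : Subgroup G))) ⟨?_, ?_⟩)
  · exact fun p q e => Subgroup.mul_injective_of_disjoint (disjoint_iff.2 hd) (congrArg Subtype.val e :)
  · rintro ⟨g, hg⟩
    rw [← SetLike.mem_coe, Subgroup.coe_mul_of_right_le_normalizer_left _ _ hn] at hg
    obtain ⟨a, ha, b, hb, rfl⟩ := hg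
    exact ⟨(⟨a, ha⟩, ⟨b, hb⟩), rfl⟩

theorem card_psp_three {F : Type v} [Field F] [Fintype F] (hF : Fintype.card F = 3) :
    Nat.card (Cfsg.PSp 2 F) = 25920 := by
  have h := Symplectic.card_psp (F := F) (q := 3) (by rw [Nat.card_eq_fintype_card, hF])
    (m := 2) one_le_two
  norm_num [Finset.prod_range_succ] at h
  omega

theorem conj_psp_injective {F : Type v} [Field F] [Fintype F] (hF : Fintype.card F = 3) :
    Function.Injective (MulAut.conj : Cfsg.PSp 2 F →* MulAut (Cfsg.PSp 2 F)) := by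
  have := Cfsg.Agent.S0270.result (F := F) 2 le_rfl (fun _ => hF.ge)
  rw [← MonoidHom.ker_eq_bot_iff]
  refine (IsSimpleGroup.eq_bot_or_eq_top_of_normal _ (MonoidHom.normal_ker _)).resolve_right fun h => ?_
  have hcomm : ∀ a b : Cfsg.PSp 2 F, a * b = b * a := fun a b => by
    have ha : a ∈ (MulAut.conj : Cfsg.PSp 2 F →* MulAut (Cfsg.PSp 2 F)).ker := by rw [h]; trivial
    have := congrArg (fun φ : MulAut (Cfsg.PSp 2 F) => φ b) (show MulAut.conj a = 1 from ha)
    simp only [MulAut.conj_apply, MulAut.one_apply] at this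
    exact mul_inv_eq_iff_eq_mul.1 this
  let _ : CommGroup (Cfsg.PSp 2 F) := { (inferInstance : Group (Cfsg.PSp 2 F)) with mul_comm := hcomm }
  have hp := IsSimpleGroup.prime_card (α := Cfsg.PSp 2 F)
  rw [card_psp_three hF] at hp
  norm_num at hp

theorem card_aut_psp_three {F : Type v} [Field F] [Fintype F] (hF : Fintype.card F = 3) :
    Nat.card (MulAut (Cfsg.PSp 2 F)) = 51840 := by
  have := Fact.mk Nat.prime_three
  rw [Cfsg.Agent.S0814.result (F := F) 3 1 le_rfl (by simpa using hF) 2 le_rfl (fun _ => by norm_num),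
    card_psp_three hF]
  norm_num

/-- a subgroup of `Aut PSp₄(3)` of order prime to 5 and normal is trivial -/
theorem normal_aut_psp {F : Type v} [Field F] [Fintype F] (hF : Fintype.card F = 3)
    {M : Subgroup (MulAut (Cfsg.PSp 2 F))} (hM : M.Normal) (h5 : ¬ 5 ∣ Nat.card M) : M = ⊥ := by
  have := Cfsg.Agent.S0270.result (F := F) 2 le_rfl (fun _ => hF.ge)
  have hinj := conj_psp_injective hF
  rcases IsSimpleGroup.eq_bot_or_eq_top_of_normal _
    (hM.comap (MulAut.conj : Cfsg.PSp 2 F →* MulAut (Cfsg.PSp 2 F))) with h | h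
  · rw [eq_bot_iff]
    intro m hm
    rw [Subgroup.mem_bot]
    ext a
    have hc : (MulAut.conj : Cfsg.PSp 2 F →* MulAut (Cfsg.PSp 2 F)) (m a * a⁻¹) =
        m * (MulAut.conj a * m⁻¹ * (MulAut.conj a)⁻¹) := by
      ext b
      simp [MulAut.mul_apply, MulAut.conj_apply, MulAut.inv_apply, mul_assoc]
    have hmem : m a * a⁻¹ ∈ M.comap (MulAut.conj : Cfsg.PSp 2 F →* MulAut (Cfsg.PSp 2 F)) := by
      rw [Subgroup.mem_comap, hc]
      exact mul_mem hm (hM.conj_mem _ (inv_mem hm) _)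
    rw [h, Subgroup.mem_bot, mul_inv_eq_one] at hmem
    rw [MulAut.one_apply]; exact hmem
  · exfalso
    apply h5
    have hle : (MulAut.conj : Cfsg.PSp 2 F →* MulAut (Cfsg.PSp 2 F)).range ≤ M := by
      rintro _ ⟨a, rfl⟩
      have : a ∈ M.comap (MulAut.conj : Cfsg.PSp 2 F →* MulAut (Cfsg.PSp 2 F)) := by rw [h]; trivial
      exact this
    refine dvd_trans ?_ (Subgroup.card_dvd_of_le hle)
    rw [← Nat.card_congr (MonoidHom.ofInjective hinj).toEquiv, card_psp_three hF]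
    norm_num

theorem exists_data_aux {G : Type u} [Group G] [Finite G] (z : G) (hz : orderOf z = 2)
    {F : Type v} [Field F] [Fintype F] (hF : Fintype.card F = 3)
    (X : Subgroup G) (hXc : X = Subgroup.centralizer ({z} : Set G))
    (P : Subgroup ↥X) (hPn : P.Normal) (hPp : IsPGroup 2 P)
    (hPmax : ∀ N : Subgroup ↥X, N.Normal → IsPGroup 2 N → N ≤ P)
    (V E : Subgroup ↥X) (hVE : Cfsg.IsInternalDirectProduct V E P)
    (hV : Nat.card ↥V = 4) (hV2 : ∀ v ∈ V, v ^ 2 = 1)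
    (hE : Cfsg.IsExtraspecial 2 ↥E) (hEc : Nat.card ↥E = 2 ^ 9)
    (hCJ : Subgroup.centralizer (P : Set ↥X) ≤ P)
    (zc c : ↥X) (hzc : (zc : G) = z) (hc : orderOf c = 3)
    [hJc : (P ⊔ Subgroup.zpowers c).Normal]
    (e : (↥X ⧸ (P ⊔ Subgroup.zpowers c)) ≃* MulAut (Cfsg.PSp 2 F))
    (C : Subgroup ↥X) (hmC : ∀ {g : ↥X}, g ∈ C ↔ g * c = c * g)
    [hcz : ((Subgroup.zpowers c ⊔ Subgroup.zpowers zc).subgroupOf C).Normal]
    (e' : (↥C ⧸ (Subgroup.zpowers c ⊔ Subgroup.zpowers zc).subgroupOf C) ≃* Cfsg.PSp 2 F) :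
    ∃ S : Setting z, Nonempty S.Extra ∧ Nonempty (S.Top F) := by
  classical
  have h2p := Fact.mk Nat.prime_two
  have hsimp := Cfsg.Agent.S0270.result (F := F) 2 le_rfl (fun _ => hF.ge)
  obtain ⟨hVP, hEP, hVEc, hVEi, hVEs⟩ := hVE
  have hmX : ∀ {g : G}, g ∈ X ↔ g * z = z * g := fun {g} => by
    rw [hXc]; exact Subgroup.mem_centralizer_singleton_iff
  -- the involution
  have hzcent : ∀ g : ↥X, g * zc = zc * g := fun g =>
    Subtype.ext (by push_cast; rw [hzc]; exact hmX.1 g.2)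
  have hzo : orderOf zc = 2 := by rw [← Subgroup.orderOf_coe, hzc, hz]
  have hz1 : zc ≠ 1 := fun h => by simp [h] at hzo
  have hz2 : zc * zc = 1 := by rw [← pow_two, ← hzo]; exact pow_orderOf_eq_one zc
  have hzn : (Subgroup.zpowers zc).Normal := ⟨fun n hn g => by
    have hc : Commute g n := by
      obtain ⟨i, rfl⟩ := Subgroup.mem_zpowers_iff.1 hn
      exact (show Commute g zc from hzcent g).zpow_right i
    rw [hc.eq, mul_inv_cancel_right]; exact hn⟩
  have hzP : zc ∈ P :=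
    hPmax _ hzn (IsPGroup.of_card (p := 2) (n := 1) (by rw [Nat.card_zpowers, hzo, pow_one]))
      (Subgroup.mem_zpowers zc)
  have hzmem : ∀ w ∈ Subgroup.zpowers zc, w = 1 ∨ w = zc := by
    intro w hw
    obtain ⟨i, rfl⟩ := Subgroup.mem_zpowers_iff.1 hw
    rcases Int.even_or_odd i with ⟨m, rfl⟩ | ⟨m, rfl⟩
    · left; rw [← two_mul, zpow_mul, zpow_two, hz2, one_zpow]
    · right; rw [zpow_add_one, zpow_mul, zpow_two, hz2, one_zpow, one_mul]
  -- the element of order three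
  have hc3 : c * c * c = 1 := by
    rw [← pow_three', ← hc]; exact pow_orderOf_eq_one c
  have hc1 : c ≠ 1 := fun h => by simp [h] at hc
  have hcinv : c⁻¹ = c * c := inv_eq_of_mul_eq_one_left hc3
  have hcmem : ∀ q ∈ Subgroup.zpowers c, q = 1 ∨ q = c ∨ q = c⁻¹ := by
    intro q hq
    rw [hcinv]
    obtain ⟨n, hn, rfl⟩ := (mem_zpowers_iff_mem_range_orderOf.1 hq |> Finset.mem_image.1)
    rw [Finset.mem_range, hc] at hn
    interval_cases n
    · exact Or.inl (pow_zero _)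
    · exact Or.inr (Or.inl (pow_one _))
    · exact Or.inr (Or.inr (pow_two _))
  have hP3 : ∀ p ∈ P, p ^ 3 = 1 → p = 1 := by
    intro p hp h3
    obtain ⟨k, hk⟩ := hPp ⟨p, hp⟩
    have h2 : p ^ 2 ^ k = 1 := congrArg Subtype.val hk
    have := pow_gcd_eq_one.2 ⟨h3, h2⟩
    rwa [show Nat.gcd 3 (2 ^ k) = 1 from (Nat.Coprime.pow_right k (by norm_num)), pow_one] at this
  have hPc : P ⊓ Subgroup.zpowers c = ⊥ := by
    rw [eq_bot_iff]
    rintro q ⟨hqP, hqc⟩
    rw [Subgroup.mem_bot]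
    refine hP3 q hqP ?_
    rcases hcmem q hqc with rfl | rfl | rfl
    · exact one_pow 3
    · rw [← hc]; exact pow_orderOf_eq_one _
    · rw [inv_pow, ← hc, pow_orderOf_eq_one, inv_one]
  have hnormP : ∀ A : Subgroup ↥X, A ≤ Subgroup.normalizer (P : Set ↥X) := fun A => by
    rw [Subgroup.normalizer_eq_top_iff.2 hPn]; exact le_top
  let Q := Subgroup.zpowers c ⊔ Subgroup.zpowers zc
  have hQC : Q ≤ C :=
    sup_le (Subgroup.zpowers_le.2 (hmC.2 rfl)) (Subgroup.zpowers_le.2 (hmC.2 (hzcent c).symm))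
  -- fixed points of `c` in the core
  have hCP : ∀ p ∈ P, c * p = p * c → p = 1 ∨ p = zc := by
    intro p hp hpc
    let T : Subgroup C := P.subgroupOf C
    have hT : T.Normal := hPn.comap C.subtype
    let g : C →* Cfsg.PSp 2 F := e'.toMonoidHom.comp (QuotientGroup.mk' _)
    have hg : Function.Surjective g := e'.surjective.comp (QuotientGroup.mk'_surjective _)
    have hbot : T.map g = ⊥ := by
      refine (IsSimpleGroup.eq_bot_or_eq_top_of_normal _ (hT.map g hg)).resolve_right fun h => ?_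
      have h1 := T.card_map_dvd g
      rw [h, Subgroup.card_top, card_psp_three hF] at h1
      obtain ⟨k, hk⟩ := (hPp.comap_subtype : IsPGroup 2 T).exists_card_eq
      have hk' : Nat.card T = 2 ^ k := hk
      rw [hk'] at h1
      have h3 : 3 ∣ 2 ^ k := dvd_trans (by norm_num) h1
      exact absurd (Nat.prime_three.dvd_of_dvd_pow h3) (by norm_num)
    have hmem : g ⟨p, hmC.2 hpc.symm⟩ = 1 := by
      rw [← Subgroup.mem_bot, ← hbot]; exact ⟨_, Subgroup.mem_subgroupOf.2 hp, rfl⟩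
    have hpQ : p ∈ Q := by
      rw [MonoidHom.comp_apply, MulEquiv.coe_toMonoidHom, EmbeddingLike.map_eq_one_iff,
        QuotientGroup.mk'_apply, QuotientGroup.eq_one_iff] at hmem
      exact Subgroup.mem_subgroupOf.1 hmem
    change p ∈ Subgroup.zpowers c ⊔ Subgroup.zpowers zc at hpQ
    rw [Subgroup.mem_sup_of_normal_right] at hpQ
    obtain ⟨q, hq, w, hw, hqw⟩ := hpQ
    have hwP : w ∈ P := (Subgroup.zpowers_le.2 hzP) hw
    have hq1 : q = 1 := by
      have : q ∈ P ⊓ Subgroup.zpowers c :=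
        Subgroup.mem_inf.2 ⟨by rw [eq_mul_inv_of_mul_eq hqw]; exact P.mul_mem hp (P.inv_mem hwP), hq⟩
      rwa [hPc, Subgroup.mem_bot] at this
    rw [← hqw, hq1, one_mul]; exact hzmem w hw
  -- orders
  have hPcard : Nat.card P = 2 ^ 11 := by
    have hn : E ≤ Subgroup.normalizer (V : Set ↥X) := by
      intro b hb
      rw [Subgroup.mem_normalizer_iff]
      intro a
      constructor
      · intro ha; rw [← hVEc a ha b hb, mul_inv_cancel_right]; exact ha
      · intro ha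
        have := hVEc _ ha b hb
        rw [inv_mul_cancel_right] at this
        rw [mul_left_cancel this]; exact ha
    rw [← hVEs, card_sup_eq_mul V E hn hVEi, hV, hEc]; norm_num
  have hPKcard : Nat.card (P ⊔ Subgroup.zpowers c : Subgroup ↥X) = 2 ^ 11 * 3 := by
    rw [card_sup_eq_mul P _ (hnormP _) hPc, hPcard, Nat.card_zpowers, hc]
  have hXcard : Nat.card X = 3 * 2 ^ 11 * 51840 := by
    have h := Subgroup.card_eq_card_quotient_mul_card_subgroup (P ⊔ Subgroup.zpowers c)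
    rw [Nat.card_congr e.toEquiv, card_aut_psp_three hF, hPKcard] at h
    rw [h]; ring
  have hCcard : Nat.card C = 3 * 51840 := by
    have hd : Subgroup.zpowers c ⊓ Subgroup.zpowers zc = ⊥ := by
      rw [eq_bot_iff, ← hPc]
      exact le_inf (inf_le_right.trans (Subgroup.zpowers_le.2 hzP)) inf_le_left
    have hn : Subgroup.zpowers zc ≤ Subgroup.normalizer (Subgroup.zpowers c : Set ↥X) :=
      (Subgroup.zpowers_le.2 (show zc ∈ _ from Subgroup.mem_normalizer_iff.2 fun a => by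
        rw [(hzcent a).symm, mul_inv_cancel_right]))
    have h := Subgroup.card_eq_card_quotient_mul_card_subgroup ((Subgroup.zpowers c ⊔ Subgroup.zpowers zc).subgroupOf C)
    rw [Nat.card_congr e'.toEquiv, card_psp_three hF,
      Nat.card_congr (Subgroup.subgroupOfEquivOfLe hQC).toEquiv,
      card_sup_eq_mul _ _ hn hd, Nat.card_zpowers, Nat.card_zpowers, hc, hzo] at h
    omega
  -- the extraspecial part
  have hEcomm : ∀ a b : E, ⁅a, b⁆ ∈ Subgroup.center E := fun a b => by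
    rw [← hE.1.2.2]
    exact Subgroup.commutator_mem_commutator (Subgroup.mem_top a) (Subgroup.mem_top b)
  obtain ⟨e₁, e₂, he12⟩ : ∃ e₁ e₂ : E, ⁅e₁, e₂⁆ ≠ 1 := by
    by_contra h
    push Not at h
    have : Subgroup.center E = ⊤ := eq_top_iff.2 fun a _ =>
      Subgroup.mem_center_iff.2 fun b => commutatorElement_eq_one_iff_mul_comm.1 (h b a)
    have h2 := hE.2
    rw [this, Subgroup.card_top, hEc] at h2
    norm_num at h2
  have hcen2 : ∀ a ∈ Subgroup.center E, a = 1 ∨ a = ⁅e₁, e₂⁆ := by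
    intro a ha
    by_contra hcon
    push Not at hcon
    have : Fintype E := Fintype.ofFinite E
    have hle : ({1, ⁅e₁, e₂⁆, a} : Finset E) ⊆ Finset.univ.filter (· ∈ Subgroup.center E) := by
      intro x hx
      simp only [Finset.mem_insert, Finset.mem_singleton] at hx
      rw [Finset.mem_filter]
      refine ⟨Finset.mem_univ _, ?_⟩
      rcases hx with rfl | rfl | rfl
      exacts [one_mem _, hEcomm e₁ e₂, ha]
    have hcard := Finset.card_le_card hle
    have h2 := hE.2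
    rw [Nat.card_eq_fintype_card, Fintype.card_subtype] at h2
    rw [h2] at hcard
    simp [he12.symm, hcon.1.symm, hcon.2.symm] at hcard
  set w : ↥X := ((⁅e₁, e₂⁆ : E) : ↥X) with hw
  have hcenE : ∀ a : E, a ∈ Subgroup.center E → (a : ↥X) = 1 ∨ (a : ↥X) = w := by
    intro a ha
    rcases hcen2 a ha with h | h <;> rw [h]
    exacts [Or.inl rfl, Or.inr rfl]
  have hVc : ∀ v ∈ V, ∀ p ∈ P, v * p = p * v := by
    intro v hv p hp
    rw [← hVEs, Subgroup.sup_eq_closure] at hp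
    refine (Subgroup.closure_induction (p := fun x _ => Commute v x) ?_ (Commute.one_right v)
      (fun _ _ _ _ => Commute.mul_right) (fun _ _ => Commute.inv_right) hp).eq
    rintro x (hx | hx)
    · have h : ∀ y ∈ V, y⁻¹ = y := fun y hy => inv_eq_of_mul_eq_one_left (by
        rw [← pow_two]; exact hV2 y hy)
      show v * x = x * v
      rw [← h _ (mul_mem hv hx), mul_inv_rev, h v hv, h x hx]
    · exact hVEc v hv x hx
  have hdecomp : ∀ p ∈ P, ∃ v ∈ V, ∃ a : E, p = v * a := by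
    intro p hp
    have hn : E ≤ Subgroup.normalizer (V : Set ↥X) := by
      intro b hb
      rw [Subgroup.mem_normalizer_iff]
      intro a
      constructor
      · intro ha; rw [← hVEc a ha b hb, mul_inv_cancel_right]; exact ha
      · intro ha
        have := hVEc _ ha b hb
        rw [inv_mul_cancel_right] at this
        rw [mul_left_cancel this]; exact ha
    rw [← hVEs, ← SetLike.mem_coe, Subgroup.coe_mul_of_right_le_normalizer_left _ _ hn] at hp
    obtain ⟨v, hv, a, ha, rfl⟩ := hp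
    exact ⟨v, hv, ⟨a, ha⟩, rfl⟩
  have hcommP : ∀ p ∈ P, ∀ q ∈ P, ⁅p, q⁆ = 1 ∨ ⁅p, q⁆ = w := by
    intro p hp q hq
    obtain ⟨v, hv, a, rfl⟩ := hdecomp p hp
    obtain ⟨v', hv', b, rfl⟩ := hdecomp q hq
    have h1 : ⁅v * (a : ↥X), v' * (b : ↥X)⁆ = ((⁅a, b⁆ : E) : ↥X) := by
      rw [show ((⁅a, b⁆ : E) : ↥X) = ⁅(a : ↥X), (b : ↥X)⁆ from map_commutatorElement E.subtype a b]
      simp only [commutatorElement_def, mul_inv_rev]
      have c1 : ∀ y ∈ P, v' * y = y * v' := hVc v' hv'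
      have c2 : ∀ y ∈ P, v * y = y * v := hVc v hv
      calc v * a * (v' * b) * ((a : ↥X)⁻¹ * v⁻¹) * ((b : ↥X)⁻¹ * v'⁻¹)
          = v * (a * v') * b * (a : ↥X)⁻¹ * (v⁻¹ * (b : ↥X)⁻¹) * v'⁻¹ := by group
        _ = v * (v' * a) * b * (a : ↥X)⁻¹ * ((b : ↥X)⁻¹ * v⁻¹) * v'⁻¹ := by
            rw [← c1 _ (hEP a.2)]
            congr 2
            exact (show Commute v (b : ↥X)⁻¹ from c2 _ (inv_mem (hEP b.2))).inv_left.eq
        _ = v * v' * (a * b * (a : ↥X)⁻¹ * (b : ↥X)⁻¹) * (v⁻¹ * v'⁻¹) := by group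
        _ = (a * b * (a : ↥X)⁻¹ * (b : ↥X)⁻¹) * (v * v') * (v⁻¹ * v'⁻¹) := by
            rw [hVc _ (mul_mem hv hv') _
              (mul_mem (mul_mem (mul_mem (hEP a.2) (hEP b.2)) (inv_mem (hEP a.2))) (inv_mem (hEP b.2)))]
        _ = (a * b * (a : ↥X)⁻¹ * (b : ↥X)⁻¹) := by
            rw [mul_assoc _ (v * v'), c2 v' (hVP hv')]; group
    rw [h1]; exact hcenE _ (hEcomm a b)
  have hwzc : w = zc := by
    have hw1 : w ≠ 1 := fun h => he12 (Subtype.ext h)
    have hfix : c * w = w * c := by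
      have h := hcommP _ (hPn.conj_mem _ (hEP e₁.2) c) _ (hPn.conj_mem _ (hEP e₂.2) c)
      have he : ⁅c * (e₁ : ↥X) * c⁻¹, c * (e₂ : ↥X) * c⁻¹⁆ = c * w * c⁻¹ := by
        rw [hw, show ((⁅e₁, e₂⁆ : E) : ↥X) = ⁅(e₁ : ↥X), (e₂ : ↥X)⁆ from
          map_commutatorElement E.subtype e₁ e₂]
        simp only [commutatorElement_def]; group
      rw [he] at h
      rcases h with h | h
      · exact absurd (by simpa using h) hw1
      · exact mul_inv_eq_iff_eq_mul.1 h
    exact (hCP w (hEP (⁅e₁, e₂⁆ : E).2) hfix).resolve_left hw1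
  have hzV : zc ∉ V := fun h => by
    have : zc ∈ V ⊓ E := ⟨h, hwzc ▸ (⁅e₁, e₂⁆ : E).2⟩
    rw [hVEi, Subgroup.mem_bot] at this
    exact hz1 this
  have hEmeet : ∀ a : E, (∀ p ∈ P, (a : ↥X) * p = p * a) → (a : ↥X) = 1 ∨ (a : ↥X) = zc := by
    intro a ha
    rw [← hwzc]
    exact hcenE a (Subgroup.mem_center_iff.2 fun b => Subtype.ext (ha b.1 (hEP b.2)).symm)
  have hZP : ∀ p ∈ P, (∀ q ∈ P, p * q = q * p) → ∃ v ∈ V, p = v ∨ p = v * zc := by
    intro p hp hpc
    obtain ⟨v, hv, a, rfl⟩ := hdecomp p hp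
    refine ⟨v, hv, ?_⟩
    rcases hEmeet a (fun q hq => by
      have := hpc q hq
      rw [mul_assoc, ← mul_assoc q, ← hVc v hv q hq, mul_assoc v q] at this
      exact mul_left_cancel this) with h | h <;> rw [h]
    · exact Or.inl (mul_one v)
    · exact Or.inr rfl
  -- the four-group
  have hconjc : ∀ a ∈ P, (∀ q ∈ P, a * q = q * a) → ∀ g : ↥X, ∀ q ∈ P,
      g * a * g⁻¹ * q = q * (g * a * g⁻¹) := by
    intro a _ ha g q hq
    have h1 := ha _ (by simpa using hPn.conj_mem q hq g⁻¹ : g⁻¹ * q * g ∈ P)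
    calc g * a * g⁻¹ * q = g * (a * (g⁻¹ * q * g)) * g⁻¹ := by group
      _ = g * (g⁻¹ * q * g * a) * g⁻¹ := by rw [h1]
      _ = q * (g * a * g⁻¹) := by group
  let δ : V →* ↥X :=
    { toFun := fun v => c * (v : ↥X) * c⁻¹ * (v : ↥X)⁻¹
      map_one' := by simp
      map_mul' := fun v v' => by
        push_cast
        have h := hconjc _ (hVP v'.2) (fun q hq => hVc _ v'.2 q hq) c _ (inv_mem (hVP v.2))
        have h' := hVc _ (inv_mem v.2) _ (inv_mem (hVP v'.2))
        calc c * ((v : ↥X) * v') * c⁻¹ * ((v : ↥X) * v')⁻¹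
            = c * v * c⁻¹ * (c * v' * c⁻¹) * ((v' : ↥X)⁻¹ * (v : ↥X)⁻¹) := by group
          _ = c * v * c⁻¹ * (c * v' * c⁻¹) * ((v : ↥X)⁻¹ * (v' : ↥X)⁻¹) := by rw [h']
          _ = c * v * c⁻¹ * (c * v' * c⁻¹ * (v : ↥X)⁻¹) * (v' : ↥X)⁻¹ := by group
          _ = c * v * c⁻¹ * ((v : ↥X)⁻¹ * (c * v' * c⁻¹)) * (v' : ↥X)⁻¹ := by rw [h]
          _ = _ := by group }
  have hδapp : ∀ v : V, δ v = c * (v : ↥X) * c⁻¹ * (v : ↥X)⁻¹ := fun v => rfl
  have hδinj : Function.Injective δ := by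
    rw [injective_iff_map_eq_one]
    intro v hv
    rw [hδapp, mul_inv_eq_one, mul_inv_eq_iff_eq_mul] at hv
    rcases hCP _ (hVP v.2) hv with h | h
    · exact Subtype.ext h
    · exact absurd (h ▸ v.2) hzV
  set U := δ.range with hU
  have hUP : U ≤ P := by
    rintro _ ⟨v, rfl⟩
    rw [hδapp]
    exact mul_mem (hPn.conj_mem _ (hVP v.2) c) (inv_mem (hVP v.2))
  have hUcen : ∀ a ∈ U, ∀ q ∈ P, a * q = q * a := by
    rintro _ ⟨v, rfl⟩ q hq
    rw [hδapp]
    exact ((show Commute (c * (v : ↥X) * c⁻¹) q from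
      hconjc _ (hVP v.2) (fun r hr => hVc _ v.2 r hr) c q hq).mul_left
        (show Commute ((v : ↥X)⁻¹) q from hVc _ (inv_mem v.2) q hq)).eq
  have hzU : zc ∉ U := by
    rintro ⟨v, hv⟩
    rw [hδapp, mul_inv_eq_iff_eq_mul] at hv
    have hz3 : ∀ y : ↥X, c * (zc * y) * c⁻¹ = zc * (c * y * c⁻¹) := fun y => by
      calc c * (zc * y) * c⁻¹ = c * zc * y * c⁻¹ := by group
        _ = zc * c * y * c⁻¹ := by rw [hzcent c]
        _ = _ := by group
    have e3 : c * (c * (c * (v : ↥X) * c⁻¹) * c⁻¹) * c⁻¹ = v := by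
      calc c * (c * (c * (v : ↥X) * c⁻¹) * c⁻¹) * c⁻¹ = c * c * c * v * (c * c * c)⁻¹ := by group
        _ = v := by rw [hc3]; group
    rw [hv, hz3, hv, hz3, hz3, hv, ← mul_assoc zc zc, hz2, one_mul] at e3
    exact hz1 (mul_eq_right.1 e3)
  -- all of `[Z(P), c]` lies in `U`
  have hδZ : ∀ a ∈ P, (∀ q ∈ P, a * q = q * a) → c * a * c⁻¹ * a⁻¹ ∈ U := by
    intro a ha hac
    obtain ⟨v, hv, rfl | rfl⟩ := hZP a ha hac
    · exact ⟨⟨_, hv⟩, rfl⟩
    · refine ⟨⟨_, hv⟩, ?_⟩
      rw [hδapp]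
      calc c * v * c⁻¹ * v⁻¹ = c * v * (zc * c⁻¹) * zc⁻¹ * v⁻¹ := by
            rw [← hzcent c⁻¹]; group
        _ = _ := by group
  have hsqZ : ∀ a ∈ P, (∀ q ∈ P, a * q = q * a) → a * a = 1 := by
    intro a ha hac
    obtain ⟨v, hv, rfl | rfl⟩ := hZP a ha hac
    · rw [← pow_two]; exact hV2 _ hv
    · calc v * zc * (v * zc) = v * (zc * v) * zc := by group
        _ = v * (v * zc) * zc := by rw [hzcent v]
        _ = v * v * (zc * zc) := by group
        _ = 1 := by rw [hz2, ← pow_two, hV2 v hv, one_mul]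
  -- conjugates of `c`
  have hconj : ∀ g : ↥X, g * c * g⁻¹ * c⁻¹ ∈ P ∨ g * c * g⁻¹ * c ∈ P := by
    intro g
    have hm := hJc.conj_mem c (Subgroup.mem_sup_right (Subgroup.mem_zpowers c)) g
    rw [Subgroup.mem_sup_of_normal_left] at hm
    obtain ⟨p, hp, q, hq, hpq⟩ := hm
    rcases hcmem q hq with rfl | rfl | rfl
    · exfalso
      rw [mul_one] at hpq
      subst hpq
      apply hc1
      have := hP3 _ hp (by rw [conj_pow, ← hc, pow_orderOf_eq_one]; group)
      simpa using this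
    · left; rw [← hpq, mul_inv_cancel_right]; exact hp
    · right; rw [← hpq, inv_mul_cancel_right]; exact hp
  -- an element inverting `c`
  obtain ⟨h₀, hh₀⟩ : ∃ h₀ : ↥X, h₀ * c * h₀⁻¹ = c⁻¹ := by
    by_contra hcon
    push Not at hcon
    have := Fact.mk Nat.prime_three
    let PK : Subgroup ↥X := P ⊔ Subgroup.zpowers c
    have hcard3 : (Nat.card PK).factorization 3 = 1 := by
      rw [show Nat.card PK = 2 ^ 11 * 3 from hPKcard, Nat.factorization_mul (by norm_num) (by norm_num),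
        Nat.Prime.factorization_pow Nat.prime_two, Nat.Prime.factorization Nat.prime_three]
      simp
    have hsurj : Function.Surjective fun p : P × C => (p.1 : ↥X) * p.2 := by
      intro g
      have hgc : g * c * g⁻¹ ∈ PK :=
        hJc.conj_mem c (Subgroup.mem_sup_right (Subgroup.mem_zpowers c)) g
      have hcK : c ∈ PK := Subgroup.mem_sup_right (Subgroup.mem_zpowers c)
      have ho : orderOf (g * c * g⁻¹) = 3 := by
        rw [show g * c * g⁻¹ = MulAut.conj g c from rfl, MulEquiv.orderOf_eq, hc]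
      let S₁ : Sylow 3 PK := Sylow.ofCard (Subgroup.zpowers ⟨c, hcK⟩) (by
        rw [Nat.card_zpowers, Subgroup.orderOf_mk, hc, hcard3, pow_one])
      let S₂ : Sylow 3 PK := Sylow.ofCard (Subgroup.zpowers ⟨g * c * g⁻¹, hgc⟩) (by
        rw [Nat.card_zpowers, Subgroup.orderOf_mk, ho, hcard3, pow_one])
      obtain ⟨k, hk⟩ := MulAction.exists_smul_eq PK S₂ S₁
      have hm : k * ⟨g * c * g⁻¹, hgc⟩ * k⁻¹ ∈ Subgroup.zpowers (⟨c, hcK⟩ : PK) := by
        have h1 : k * ⟨g * c * g⁻¹, hgc⟩ * k⁻¹ ∈ ((k • S₂ : Sylow 3 PK) : Subgroup PK) := by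
          rw [Sylow.coe_subgroup_smul]
          exact ⟨_, Subgroup.mem_zpowers _, rfl⟩
        rwa [hk] at h1
      obtain ⟨i, hi⟩ := Subgroup.mem_zpowers_iff.1 hm
      have hi' : c ^ i = k.1 * g * c * (k.1 * g)⁻¹ := by
        have := congrArg Subtype.val hi
        push_cast at this
        rw [this]; group
      have hkg : k.1 * g * c = c * (k.1 * g) := by
        rcases hcmem _ (Subgroup.mem_zpowers_iff.2 ⟨i, rfl⟩ : c ^ i ∈ Subgroup.zpowers c) with e | e | e
          <;> rw [hi'] at e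
        · refine absurd ?_ hc1
          calc c = (k.1 * g)⁻¹ * (k.1 * g * c * (k.1 * g)⁻¹) * (k.1 * g) := by group
            _ = 1 := by rw [e]; group
        · exact mul_inv_eq_iff_eq_mul.1 e
        · exact absurd e (hcon (k.1 * g))
      have hkK : k.1⁻¹ ∈ P ⊔ Subgroup.zpowers c := inv_mem k.2
      rw [Subgroup.mem_sup_of_normal_left] at hkK
      obtain ⟨p, hp, q, hq, hpq⟩ := hkK
      have hqC : q * (k.1 * g) ∈ C := mul_mem (Subgroup.zpowers_le.2 (hmC.2 rfl) hq) (hmC.2 hkg)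
      refine ⟨(⟨p, hp⟩, ⟨_, hqC⟩), ?_⟩
      show p * (q * (k.1 * g)) = g
      rw [← mul_assoc, hpq]; group
    have hbij := hsurj.bijective_of_nat_card_le (by
      rw [Nat.card_prod, hPcard, hCcard, show Nat.card ↥X = 3 * 2 ^ 11 * 51840 from hXcard]
      norm_num)
    have := hbij.1 (a₁ := (⟨zc, hzP⟩, 1)) (a₂ := (1, ⟨zc, hmC.2 (hzcent c).symm⟩)) (by simp)
    exact hz1 (congrArg Subtype.val (congrArg Prod.fst this))
  -- the top factor
  let f : ↥X →* MulAut (Cfsg.PSp 2 F) := e.toMonoidHom.comp (QuotientGroup.mk' _)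
  have hf : Function.Surjective f := e.surjective.comp (QuotientGroup.mk'_surjective _)
  have hsub : (P ⊔ Subgroup.zpowers c).map X.subtype = P.map X.subtype ⊔ Subgroup.zpowers (c : G) := by
    rw [Subgroup.map_sup, MonoidHom.map_zpowers]; rfl
  have hfker : ∀ g : ↥X, f g = 1 ↔ (g : G) ∈ P.map X.subtype ⊔ Subgroup.zpowers (c : G) := fun g => by
    rw [← hsub, MonoidHom.comp_apply, MulEquiv.coe_toMonoidHom, EmbeddingLike.map_eq_one_iff,
      QuotientGroup.mk'_apply, QuotientGroup.eq_one_iff]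
    exact (Subgroup.mem_map_iff_mem X.subtype_injective).symm
  have hsmall : ∀ N L : Subgroup G, (∀ n ∈ N, n * z = z * n) → (∀ g ∈ L, g * z = z * g) →
      (∀ g ∈ L, ∀ n ∈ N, g * n * g⁻¹ ∈ N) →
      (∀ g, g * z = z * g → ∃ l ∈ L, l⁻¹ * g ∈ P.map X.subtype ⊔ Subgroup.zpowers (c : G)) →
      ¬ 5 ∣ Nat.card N → N ≤ P.map X.subtype ⊔ Subgroup.zpowers (c : G) := by
    intro N L hN hL hLN hcov h5
    have hNX : N ≤ X := fun n hn => hmX.2 (hN n hn)
    let M := (N.subgroupOf X).map f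
    have hMn : M.Normal := by
      refine ⟨?_⟩
      rintro _ ⟨n, hn, rfl⟩ m
      obtain ⟨g, rfl⟩ := hf m
      obtain ⟨l, hl, hlg⟩ := hcov g.1 (hmX.1 g.2)
      have hlX : l ∈ X := hmX.2 (hL l hl)
      have e1 : f g = f ⟨l, hlX⟩ := by
        have h1 : f (⟨l, hlX⟩⁻¹ * g) = 1 := (hfker _).2 hlg
        rw [map_mul, map_inv, inv_mul_eq_one] at h1
        exact h1.symm
      refine ⟨⟨l, hlX⟩ * n * ⟨l, hlX⟩⁻¹, ?_, by rw [map_mul, map_mul, map_inv, e1]⟩
      exact Subgroup.mem_subgroupOf.2 (hLN l hl n.1 (Subgroup.mem_subgroupOf.1 hn))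
    have hbot := normal_aut_psp hF hMn fun h => h5 (h.trans
      ((Subgroup.card_map_dvd _ _).trans
        (by rw [Nat.card_congr (Subgroup.subgroupOfEquivOfLe hNX).toEquiv])))
    intro n hn
    have h1 : f ⟨n, hNX hn⟩ = 1 := by
      rw [← Subgroup.mem_bot, ← hbot]; exact ⟨⟨n, hNX hn⟩, Subgroup.mem_subgroupOf.2 hn, rfl⟩
    exact (hfker _).1 h1
  -- assembling
  set J := P.map X.subtype with hJ
  have hJmem : ∀ {a : ↥X}, (a : G) ∈ J ↔ a ∈ P := fun {a} =>
    Subgroup.mem_map_iff_mem X.subtype_injective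
  have hJmem' : ∀ {g : G}, g ∈ J → ∃ a : ↥X, a ∈ P ∧ (a : G) = g := by
    rintro g ⟨a, ha, rfl⟩; exact ⟨a, ha, rfl⟩
  let S : Setting z :=
    { J := J
      U := U.map X.subtype
      c := c
      z_ne := fun h => hz1 (Subtype.ext (by rw [hzc, h]; rfl))
      z_sq := by rw [← hzc]; exact_mod_cast congrArg Subtype.val hz2
      z_mem := by rw [← hzc]; exact hJmem.2 hzP
      J_le := fun j hj => by
        obtain ⟨a, -, rfl⟩ := hJmem' hj; exact hmX.1 a.2
      J_card := by rw [hJ, Subgroup.card_map_of_injective X.subtype_injective, hPcard]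
      J_norm := fun g hg j hj => by
        obtain ⟨a, ha, rfl⟩ := hJmem' hj
        exact hJmem.2 (hPn.conj_mem a ha ⟨g, hmX.2 hg⟩)
      J_cent := fun g hg hj => by
        refine hJmem.2 (hCJ (Subgroup.mem_centralizer_iff.2 fun a ha => ?_) : (⟨g, hmX.2 hg⟩ : ↥X) ∈ P)
        exact Subtype.ext (hj a (hJmem.2 ha)).symm
      comm_J := fun j hj k hk => by
        obtain ⟨a, ha, rfl⟩ := hJmem' hj
        obtain ⟨b, hb, rfl⟩ := hJmem' hk
        rw [show ⁅(a : G), (b : G)⁆ = ((⁅a, b⁆ : ↥X) : G) from (map_commutatorElement X.subtype a b).symm]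
        rcases hcommP a ha b hb with h | h <;> rw [h]
        · exact Or.inl rfl
        · exact Or.inr (by rw [hwzc, hzc])
      U_le := Subgroup.map_mono hUP
      U_card := by
        rw [Subgroup.card_map_of_injective X.subtype_injective, hU,
          ← Nat.card_congr (MonoidHom.ofInjective hδinj).toEquiv, hV]
      U_sq := by
        rintro _ ⟨_, ⟨v, rfl⟩, rfl⟩
        rw [← map_mul, ← map_mul, show v * v = 1 from Subtype.ext (by
          push_cast; rw [← pow_two]; exact hV2 _ v.2), map_one, map_one]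
      U_norm := fun g hg u hu => by
        obtain ⟨_, ⟨v, rfl⟩, rfl⟩ := hu
        refine ⟨(⟨g, hmX.2 hg⟩ : ↥X) * δ v * (⟨g, hmX.2 hg⟩ : ↥X)⁻¹, ?_, rfl⟩
        set h : ↥X := ⟨g, hmX.2 hg⟩
        set b := h * (v : ↥X) * h⁻¹ with hb
        have hbP : b ∈ P := hPn.conj_mem _ (hVP v.2) h
        have hbc : ∀ q ∈ P, b * q = q * b := hconjc _ (hVP v.2) (fun q hq => hVc _ v.2 q hq) h
        rcases hconj h with hk | hk
        · have hcb := hconjc b hbP hbc c
          have e1 : h * δ v * h⁻¹ = c * b * c⁻¹ * b⁻¹ := by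
            rw [hδapp]
            calc h * (c * (v : ↥X) * c⁻¹ * (v : ↥X)⁻¹) * h⁻¹
                = h * c * h⁻¹ * c⁻¹ * (c * b * c⁻¹) * (h * c * h⁻¹ * c⁻¹)⁻¹ * b⁻¹ := by
                  rw [hb]; group
              _ = _ := by rw [← hcb _ hk, mul_inv_cancel_right]
          rw [e1]; exact hδZ b hbP hbc
        · have hcb := hconjc b hbP hbc c⁻¹
          simp only [inv_inv] at hcb
          have e1 : h * δ v * h⁻¹ = (c * (c⁻¹ * b * c) * c⁻¹ * (c⁻¹ * b * c)⁻¹)⁻¹ := by
            rw [hδapp]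
            calc h * (c * (v : ↥X) * c⁻¹ * (v : ↥X)⁻¹) * h⁻¹
                = h * c * h⁻¹ * c * (c⁻¹ * b * c) * (h * c * h⁻¹ * c)⁻¹ * b⁻¹ := by
                  rw [hb]; group
              _ = c⁻¹ * b * c * b⁻¹ := by rw [← hcb _ hk, mul_inv_cancel_right]
              _ = _ := by group
          rw [e1]
          refine inv_mem (hδZ _ ?_ hcb)
          simpa using hPn.conj_mem b hbP c⁻¹
      U_cent := fun u hu j hj => by
        obtain ⟨a, ha, rfl⟩ := hu
        obtain ⟨b, hb, rfl⟩ := hJmem' hj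
        exact congrArg Subtype.val (hUcen a ha b hb)
      z_notin := fun h => by
        obtain ⟨a, ha, he⟩ := h
        exact hzU ((show a = zc from Subtype.ext (he.trans hzc.symm)) ▸ ha)
      center_J := fun j hj hjc => by
        obtain ⟨a, ha, rfl⟩ := hJmem' hj
        have hac : ∀ q ∈ P, a * q = q * a := fun q hq => Subtype.ext (hjc q (hJmem.2 hq))
        set a₁ := c * a * c⁻¹ with ha₁
        set a₂ := c⁻¹ * a * c with ha₂
        have ha₁P : a₁ ∈ P := hPn.conj_mem a ha c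
        have ha₁c := hconjc a ha hac c
        have ha₂P : a₂ ∈ P := by simpa using hPn.conj_mem a ha c⁻¹
        have ha₂c : ∀ q ∈ P, a₂ * q = q * a₂ := by
          have := hconjc a ha hac c⁻¹
          simpa using this
        -- the product of the three conjugates is fixed
        have hfix : c * (a * (a₁ * a₂)) = a * (a₁ * a₂) * c := by
          have e1 : c * a₁ * c⁻¹ = a₂ := by
            rw [ha₁, ha₂]
            calc c * (c * a * c⁻¹) * c⁻¹ = c * c * a * (c * c)⁻¹ := by group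
              _ = c⁻¹ * a * c := by rw [← hcinv, inv_inv]
          have e2 : c * a₂ * c⁻¹ = a := by rw [ha₂]; group
          have e3 : c * (a * (a₁ * a₂)) * c⁻¹ = a * (a₁ * a₂) := by
            calc c * (a * (a₁ * a₂)) * c⁻¹ = a₁ * ((c * a₁ * c⁻¹) * (c * a₂ * c⁻¹)) := by
                  rw [ha₁]; group
              _ = a₁ * (a₂ * a) := by rw [e1, e2]
              _ = a₁ * a₂ * a := (mul_assoc _ _ _).symm
              _ = a * (a₁ * a₂) := (hac _ (mul_mem ha₁P ha₂P)).symm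
          exact mul_inv_eq_iff_eq_mul.1 e3
        have u1 : a₁ * a⁻¹ ∈ U := hδZ a ha hac
        have u2 : a * a₂⁻¹ ∈ U := by
          have := hδZ a₂ ha₂P ha₂c
          rwa [show c * a₂ * c⁻¹ = a by rw [ha₂]; group] at this
        have hsq : ∀ x ∈ P, (∀ q ∈ P, x * q = q * x) → x⁻¹ = x := fun x hx hxc =>
          inv_eq_of_mul_eq_one_left (hsqZ x hx hxc)
        rw [hsq a ha hac] at u1
        rw [hsq a₂ ha₂P ha₂c] at u2
        have hprod : a * (a₁ * a₂) = a₁ * a * (a * a₂) * a := by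
          calc a * (a₁ * a₂) = a₁ * a * a₂ := by rw [← mul_assoc, hac a₁ ha₁P]
            _ = a₁ * a * (a₂ * (a * a)) := by rw [hsqZ a ha hac, mul_one]
            _ = a₁ * a * (a₂ * a * a) := by group
            _ = a₁ * a * (a * a₂) * a := by rw [← hac a₂ ha₂P]; group
        have huu : (a₁ * a * (a * a₂))⁻¹ ∈ U := inv_mem (mul_mem u1 u2)
        rcases hCP _ (mul_mem ha (mul_mem ha₁P ha₂P)) hfix with h | h <;> rw [hprod] at h
        · left
          refine ⟨a, ?_, rfl⟩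
          rw [eq_inv_of_mul_eq_one_right h]; exact huu
        · right
          refine ⟨a * zc, ?_, by show ((a * zc : ↥X) : G) = a * z; push_cast; rw [hzc]⟩
          rw [← inv_mul_eq_of_eq_mul h.symm, mul_assoc, hz2, mul_one]; exact huu
      c_comm := hmX.1 c.2
      c_ne := fun h => hc1 (Subtype.ext h)
      c_three := by exact_mod_cast congrArg Subtype.val hc3
      c_fix := fun j hj h => by
        obtain ⟨a, ha, rfl⟩ := hJmem' hj
        rcases hCP a ha (mul_inv_eq_iff_eq_mul.1 (Subtype.ext h)) with e | e <;> rw [e]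
        exacts [Or.inl rfl, Or.inr hzc]
      conj_c := fun g hg => by
        rcases hconj ⟨g, hmX.2 hg⟩ with h | h
        · exact Or.inl (hJmem.2 h)
        · exact Or.inr (hJmem.2 h)
      flip := ⟨h₀, hmX.1 h₀.2, by exact_mod_cast congrArg Subtype.val hh₀⟩
      card_X := by rw [← hXc]; exact hXcard
      small := hsmall }
  refine ⟨S, ⟨?_⟩, ?_⟩
  refine ⟨E.map X.subtype, Subgroup.map_mono hEP, ?_, ?_, ?_⟩
  · exact FusionP3.GenExtra.isExtraspecial_congr (E.equivMapOfInjective _ X.subtype_injective) hE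
  · rw [Subgroup.card_map_of_injective X.subtype_injective, hEc]
  · rintro _ ⟨a, ha, rfl⟩ hac
    rcases hEmeet ⟨a, ha⟩ (fun q hq => Subtype.ext (hac q (hJmem.2 hq))) with h | h
    · exact Or.inl (congrArg Subtype.val h)
    · exact Or.inr ((congrArg Subtype.val h).trans hzc)
  · subst hXc
    exact ⟨⟨f, hf, hfker⟩⟩

theorem exists_data {G : Type u} [Group G] [Finite G] (z : G) (hz : orderOf z = 2)
    {F : Type v} [Field F] [Fintype F] (hF : Fintype.card F = 3)
    (V E : Subgroup ↥(Subgroup.centralizer ({z} : Set G)))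
    (hVE : Cfsg.IsInternalDirectProduct V E (Cfsg.pCore 2 ↥(Subgroup.centralizer ({z} : Set G))))
    (hV : Nat.card ↥V = 4) (hV2 : ∀ v ∈ V, v ^ 2 = 1)
    (hE : Cfsg.IsExtraspecial 2 ↥E) (hEc : Nat.card ↥E = 2 ^ 9)
    (hCJ : Subgroup.centralizer ((Cfsg.pCore 2 ↥(Subgroup.centralizer ({z} : Set G))) :
      Set ↥(Subgroup.centralizer ({z} : Set G))) ≤ Cfsg.pCore 2 ↥(Subgroup.centralizer ({z} : Set G)))
    (zc c : ↥(Subgroup.centralizer ({z} : Set G))) (hzc : (zc : G) = z) (hc : orderOf c = 3)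
    [hJc : (Cfsg.pCore 2 ↥(Subgroup.centralizer ({z} : Set G)) ⊔ Subgroup.zpowers c).Normal]
    (e : (↥(Subgroup.centralizer ({z} : Set G)) ⧸
      (Cfsg.pCore 2 ↥(Subgroup.centralizer ({z} : Set G)) ⊔ Subgroup.zpowers c)) ≃*
        MulAut (Cfsg.PSp 2 F))
    [hcz : ((Subgroup.zpowers c ⊔ Subgroup.zpowers zc).subgroupOf
      (Subgroup.centralizer ({c} : Set ↥(Subgroup.centralizer ({z} : Set G))))).Normal]
    (e' : (↥(Subgroup.centralizer ({c} : Set ↥(Subgroup.centralizer ({z} : Set G)))) ⧸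
      (Subgroup.zpowers c ⊔ Subgroup.zpowers zc).subgroupOf
        (Subgroup.centralizer ({c} : Set ↥(Subgroup.centralizer ({z} : Set G))))) ≃* Cfsg.PSp 2 F) :
    ∃ S : Setting z, Nonempty S.Extra ∧ Nonempty (S.Top F) :=
  have := Fact.mk Nat.prime_two
  exists_data_aux z hz hF _ rfl _ inferInstance (Cores.pCore_isPGroup 2)
    (fun _ hn h => Cores.le_pCore (hN := hn) h) V E hVE hV hV2 hE hEc hCJ zc c hzc hc e _
    (fun {_} => Subgroup.mem_centralizer_singleton_iff) e'

end Cfsg.Agent.Lib.Fi23Local27
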