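import Cfsg.Agent.Lib.Fi23Local27.Fusion
import Cfsg.Agent.Lib.Fusion.Alperin
import Cfsg.Agent.Lib.TwoTransA4.OddThree
import Cfsg.Agent.Lib.Unitary.Simple
import Cfsg.Agent.S0280
import Cfsg.Agent.S0815
import Cfsg.Prelude.Def_TwoFusion

/-!
The two endings: `z` isolated, or `U` normal with `G/U ≅ Aut U₆(2)`.

Owner: helper27 (S3233).
-/

set_option autoImplicit false

open scoped commutatorElement
open Cfsg.Agent.Lib.Fusion.Alperin

namespace Cfsg.Agent.Lib.Fi23Local27.Setting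

variable {G : Type*} [Group G] {z : G} (S : Setting z)

theorem orderOf_z (_S : Setting z) : orderOf z = 2 :=
  orderOf_eq_prime (by rw [pow_two]; exact _S.z_sq) _S.z_ne

/-- all centralisers split: `G = C(z) O(G)` -/
theorem top_of_split [Finite G] (hd : ∀ u ∈ S.U, u ≠ 1 → S.CoreSplit u)
    (he : ∀ u ∈ S.U, u ≠ 1 → S.CoreSplit (u * z)) (hz : S.ZNotConj) :
    Subgroup.centralizer ({z} : Set G) ⊔ Cfsg.oddCore G = ⊤ :=
  Cfsg.Agent.Lib.TwoTransA4.sup_eq_top_of_isolated
    ⟨S.orderOf_z, fun _ hg => S.isolated hd he hz (S.mem_X.2 hg.eq.symm)⟩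

/-- an element of 2-power order fixing a point of `U` or inner -/
theorem inner_two_fix [Finite G] {t : G} (ht : S.Inner t) (h2 : ∃ k, t ^ 2 ^ k = 1) {u : G}
    (hu : u ∈ S.U) : t * u * t⁻¹ = u := by
  by_cases hu1 : u = 1
  · simp [hu1]
  have hm := S.conj_U ht.1 hu
  have hne : t * u * t⁻¹ ≠ 1 := fun e => hu1 (by simpa using e)
  have h3 : t ^ 3 * u * (t ^ 3)⁻¹ = u := by
    have e0 : t ^ 3 * u * (t ^ 3)⁻¹ = t * (t * (t * u * t⁻¹) * t⁻¹) * t⁻¹ := by
      simp only [pow_three, mul_inv_rev, mul_assoc]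
    rw [e0]
    rcases S.U_orbit hu hu1 hm hne with e | e | e
    · simp only [e]
    · rw [e, S.inner_conj_U ht hu, e, S.inner_conj_U ht (S.conj_U S.c_mem hu),
        S.inner_conj_U ht hu, e, S.cc_conj]
      group
    · have hm' : S.c⁻¹ * u * S.c ∈ S.U := by simpa using S.conj_U (inv_mem S.c_mem) hu
      have key : ∀ v ∈ S.U, t * (S.c⁻¹ * v * S.c) * t⁻¹ = S.c⁻¹ * (t * v * t⁻¹) * S.c := by
        intro v hv
        have hv' : S.c⁻¹ * v * S.c ∈ S.U := by simpa using S.conj_U (inv_mem S.c_mem) hv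
        have := S.inner_conj_U ht hv'
        rw [show S.c * (S.c⁻¹ * v * S.c) * S.c⁻¹ = v by group] at this
        rw [this]; group
      rw [e, key u hu, e, key _ hm', key u hu, e, S.cc_conj']
      group
  obtain ⟨k, hk⟩ := h2
  have hcop : Nat.Coprime 3 (orderOf t) :=
    Nat.Coprime.of_dvd_right (orderOf_dvd_of_pow_eq_one hk) (Nat.Coprime.pow_right _ (by norm_num))
  obtain ⟨m, hm3⟩ := exists_pow_eq_self_of_coprime hcop
  have hc : Commute (t ^ 3) u := mul_inv_eq_iff_eq_mul.1 h3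
  have := (hc.pow_left m).eq
  rw [hm3] at this
  exact mul_inv_eq_iff_eq_mul.2 this

/-- a Sylow 2-subgroup of `G` inside `X` centralising an involution of `U` -/
theorem exists_sylow [Finite G] (hz : S.ZNotConj) : ∃ T : Sylow 2 G, (T : Subgroup G) ≤ S.X ∧
    z ∈ (T : Subgroup G) ∧ ∃ d ∈ S.U, d ≠ 1 ∧ ∀ t ∈ (T : Subgroup G), t * d = d * t := by
  have := Fact.mk Nat.prime_two
  have hJn : (S.J.subgroupOf S.X).Normal :=
    ⟨fun j hj g => by
      rw [Subgroup.mem_subgroupOf] at hj ⊢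
      exact S.conj_J g.2 hj⟩
  have hJn' : (Subgroup.comap S.X.subtype S.J).Normal := hJn
  let T₀ : Sylow 2 S.X := Classical.arbitrary _
  let T₁ : Subgroup G := (T₀ : Subgroup S.X).map S.X.subtype
  have hT₁ : IsPGroup 2 T₁ := T₀.2.map _
  have hT₁X : T₁ ≤ S.X := Subgroup.map_subtype_le _
  have hJT : S.J ≤ T₁ := by
    have h1 : S.J.subgroupOf S.X ≤ (T₀ : Subgroup S.X) :=
      (S.J_pGroup.comap_subtype : IsPGroup 2 (S.J.subgroupOf S.X)).le_sylow_of_normal T₀
    intro j hj
    exact ⟨⟨j, S.J_le_X hj⟩, h1 (Subgroup.mem_subgroupOf.2 hj), rfl⟩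
  have hmax : ∀ P : Subgroup G, IsPGroup 2 P → P ≤ S.X → T₁ ≤ P → P = T₁ := by
    intro P hP hPX hTP
    have h1 : P.comap S.X.subtype = (T₀ : Subgroup S.X) :=
      T₀.3 (hP.comap_subtype) (fun x hx => hTP ⟨x, hx, rfl⟩)
    have h2 := congrArg (Subgroup.map S.X.subtype) h1
    rwa [Subgroup.map_comap_eq, Subgroup.range_subtype, inf_eq_right.2 hPX] at h2
  have hzT : z ∈ T₁ := hJT S.z_mem
  have hnorm : Subgroup.normalizer (T₁ : Set G) ≤ S.X := by
    intro g hg
    have hmem : g * z * g⁻¹ ∈ T₁ := (Subgroup.mem_normalizer_iff.1 hg z).1 hzT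
    have hcen : ∀ k ∈ S.J, g * z * g⁻¹ * k = k * (g * z * g⁻¹) := by
      intro k hk
      have hk' : g⁻¹ * k * g ∈ T₁ :=
        (Subgroup.mem_normalizer_iff.1 hg _).2 (by
          rw [show g * (g⁻¹ * k * g) * g⁻¹ = k by group]; exact hJT hk)
      have := S.mem_X.1 (hT₁X hk')
      calc g * z * g⁻¹ * k = g * (z * (g⁻¹ * k * g)) * g⁻¹ := by group
        _ = g * (g⁻¹ * k * g * z) * g⁻¹ := by rw [this]
        _ = k * (g * z * g⁻¹) := by group
    have hJ : g * z * g⁻¹ ∈ S.J := S.J_cent _ (S.mem_X.1 (hT₁X hmem)) hcen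
    have := hz g _ hJ hcen rfl
    rw [S.mem_X]
    exact mul_inv_eq_iff_eq_mul.1 this
  obtain ⟨T, hT⟩ := hT₁.exists_le_sylow
  have heq : T₁ = (T : Subgroup G) := by
    by_contra hne
    have hlt : T₁ < (T : Subgroup G) := lt_of_le_of_ne hT hne
    have h1 := lt_inf_normalizer T.2 hlt
    exact h1.ne (hmax _ (T.2.to_le inf_le_left) (inf_le_right.trans hnorm) h1.le).symm
  refine ⟨T, heq ▸ hT₁X, heq ▸ hzT, ?_⟩
  have h2 : ∀ t ∈ (T : Subgroup G), ∃ k, t ^ 2 ^ k = 1 := fun t ht => by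
    obtain ⟨k, hk⟩ := T.2 ⟨t, ht⟩
    exact ⟨k, congrArg Subtype.val hk⟩
  by_cases hout : ∃ τ ∈ (T : Subgroup G), ¬ S.Inner τ
  · obtain ⟨τ, hτ, hτi⟩ := hout
    have hτX : τ ∈ S.X := hT₁X (heq ▸ hτ)
    obtain ⟨d, hd, hd1, hdf, -⟩ := S.outer_fix hτX hτi
    refine ⟨d, hd, hd1, fun t ht => ?_⟩
    by_cases hti : S.Inner t
    · exact mul_inv_eq_iff_eq_mul.1 (S.inner_two_fix hti (h2 t ht) hd)
    · have := S.inner_two_fix (S.outer_mul (hT₁X (heq ▸ ht)) hti hτX hτi)
        (h2 _ (mul_mem ht hτ)) hd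
      apply mul_inv_eq_iff_eq_mul.1
      calc t * d * t⁻¹ = t * (τ * d * τ⁻¹) * t⁻¹ := by rw [hdf]
        _ = t * τ * d * (t * τ)⁻¹ := by group
        _ = d := this
  · push Not at hout
    obtain ⟨d, hd, hd1⟩ := S.exists_U
    exact ⟨d, hd, hd1, fun t ht =>
      mul_inv_eq_iff_eq_mul.1 (S.inner_two_fix (hout t ht) (h2 t ht) hd)⟩

theorem mem_normalizer_U [Finite G] {g : G} (h : ∀ v ∈ S.U, g * v * g⁻¹ ∈ S.U) :
    g ∈ Subgroup.normalizer (S.U : Set G) := by
  rw [Subgroup.mem_normalizer_iff]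
  refine fun v => ⟨h v, fun hv => ?_⟩
  obtain ⟨⟨w, hw⟩, hwe⟩ := Finite.surjective_of_injective
    (f := fun x : S.U => (⟨_, h x.1 x.2⟩ : S.U))
    (fun x y e => Subtype.ext (mul_left_cancel (mul_right_cancel (congrArg Subtype.val e :)))) ⟨_, hv⟩
  have hwe' : g * w * g⁻¹ = g * v * g⁻¹ := congrArg Subtype.val hwe
  exact mul_left_cancel (mul_right_cancel hwe') ▸ hw

theorem X_le_normalizer [Finite G] : S.X ≤ Subgroup.normalizer (S.U : Set G) :=
  fun _ hg => S.mem_normalizer_U fun _ hv => S.conj_U hg hv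

/-- odd dihedral groups: the two generators are conjugate -/
theorem conj_of_odd {H : Type*} [Group H] {a b : H} (ha : a * a = 1) (hb : b * b = 1)
    (hodd : Odd (orderOf (a * b))) : ∃ m : ℕ, (a * b) ^ m * a * ((a * b) ^ m)⁻¹ = b := by
  obtain ⟨m, hm⟩ := hodd
  refine ⟨m, ?_⟩
  have hainv : a⁻¹ = a := inv_eq_of_mul_eq_one_left ha
  have hbinv : b⁻¹ = b := inv_eq_of_mul_eq_one_left hb
  have h1 : a * ((a * b) ^ m)⁻¹ = (a * b) ^ m * a := by
    have e : ((a * b) ^ m)⁻¹ = a⁻¹ * (a * b) ^ m * a := by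
      have := conj_pow (i := m) (a := a⁻¹) (b := a * b)
      rw [inv_inv] at this
      rw [← this, ← inv_pow]
      congr 1
      rw [mul_inv_rev, hbinv, hainv, ← mul_assoc a a, ha, one_mul]
    rw [e, hainv, ← mul_assoc, ← mul_assoc, ha, one_mul]
  have h2 : (a * b) ^ (2 * m + 1) = 1 := hm ▸ pow_orderOf_eq_one _
  calc (a * b) ^ m * a * ((a * b) ^ m)⁻¹ = (a * b) ^ m * ((a * b) ^ m * a) := by rw [mul_assoc, h1]
    _ = (a * b) ^ (2 * m) * a := by rw [← mul_assoc, ← pow_add, two_mul]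
    _ = (a * b) ^ (2 * m) * (a * b) * b := by rw [mul_assoc _ (a * b), mul_assoc a, hb, mul_one]
    _ = b := by rw [← pow_succ, h2, one_mul]

/-- the generators of a dihedral group invert their product -/
theorem dihedral_inv {H : Type*} [Group H] {a b y : H} (ha : a * a = 1) (hb : b * b = 1)
    (hy : y = a ∨ y = b) : y * (a * b) * y⁻¹ = (a * b)⁻¹ := by
  rw [mul_inv_rev, inv_eq_of_mul_eq_one_left ha, inv_eq_of_mul_eq_one_left hb]
  rcases hy with h | h <;> subst h
  · rw [inv_eq_of_mul_eq_one_left ha, ← mul_assoc, ha, one_mul]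
  · rw [inv_eq_of_mul_eq_one_left hb, mul_assoc, mul_assoc, hb, mul_one]

/-- `C(dz) ≤ X` and `C(d) ≤ N(U)`: the four-group is normal -/
theorem U_normal [Finite G] (he : ∀ u ∈ S.U, u ≠ 1 → ∀ h, h * (u * z) = u * z * h → h ∈ S.X)
    (hd : ∀ u ∈ S.U, u ≠ 1 → ∀ h, h * u = u * h → ∀ v ∈ S.U, h * v * h⁻¹ ∈ S.U) (hz : S.ZNotConj)
    (henc : ∀ g, ∀ u ∈ S.U, ∀ v ∈ S.U, v ≠ 1 → g * u * g⁻¹ ≠ v * z) : S.U.Normal := by
  have := Fact.mk Nat.prime_two
  obtain ⟨T, hTX, hzT, d, hdU, hd1, hdT⟩ := S.exists_sylow hz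
  set M := Subgroup.normalizer (S.U : Set G) with hM
  have hXM : S.X ≤ M := S.X_le_normalizer
  have hTM : (T : Subgroup G) ≤ M := hTX.trans hXM
  have hmax : ∀ P : Subgroup G, IsPGroup 2 P → P ≤ M → (T : Subgroup G) ≤ P → P = T :=
    fun P hP _ hle => T.3 hP hle
  have hF : ∀ g, g * z * g⁻¹ ∈ S.X → g ∈ M := fun g hg =>
    S.mem_normalizer_U (S.same_U he hd hz henc hg)
  have hconj : ∀ y ∈ M, y * y = 1 → ∃ m ∈ M, m * y * m⁻¹ ∈ (T : Subgroup G) := by
    intro y hy hy2
    have hp : IsPGroup 2 (Subgroup.zpowers y) := by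
      intro a
      refine ⟨1, Subtype.ext ?_⟩
      obtain ⟨n, hn⟩ := Subgroup.mem_zpowers_iff.1 a.2
      show a.1 ^ 2 ^ 1 = 1
      rw [← hn, pow_one, pow_two, ← zpow_add, ← two_mul, zpow_mul, zpow_two, hy2, one_zpow]
    obtain ⟨m, hm, hle⟩ := exists_conj_le_of_maximal T.2 hTM hmax hp (Subgroup.zpowers_le.2 hy)
    exact ⟨m, hm, hle (conj_mem_conjS (Subgroup.mem_zpowers y))⟩
  have hF1 : ∀ g, g * z * g⁻¹ ∈ M → g ∈ M := by
    intro g hg
    obtain ⟨m, hm, hmT⟩ := hconj _ hg (mul_self_conj S.z_sq)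
    have := hF (m * g) (by
      have h1 := hTX hmT
      rwa [show m * (g * z * g⁻¹) * m⁻¹ = m * g * z * (m * g)⁻¹ by group] at h1)
    have h2 := mul_mem (inv_mem hm) this
    rwa [inv_mul_cancel_left] at h2
  have hCd : ∀ u ∈ S.U, u ≠ 1 → ∀ h, h * u = u * h → h ∈ M := fun u hu hu1 h hh =>
    S.mem_normalizer_U (hd u hu hu1 h hh)
  have hF2 : ∀ u ∈ S.U, u ≠ 1 → ∀ g, g * u * g⁻¹ ∈ M → g ∈ M := by
    intro u hu hu1 g hg
    obtain ⟨m, hm, hmT⟩ := hconj _ hg (mul_self_conj (S.U_sq u hu))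
    set k := m * g with hk
    have h1 : k * u * k⁻¹ ∈ S.X := by
      have h1 := hTX hmT
      rwa [show m * (g * u * g⁻¹) * m⁻¹ = k * u * k⁻¹ by rw [hk]; group] at h1
    have h2 : k⁻¹ * z * k ∈ M := by
      refine hCd u hu hu1 _ ?_
      have := S.mem_X.1 h1
      calc k⁻¹ * z * k * u = k⁻¹ * (z * (k * u * k⁻¹)) * k := by group
        _ = k⁻¹ * (k * u * k⁻¹ * z) * k := by rw [this]
        _ = u * (k⁻¹ * z * k) := by group
    have h3 : k⁻¹ ∈ M := hF1 _ (by rwa [inv_inv])
    have h4 := mul_mem (inv_mem hm) (inv_mem h3)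
    rwa [inv_inv, hk, inv_mul_cancel_left] at h4
  have hQz : ∀ Q : Subgroup G, Q ≤ M → z ∈ Q → Subgroup.normalizer (Q : Set G) ≤ M :=
    fun Q hQ hzQ g hg => hF1 g (hQ ((Subgroup.mem_normalizer_iff.1 hg z).1 hzQ))
  -- no local subgroup outside `M`
  have hloc : ∀ P : Subgroup G, IsPGroup 2 P → P ≠ ⊥ → P ≤ M →
      Subgroup.normalizer (P : Set G) ≤ M := by
    suffices h : ∀ n, ∀ P : Subgroup G, Nat.card G - Nat.card P = n → IsPGroup 2 P → P ≠ ⊥ →
        P ≤ M → Subgroup.normalizer (P : Set G) ≤ M from fun P => h _ P rfl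
    intro n
    induction n using Nat.strong_induction_on with
    | _ n ih =>
    intro P₀ hn hP₀ hP₀1 hP₀M
    obtain ⟨m, hm, hle⟩ := exists_conj_le_of_maximal T.2 hTM hmax hP₀ hP₀M
    suffices h : Subgroup.normalizer (conjS m P₀ : Set G) ≤ M by
      intro g hg
      have h1 := h (mem_normalizer_conjS (g := m) hg)
      have h2 := mul_mem (mul_mem (inv_mem hm) h1) hm
      rwa [show m⁻¹ * (m * g * m⁻¹) * m = g by group] at h2
    set P := conjS m P₀ with hPdef
    have hP : IsPGroup 2 P := hP₀.map _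
    have hPX : P ≤ S.X := hle.trans hTX
    have hPM : P ≤ M := hPX.trans hXM
    set N := Subgroup.normalizer (P : Set G) with hN
    by_contra hnot
    obtain ⟨l, hlN, hlM⟩ := SetLike.not_le_iff_exists.1 hnot
    have hzN : z ∈ N := Subgroup.mem_normalizer_iff.2 fun p => by
      constructor
      · intro hp; rw [← S.mem_X.1 (hPX hp)]; group; exact hp
      · intro hp
        have h := S.mem_X.1 (hPX hp)
        have : z * p * z⁻¹ = p := by
          calc z * p * z⁻¹ = z⁻¹ * (z * (z * p * z⁻¹)) := by group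
            _ = z⁻¹ * (z * p * z⁻¹ * z) := by rw [h]
            _ = p := by group
        rwa [this] at hp
    have hdN : d ∈ N := Subgroup.mem_normalizer_iff.2 fun p => by
      constructor
      · intro hp; rw [← hdT p (hle hp)]; group; exact hp
      · intro hp
        have h := hdT _ (hle hp)
        have : d * p * d⁻¹ = p := by
          calc d * p * d⁻¹ = d⁻¹ * (d * (d * p * d⁻¹)) := by group
            _ = d⁻¹ * (d * p * d⁻¹ * d) := by rw [h]
            _ = p := by group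
        rwa [this] at hp
    have hzP : z ∉ P := fun h => hlM (hQz P hPM h hlN)
    have hdP : d ∉ P := fun h =>
      hlM (hF2 d hdU hd1 l (hPM ((Subgroup.mem_normalizer_iff.1 hlN d).1 h)))
    set d' := l * d * l⁻¹ with hd'
    have hd'N : d' ∈ N := mul_mem (mul_mem hlN hdN) (inv_mem hlN)
    have hd'M : d' ∉ M := fun h => hlM (hF2 d hdU hd1 l h)
    have hd'2 : d' * d' = 1 := mul_self_conj (S.U_sq d hdU)
    -- the group `N / P`
    have hPn : (P.subgroupOf N).Normal :=
      ⟨fun p hp g => by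
        rw [Subgroup.mem_subgroupOf] at hp ⊢
        exact (Subgroup.mem_normalizer_iff.1 g.2 p.1).1 hp⟩
    let q : N →* N ⧸ P.subgroupOf N := QuotientGroup.mk' _
    set za : N := ⟨z, hzN⟩
    set da : N := ⟨d', hd'N⟩
    have hq1 : ∀ x : N, q x = 1 ↔ x.1 ∈ P := fun x => by
      show (QuotientGroup.mk x : N ⧸ P.subgroupOf N) = 1 ↔ _
      rw [QuotientGroup.eq_one_iff, Subgroup.mem_subgroupOf]
    have hqz : q za * q za = 1 := by
      rw [← map_mul, hq1]; show z * z ∈ P; rw [S.z_sq]; exact one_mem _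
    have hqd : q da * q da = 1 := by
      rw [← map_mul, hq1]; show d' * d' ∈ P; rw [hd'2]; exact one_mem _
    rcases Nat.even_or_odd (orderOf (q za * q da)) with ⟨k, hk⟩ | hodd
    · -- a larger bad subgroup
      set w := (za * da) ^ k with hw
      have hw2 : q w * q w = 1 := by
        rw [hw, map_pow, ← pow_add, ← hk, map_mul, pow_orderOf_eq_one]
      have hw1 : q w ≠ 1 := by
        rw [hw, map_pow, map_mul]
        intro h
        have := orderOf_dvd_of_pow_eq_one h
        rw [hk] at this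
        have hpos : 0 < orderOf (q za * q da) := orderOf_pos _
        have hk0 : 0 < k := by omega
        have := Nat.le_of_dvd hk0 this
        omega
      -- `q za` and `q da` invert, hence centralise, `q w`
      have hinv : ∀ y, (y = q za ∨ y = q da) → y * q w * y⁻¹ = q w := by
        intro y hy
        have hyi : y⁻¹ = y := inv_eq_of_mul_eq_one_left (by rcases hy with rfl | rfl <;> assumption)
        have e : y * (q za * q da) * y⁻¹ = (q za * q da)⁻¹ := dihedral_inv hqz hqd hy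
        rw [hw, map_pow, map_mul, ← conj_pow, e, inv_pow]
        have h2 : (q za * q da) ^ k * (q za * q da) ^ k = 1 := by
          rw [← pow_add, ← hk, pow_orderOf_eq_one]
        exact inv_eq_of_mul_eq_one_left h2
      have hwn : ∀ x : N, (x = za ∨ x = da) → x.1 * w.1 * x.1⁻¹ ∈ P ⊔ Subgroup.zpowers w.1 := by
        intro x hx
        have h := hinv (q x) (by rcases hx with rfl | rfl <;> simp)
        rw [← map_inv, ← map_mul, ← map_mul] at h
        have hm : q (x * w * x⁻¹ * w⁻¹) = 1 := by rw [map_mul, h, map_inv, mul_inv_cancel]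
        have h1 := (hq1 _).1 hm
        have h2 := mul_mem (Subgroup.mem_sup_left (T := Subgroup.zpowers w.1) h1)
          (Subgroup.mem_sup_right (S := P) (Subgroup.mem_zpowers w.1))
        simpa using h2
      have hwsq : w.1 * w.1 ∈ P := by
        have h := hw2
        rw [← map_mul, hq1] at h
        exact h
      have hwp : IsPGroup 2 (Subgroup.zpowers w.1) := by
        obtain ⟨a, ha⟩ := hP ⟨_, hwsq⟩
        have ha' : (w.1 * w.1) ^ 2 ^ a = 1 := congrArg Subtype.val ha
        intro b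
        refine ⟨a + 1, Subtype.ext ?_⟩
        obtain ⟨i, hi⟩ := Subgroup.mem_zpowers_iff.1 b.2
        show b.1 ^ 2 ^ (a + 1) = 1
        rw [← hi, ← zpow_natCast (w.1 ^ i), ← zpow_mul, mul_comm, zpow_mul, zpow_natCast, pow_succ',
          pow_mul, pow_two, ha', one_zpow]
      set P' := P ⊔ Subgroup.zpowers w.1 with hP'
      have hwN : Subgroup.zpowers w.1 ≤ N := Subgroup.zpowers_le.2 w.2
      have hP'g : IsPGroup 2 P' := by
        rw [hP', sup_comm]; exact hwp.to_sup_of_normal_right' hP hwN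
      have hnormP' : ∀ x : N, (x = za ∨ x = da) → x.1 ∈ Subgroup.normalizer (P' : Set G) := by
        intro x hx
        refine mem_normalizer_of_conjS_eq (Subgroup.eq_of_le_of_card_ge ?_ (card_conjS _ _).ge)
        rw [hP', conjS, Subgroup.map_sup, MonoidHom.map_zpowers]
        refine sup_le ?_ (Subgroup.zpowers_le.2 (by simpa using hwn x hx))
        exact le_sup_of_le_left (conjS_eq_of_mem_normalizer x.2).le
      have hzp : IsPGroup 2 (Subgroup.zpowers z) :=
        IsPGroup.of_card (p := 2) (n := 1) (by rw [Nat.card_zpowers, S.orderOf_z, pow_one])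
      have hS : IsPGroup 2 (Subgroup.zpowers z ⊔ P' : Subgroup G) :=
        hzp.to_sup_of_normal_right' hP'g (Subgroup.zpowers_le.2 (hnormP' za (Or.inl rfl)))
      have hP'M : P' ≤ M := by
        refine le_sup_right.trans (b := Subgroup.zpowers z ⊔ P') ?_
        by_contra hnot'
        set Sz := Subgroup.zpowers z ⊔ P' with hSz
        have hlt : Sz ⊓ M < Sz := lt_of_le_of_ne inf_le_left fun h => hnot' (inf_eq_left.1 h)
        have h1 := lt_inf_normalizer hS hlt
        have hzm : z ∈ Sz ⊓ M := ⟨Subgroup.mem_sup_left (Subgroup.mem_zpowers z),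
          hXM (S.mem_X.2 rfl)⟩
        exact h1.ne (le_antisymm h1.le
          (le_inf inf_le_left (inf_le_right.trans (hQz _ inf_le_right hzm))))
      have hP'1 : P' ≠ ⊥ := fun h => hw1 ((hq1 w).2 (by
        have : w.1 ∈ P' := Subgroup.mem_sup_right (Subgroup.mem_zpowers _)
        rw [h, Subgroup.mem_bot] at this
        rw [this]; exact one_mem _))
      have hlt : Nat.card P < Nat.card P' := by
        refine lt_of_le_of_ne (Subgroup.card_le_of_le le_sup_left) fun h => hw1 ((hq1 w).2 ?_)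
        have := Subgroup.eq_of_le_of_card_ge (le_sup_left : P ≤ P') h.ge
        rw [this]; exact Subgroup.mem_sup_right (Subgroup.mem_zpowers _)
      have hcard : Nat.card P = Nat.card P₀ := card_conjS m P₀
      have hG : Nat.card P' ≤ Nat.card G := Subgroup.card_le_card_group _
      exact hd'M (ih (Nat.card G - Nat.card P') (by omega) P' rfl hP'g hP'1 hP'M
        (hnormP' da (Or.inr rfl)))
    · obtain ⟨m', hm'⟩ := conj_of_odd hqz hqd hodd
      rw [← map_mul, ← map_pow, ← map_inv, ← map_mul, ← map_mul] at hm'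
      set l₂ := (za * da) ^ m'
      have hπ : da.1⁻¹ * (l₂.1 * z * l₂.1⁻¹) ∈ P := by
        have := (hq1 (da⁻¹ * (l₂ * za * l₂⁻¹))).1 (by rw [map_mul, hm', map_inv, inv_mul_cancel])
        simpa using this
      set π := da.1⁻¹ * (l₂.1 * z * l₂.1⁻¹) with hπdef
      set l₃ := l⁻¹ * l₂.1 with hl₃
      have hl₃N : l₃ ∈ N := mul_mem (inv_mem hlN) l₂.2
      have hπ' : l⁻¹ * π * l ∈ P := by
        have := (Subgroup.mem_normalizer_iff.1 (inv_mem hlN) π).1 hπ
        simpa using this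
      have he3 : l₃ * z * l₃⁻¹ = d * (l⁻¹ * π * l) := by
        rw [hπdef, hl₃]; show _ = d * (l⁻¹ * (d'⁻¹ * _) * l); rw [hd']; group
      have hl₃M : l₃ ∈ M := hF1 _ (by
        rw [he3]; exact mul_mem (Subgroup.le_normalizer hdU) (hPM hπ'))
      set u := l₃⁻¹ * d * l₃ with hu
      have huU : u ∈ S.U := by
        have := (Subgroup.mem_normalizer_iff.1 (inv_mem hl₃M) d).1 hdU
        simpa [hu] using this
      have hu1 : u ≠ 1 := fun e => hd1 (by
        calc d = l₃ * u * l₃⁻¹ := by rw [hu]; group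
          _ = 1 := by rw [e]; group)
      have huzP : u * z ∈ P := by
        have h1 := (Subgroup.mem_normalizer_iff.1 (inv_mem hl₃N) (l⁻¹ * π * l)).1 hπ'
        have e : l₃⁻¹ * (l⁻¹ * π * l) * l₃⁻¹⁻¹ = u * z := by
          calc l₃⁻¹ * (l⁻¹ * π * l) * l₃⁻¹⁻¹
              = (l₃⁻¹ * d * l₃)⁻¹ * (l₃⁻¹ * (d * (l⁻¹ * π * l)) * l₃) := by group
            _ = u⁻¹ * z := by rw [← he3, hu]; group
            _ = u * z := by rw [S.U_inv huU]
        rwa [e] at h1
      refine hlM ?_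
      have h2 := hPX ((Subgroup.mem_normalizer_iff.1 hlN _).1 huzP)
      have h3 : l⁻¹ * z * l ∈ S.X := by
        refine he u huU hu1 _ ?_
        have := S.mem_X.1 h2
        calc l⁻¹ * z * l * (u * z) = l⁻¹ * (z * (l * (u * z) * l⁻¹)) * l := by group
          _ = l⁻¹ * (l * (u * z) * l⁻¹ * z) * l := by rw [this]
          _ = u * z * (l⁻¹ * z * l) := by group
      simpa using inv_mem (hF1 l⁻¹ (by rw [inv_inv]; exact hXM h3))
  -- conclusion
  refine Subgroup.normalizer_eq_top_iff.1 (eq_top_iff.2 fun g _ => ?_)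
  by_contra hg
  set d' := g * d * g⁻¹ with hd'
  have hd'M : d' ∉ M := fun h => hg (hF2 d hdU hd1 g h)
  have hd'2 : d' * d' = 1 := mul_self_conj (S.U_sq d hdU)
  rcases Nat.even_or_odd (orderOf (z * d')) with ⟨k, hk⟩ | hodd
  · set w := (z * d') ^ k with hw
    have hww : w * w = 1 := by rw [hw, ← pow_add, ← hk, pow_orderOf_eq_one]
    have hw1 : w ≠ 1 := by
      intro h
      have := orderOf_dvd_of_pow_eq_one h
      rw [hk] at this
      have hpos : 0 < orderOf (z * d') := orderOf_pos _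
      have hk0 : 0 < k := by omega
      have := Nat.le_of_dvd hk0 this
      omega
    have hinv : ∀ y, (y = z ∨ y = d') → y * w * y⁻¹ = w := by
      intro y hy
      have hyy : y * y = 1 := by
        rcases hy with rfl | rfl
        exacts [S.z_sq, hd'2]
      have hyi : y⁻¹ = y := inv_eq_of_mul_eq_one_left hyy
      have e : y * (z * d') * y⁻¹ = (z * d')⁻¹ := dihedral_inv S.z_sq hd'2 hy
      rw [hw, ← conj_pow, e, inv_pow, ← hw]
      exact inv_eq_of_mul_eq_one_left hww
    have hwM : w ∈ M := hXM (S.mem_X.2 (mul_inv_eq_iff_eq_mul.1 (hinv z (Or.inl rfl))).symm)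
    have hwp : IsPGroup 2 (Subgroup.zpowers w) :=
      IsPGroup.of_card (p := 2) (n := 1) (by
        rw [Nat.card_zpowers, pow_one]; exact orderOf_eq_prime (by rw [pow_two]; exact hww) hw1)
    refine hd'M (hloc _ hwp (by rwa [Ne, Subgroup.zpowers_eq_bot]) (Subgroup.zpowers_le.2 hwM) ?_)
    apply mem_normalizer_of_conjS_eq
    rw [conjS, MonoidHom.map_zpowers]
    exact congrArg Subgroup.zpowers (hinv d' (Or.inr rfl))
  · obtain ⟨m, hm⟩ := conj_of_odd S.z_sq hd'2 hodd
    have h1 : g⁻¹ * (z * d') ^ m * z * (g⁻¹ * (z * d') ^ m)⁻¹ = d := by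
      calc g⁻¹ * (z * d') ^ m * z * (g⁻¹ * (z * d') ^ m)⁻¹
          = g⁻¹ * ((z * d') ^ m * z * ((z * d') ^ m)⁻¹) * g := by group
        _ = d := by rw [hm, hd']; group
    exact S.z_notin (hz _ d (S.U_le hdU) (fun k hk => S.U_cent d hdU k hk) h1 ▸ hdU)

theorem card_psu62 {K : Type*} [Field K] [Fintype K] (hK : Fintype.card K = 4) :
    Nat.card (Cfsg.PSU 6 K 2) = 9196830720 := by
  have h := Cfsg.Agent.S0280.result (F := K) (q := 2) (by simpa using hK) 6 (by norm_num)
  have hp : (∏ i ∈ Finset.range 6, (if Even i then 2 ^ (i + 1) + 1 else 2 ^ (i + 1) - 1 : ℕ)) =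
      3 * 3 * 9 * 15 * 33 * 63 := by
    simp [Finset.prod_range_succ, Nat.even_iff]
  rw [hp] at h
  norm_num at h
  omega

/-- `G/U` is the automorphism group of `U₆(2)` -/
theorem quotient_aut [Finite G] [hUn : S.U.Normal] {K : Type*} [Field K] [Fintype K]
    (hK : Fintype.card K = 4) (hz : S.ZNotConj) {d : G} (hd : d ∈ S.U) (hd1 : d ≠ 1)
    (G₀ : Subgroup G) (hG₀ : G₀ ≤ Subgroup.centralizer ({d} : Set G))
    (hidx : G₀.relIndex (Subgroup.centralizer ({d} : Set G)) = 2)
    (φ : G₀ →* Cfsg.PSU 6 K 2) (hφ : Function.Surjective φ) (hker : ∀ x, φ x = 1 ↔ x.1 ∈ S.U) :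
    Nonempty ((G ⧸ S.U) ≃* MulAut (Cfsg.PSU 6 K 2)) := by
  classical
  have hF : Fintype.card K = 2 ^ 2 := by simpa using hK
  have := Cfsg.Agent.Lib.Unitary.isSimpleGroup_PSU (n := 6) hF (by norm_num) (by norm_num)
  have hcard := card_psu62 hK
  let C := Subgroup.centralizer ({d} : Set G)
  let N := Subgroup.centralizer (S.U : Set G)
  have hNC : N ≤ C := Subgroup.centralizer_le (Set.singleton_subset_iff.2 hd)
  -- index of the centraliser of `d`
  have hC3 : C.index = 3 := by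
    have h := MulAction.index_stabilizer (ConjAct G) d
    rw [ConjAct.stabilizer_eq_centralizer] at h
    have horb : MulAction.orbit (ConjAct G) d = {u | u ∈ S.U ∧ u ≠ 1} := by
      ext u
      rw [ConjAct.mem_orbit_conjAct, isConj_iff]
      constructor
      · rintro ⟨g, hg⟩
        have hu : u = g⁻¹ * d * g := by rw [← hg]; group
        refine ⟨?_, fun e => hd1 ?_⟩
        · rw [hu]; simpa using hUn.conj_mem d hd g⁻¹
        · rw [← hg, e]; group
      · rintro ⟨hu, hu1⟩
        rcases S.U_orbit hd hd1 hu hu1 with e | e | e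
        · exact ⟨1, by rw [e]; group⟩
        · exact ⟨S.c⁻¹, by rw [e]; group⟩
        · exact ⟨S.c, by rw [e]; group⟩
    have h3 : Nat.card {u | u ∈ S.U ∧ u ≠ 1} = 3 := by
      have e : {u | u ∈ S.U ∧ u ≠ 1} = (S.U : Set G) \ {1} := by ext u; simp
      rw [e, Nat.card_coe_set_eq, Set.ncard_diff_singleton_of_mem S.U.one_mem,
        ← Nat.card_coe_set_eq]
      show Nat.card S.U - 1 = 3
      rw [S.U_card]
    rw [Nat.card_coe_set_eq] at h3
    rw [horb, h3] at h
    exact h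
  -- `N` lies with index 2 in `C`
  obtain ⟨h, hh, hflip⟩ := S.flip
  have hout : ∃ τ ∈ C, τ ∉ N := by
    have hhX := S.mem_X.2 hh
    have hhi := S.not_inner_flip hflip
    obtain ⟨d₁, hd₁, hd₁1, hdf, honly⟩ := S.outer_fix hhX hhi
    obtain ⟨q, hqd⟩ : ∃ q : G, q * d₁ * q⁻¹ = d := by
      rcases S.U_orbit hd₁ hd₁1 hd hd1 with e | e | e
      · exact ⟨1, by rw [e]; group⟩
      · exact ⟨S.c, e.symm⟩
      · exact ⟨S.c⁻¹, by rw [e]; group⟩
    refine ⟨q * h * q⁻¹, Subgroup.mem_centralizer_singleton_iff.2 ?_, fun hN => ?_⟩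
    · calc q * h * q⁻¹ * d = q * (h * d₁ * h⁻¹) * h * q⁻¹ := by rw [← hqd]; group
        _ = d * (q * h * q⁻¹) := by rw [hdf, ← hqd]; group
    · have hm := S.conj_U S.c_mem hd₁
      have hq' : q * (S.c * d₁ * S.c⁻¹) * q⁻¹ ∈ S.U := hUn.conj_mem _ hm q
      have h5 := (Subgroup.mem_centralizer_iff.1 hN _ hq').symm
      have h6 : h * (S.c * d₁ * S.c⁻¹) * h⁻¹ = S.c * d₁ * S.c⁻¹ := by
        calc h * (S.c * d₁ * S.c⁻¹) * h⁻¹
            = q⁻¹ * (q * h * q⁻¹ * (q * (S.c * d₁ * S.c⁻¹) * q⁻¹)) * (q * h * q⁻¹)⁻¹ * q := by group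
          _ = q⁻¹ * (q * (S.c * d₁ * S.c⁻¹) * q⁻¹ * (q * h * q⁻¹)) * (q * h * q⁻¹)⁻¹ * q := by rw [h5]
          _ = S.c * d₁ * S.c⁻¹ := by group
      rcases honly _ hm h6 with e | e
      · exact hd₁1 (by simpa using e)
      · exact S.c_moves hd₁ hd₁1 e
  have hG₀N : G₀ ≤ N := by
    let R : Subgroup G₀ := N.subgroupOf G₀
    have hNn : N.Normal := Subgroup.normal_centralizer
    have hRn : R.Normal := inferInstance
    rcases (IsSimpleGroup.eq_bot_or_eq_top_of_normal (R.map φ) (hRn.map φ hφ)) with e | e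
    · exfalso
      -- `G₀` acts on two points
      have hle : R ≤ φ.ker := by rw [← Subgroup.map_eq_bot_iff]; exact e
      obtain ⟨v, hv, hvd⟩ : ∃ v ∈ S.U, v ≠ 1 ∧ v ≠ d :=
        ⟨_, S.conj_U S.c_mem hd, fun e => hd1 (by simpa using e), S.c_moves hd hd1⟩
      let f : G₀ → Bool := fun x => decide (x.1 * v * x.1⁻¹ = v)
      have hf : ∀ x y, f x = f y → φ x = φ y := by
        intro x y hxy
        have hmv : ∀ x : G₀, x.1 * v * x.1⁻¹ = v ∨ x.1 * v * x.1⁻¹ = d * v := by
          intro x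
          have hxd : x.1 * d * x.1⁻¹ = d :=
            mul_inv_eq_iff_eq_mul.2 (Subgroup.mem_centralizer_singleton_iff.1 (hG₀ x.2))
          have hne : x.1 * v * x.1⁻¹ ≠ 1 := fun e => hvd.1 (by simpa using e)
          rcases S.U_cases hd hv hd1 hvd.1 (Ne.symm hvd.2) (hUn.conj_mem v hv x.1) with e | e | e | e
          · exact absurd e hne
          · refine absurd ?_ hvd.2
            calc v = x.1⁻¹ * (x.1 * v * x.1⁻¹) * x.1 := by group
              _ = x.1⁻¹ * (x.1 * d * x.1⁻¹) * x.1 := by rw [e, hxd]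
              _ = d := by group
          · exact Or.inl e
          · exact Or.inr e
        have hfix : x.1 * v * x.1⁻¹ = y.1 * v * y.1⁻¹ := by
          have hiff := decide_eq_decide.1 hxy
          rcases hmv x with hx | hx <;> rcases hmv y with hy | hy
          · rw [hx, hy]
          · rw [hx, hiff.1 hx]
          · rw [hy, hiff.2 hy]
          · rw [hx, hy]
        rw [← inv_mul_eq_one, ← map_inv, ← map_mul]
        refine hle (Subgroup.mem_subgroupOf.2 (Subgroup.mem_centralizer_iff.2 fun u hu => ?_))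
        set g := (x⁻¹ * y : G₀).1 with hg
        have hgv : g * v * g⁻¹ = v := by
          rw [hg, Subgroup.coe_mul, InvMemClass.coe_inv]
          calc x.1⁻¹ * y.1 * v * (x.1⁻¹ * y.1)⁻¹ = x.1⁻¹ * (y.1 * v * y.1⁻¹) * x.1 := by group
            _ = v := by rw [← hfix]; group
        have hgd : g * d * g⁻¹ = d :=
          mul_inv_eq_iff_eq_mul.2 (Subgroup.mem_centralizer_singleton_iff.1 (hG₀ (x⁻¹ * y).2))
        symm
        apply mul_inv_eq_iff_eq_mul.1
        rcases S.U_cases hd hv hd1 hvd.1 (Ne.symm hvd.2) hu with e | e | e | e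
        · rw [e]; group
        · rw [e, hgd]
        · rw [e, hgv]
        · rw [e, show g * (d * v) * g⁻¹ = g * d * g⁻¹ * (g * v * g⁻¹) by group, hgd, hgv]
      have h2 : Nat.card (Cfsg.PSU 6 K 2) ≤ 2 := by
        have hinj : Function.Injective fun p : Cfsg.PSU 6 K 2 => f (Function.surjInv hφ p) :=
          fun p q e => by
            rw [← Function.surjInv_eq hφ p, ← Function.surjInv_eq hφ q]; exact hf _ _ e
        have := Nat.card_le_card_of_injective _ hinj
        simpa using this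
      omega
    · intro x hx
      have : φ ⟨x, hx⟩ ∈ R.map φ := by rw [e]; trivial
      obtain ⟨r, hr, hre⟩ := this
      have h1 : φ (r⁻¹ * ⟨x, hx⟩) = 1 := by rw [map_mul, map_inv, hre, inv_mul_cancel]
      have h2 : r.1⁻¹ * x ∈ N := by
        refine Subgroup.mem_centralizer_iff.2 fun u hu => ?_
        exact S.U_cent u hu _ (S.U_le ((hker _).1 h1))
      have := mul_mem (show r.1 ∈ N from hr) h2
      rwa [mul_inv_cancel_left] at this
  have hNC2 : N.relIndex C = 2 ∧ G₀.relIndex N = 1 := by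
    have h := Subgroup.relIndex_mul_relIndex G₀ N C hG₀N hNC
    rw [hidx] at h
    have hne : N.relIndex C ≠ 1 := fun e => by
      obtain ⟨τ, hτ, hτN⟩ := hout
      exact hτN (Subgroup.relIndex_eq_one.1 e hτ)
    have hd2 : N.relIndex C ∣ 2 := ⟨_, h.symm.trans (mul_comm _ _)⟩
    rcases (Nat.dvd_prime Nat.prime_two).1 hd2 with e | e
    · exact absurd e hne
    · rw [e] at h; exact ⟨e, by omega⟩
  have hNG₀ : N = G₀ := le_antisymm (Subgroup.relIndex_eq_one.1 hNC2.2) hG₀N
  have hN6 : N.index = 6 := by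
    rw [← Subgroup.relIndex_mul_index hNC, hNC2.1, hC3]
  subst hNG₀
  have hNn : N.Normal := Subgroup.normal_centralizer
  have hUN : S.U ≤ N := fun u hu => Subgroup.mem_centralizer_iff.2 fun w hw =>
    S.U_cent w hw u (S.U_le hu)
  -- the homomorphism to the automorphisms
  have hkerU : φ.ker = S.U.subgroupOf N := by
    ext x; rw [MonoidHom.mem_ker, hker, Subgroup.mem_subgroupOf]
  let eN : (N ⧸ S.U.subgroupOf N) ≃* Cfsg.PSU 6 K 2 :=
    (QuotientGroup.quotientMulEquivOfEq hkerU.symm).trans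
      (QuotientGroup.quotientKerEquivOfSurjective φ hφ)
  have hmap : ∀ g : G, (S.U.subgroupOf N).map (↑(MulAut.conjNormal g : MulAut N) : N →* N) =
      S.U.subgroupOf N := by
    intro g
    ext x
    rw [Subgroup.mem_map]
    constructor
    · rintro ⟨y, hy, rfl⟩
      rw [Subgroup.mem_subgroupOf] at hy ⊢
      show ((MulAut.conjNormal g y : N) : G) ∈ S.U
      rw [MulAut.conjNormal_apply]
      exact hUn.conj_mem _ hy g
    · intro hx
      rw [Subgroup.mem_subgroupOf] at hx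
      refine ⟨MulAut.conjNormal g⁻¹ x, ?_, ?_⟩
      · rw [Subgroup.mem_subgroupOf, MulAut.conjNormal_apply]
        exact hUn.conj_mem _ hx g⁻¹
      · show MulAut.conjNormal g (MulAut.conjNormal g⁻¹ x) = x
        rw [← MulAut.mul_apply, ← map_mul, mul_inv_cancel, map_one, MulAut.one_apply]
  let β : G →* MulAut (N ⧸ S.U.subgroupOf N) :=
    { toFun := fun g => QuotientGroup.congr _ _ (MulAut.conjNormal g) (hmap g)
      map_one' := by
        refine MulEquiv.ext fun p => ?_
        obtain ⟨x, rfl⟩ := QuotientGroup.mk_surjective p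
        rw [QuotientGroup.congr_mk, map_one]
        rfl
      map_mul' := fun a b => by
        refine MulEquiv.ext fun p => ?_
        obtain ⟨x, rfl⟩ := QuotientGroup.mk_surjective p
        rw [MulAut.mul_apply, QuotientGroup.congr_mk, QuotientGroup.congr_mk, QuotientGroup.congr_mk,
          map_mul]
        rfl }
  have hβ : ∀ g x, β g (QuotientGroup.mk x) = QuotientGroup.mk (MulAut.conjNormal g x) :=
    fun g x => rfl
  have hkerβ : ∀ g, β g = 1 → g ∈ S.U := by
    intro g hg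
    have hfix : ∀ n ∈ N, n⁻¹ * (g * n * g⁻¹) ∈ S.U := by
      intro n hn
      have := (hβ g ⟨n, hn⟩).symm.trans (by rw [hg]; rfl :
        β g (QuotientGroup.mk ⟨n, hn⟩) = QuotientGroup.mk ⟨n, hn⟩)
      have h2 := QuotientGroup.eq.1 this.symm
      rw [Subgroup.mem_subgroupOf] at h2
      simpa [MulAut.conjNormal_apply] using h2
    have hJN : ∀ j ∈ S.J, j ∈ N := fun j hj =>
      Subgroup.mem_centralizer_iff.2 fun u hu => S.U_cent u hu j hj
    have hgX : g ∈ S.X := by
      have h1 := hfix z (hJN z S.z_mem)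
      have hcen : ∀ k ∈ S.J, g * z * g⁻¹ * k = k * (g * z * g⁻¹) := by
        intro k hk
        have e : g * z * g⁻¹ = z * (z⁻¹ * (g * z * g⁻¹)) := by group
        rw [e, mul_assoc, S.U_cent _ h1 k hk, ← mul_assoc, S.z_center hk, mul_assoc]
      have hJ : g * z * g⁻¹ ∈ S.J := by
        have e : g * z * g⁻¹ = z * (z⁻¹ * (g * z * g⁻¹)) := by group
        rw [e]; exact mul_mem S.z_mem (S.U_le h1)
      rw [S.mem_X]
      exact mul_inv_eq_iff_eq_mul.1 (hz g _ hJ hcen rfl)
    have hgJ : g ∈ S.J := by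
      refine S.mem_J_of_act hgX fun w => ?_
      obtain ⟨j, hj, rfl⟩ := S.π_surj w
      rw [S.act_π hgX hj, show g * j * g⁻¹ = j * (j⁻¹ * (g * j * g⁻¹)) by group,
        S.π_mul hj (S.U_le (hfix j (hJN j hj))),
        (S.π_eq_zero (S.U_le (hfix j (hJN j hj)))).2 (fun k hk => S.U_cent _ (hfix j (hJN j hj)) k hk),
        add_zero]
    have hgN := hJN g hgJ
    have hcen : φ ⟨g, hgN⟩ ∈ Subgroup.center (Cfsg.PSU 6 K 2) := by
      refine Subgroup.mem_center_iff.2 fun p => ?_
      obtain ⟨⟨n, hn⟩, rfl⟩ := hφ p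
      rw [← map_mul, ← map_mul]
      refine inv_mul_eq_one.1 ?_
      rw [← map_inv, ← map_mul, hker]
      have hm := hfix n hn
      have := hUn.conj_mem _ hm g⁻¹
      simp only [Subgroup.coe_mul, InvMemClass.coe_inv, mul_inv_rev]
      convert this using 1
      group
    have hbot : Subgroup.center (Cfsg.PSU 6 K 2) = ⊥ := by
      refine (IsSimpleGroup.eq_bot_or_eq_top_of_normal _ inferInstance).resolve_right fun htop => ?_
      let : CommGroup (Cfsg.PSU 6 K 2) := { (inferInstance : Group (Cfsg.PSU 6 K 2)) with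
        mul_comm := fun a b => Subgroup.mem_center_iff.1 (show b ∈ Subgroup.center _ by rw [htop]; trivial) a }
      have hp := IsSimpleGroup.prime_card (α := Cfsg.PSU 6 K 2)
      rw [hcard] at hp
      norm_num at hp
    rw [hbot, Subgroup.mem_bot, hker] at hcen
    exact hcen
  let conjE : MulAut (N ⧸ S.U.subgroupOf N) →* MulAut (Cfsg.PSU 6 K 2) :=
    { toFun := fun a => (eN.symm.trans a).trans eN
      map_one' := MulEquiv.ext fun p => by simp
      map_mul' := fun a b => MulEquiv.ext fun p => by simp }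
  have hle : S.U ≤ (conjE.comp β).ker := by
    intro u hu
    rw [MonoidHom.mem_ker]
    have : β u = 1 := MulEquiv.ext fun p => by
      obtain ⟨⟨n, hn⟩, rfl⟩ := QuotientGroup.mk_surjective p
      rw [hβ, MulAut.one_apply]
      congr 1
      refine Subtype.ext ?_
      rw [MulAut.conjNormal_apply]
      rw [Subgroup.mem_centralizer_iff.1 hn u hu]; group
    rw [MonoidHom.comp_apply, this, map_one]
  let Φ : G ⧸ S.U →* MulAut (Cfsg.PSU 6 K 2) := QuotientGroup.lift S.U (conjE.comp β) hle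
  have hinj : Function.Injective Φ := by
    rw [injective_iff_map_eq_one]
    intro p hp
    obtain ⟨g, rfl⟩ := QuotientGroup.mk_surjective p
    rw [QuotientGroup.eq_one_iff]
    refine hkerβ g (MulEquiv.ext fun q => ?_)
    have h1 : (eN.symm.trans (β g)).trans eN = (1 : MulAut (Cfsg.PSU 6 K 2)) := hp
    have h2 := MulEquiv.congr_fun h1 (eN q)
    simpa using h2
  have hc1 : Nat.card (G ⧸ S.U) = 6 * Nat.card (Cfsg.PSU 6 K 2) := by
    have h1 := Subgroup.relIndex_mul_index hUN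
    have h2 : S.U.relIndex N = Nat.card (Cfsg.PSU 6 K 2) := by
      rw [Subgroup.relIndex, Subgroup.index, Nat.card_congr eN.toEquiv]
    rw [h2, hN6, Subgroup.index] at h1
    rw [← h1, mul_comm]
  have hc2 := Cfsg.Agent.S0815.result (F := K) 2 1 le_rfl (q := 2) (by norm_num) hF 6 (by norm_num)
    (by norm_num)
  have hfinA : Finite (MulAut (Cfsg.PSU 6 K 2)) :=
    Nat.finite_of_card_ne_zero (by rw [hc2]; exact by simp [hcard])
  refine ⟨MulEquiv.ofBijective Φ (hinj.bijective_of_nat_card_le ?_)⟩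
  rw [hc1, hc2]
  norm_num

end Cfsg.Agent.Lib.Fi23Local27.Setting
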