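import Cfsg.Agent.Lib.Fi23Local27.Quot
import Cfsg.Agent.Lib.Fi23Local27.End
import Cfsg.Agent.S1696
import Cfsg.Agent.S1714

/-!
The case distinction on the three outcomes of S3232 at `d` and `d z`, and the trichotomy.

Owner: helper27 (S3233).
-/

set_option autoImplicit false

open scoped commutatorElement

namespace Cfsg.Agent.Lib.Fi23Local27

universe u v w

namespace Setting

variable {G : Type u} [Group G] {z : G} (S : Setting z)

/-- `C(d)` normalises `U` and involves `U₆(2)` -/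
def Big (K : Type w) [Field K] [Fintype K] (d : G) : Prop :=
  (∀ h, h * d = d * h → ∀ u ∈ S.U, h * u * h⁻¹ ∈ S.U) ∧
    ∃ G₀ : Subgroup G, G₀ ≤ Subgroup.centralizer ({d} : Set G) ∧
      G₀.relIndex (Subgroup.centralizer ({d} : Set G)) = 2 ∧
      ∃ φ : G₀ →* Cfsg.PSU 6 K 2, Function.Surjective φ ∧ ∀ y, φ y = 1 ↔ (y : G) ∈ S.U

theorem U_third [Finite G] {d : G} (hd : d ∈ S.U) (hd1 : d ≠ 1) :
    S.c⁻¹ * d * S.c = d * (S.c * d * S.c⁻¹) := by
  have hm : S.c * d * S.c⁻¹ ∈ S.U := S.conj_U S.c_mem hd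
  have h1 : S.c * d * S.c⁻¹ ≠ 1 := fun h => hd1 (by simpa using h)
  have hp : d * (S.c * d * S.c⁻¹) ≠ 1 := fun e => S.c_moves hd hd1
    ((eq_inv_of_mul_eq_one_right e).trans (S.U_inv hd))
  rcases S.U_orbit hd hd1 (mul_mem hd hm) hp with e | e | e
  · exact absurd (mul_eq_left.1 e) h1
  · exact absurd (mul_eq_right.1 e) hd1
  · exact e.symm

/-- an element of `X` fixing `d` and exchanging the two other involutions of `U` -/
theorem exists_swap [Finite G] {d : G} (hd : d ∈ S.U) (hd1 : d ≠ 1) :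
    ∃ h ∈ S.X, h * d = d * h ∧ ∀ v ∈ S.U, v ≠ 1 → v ≠ d → h * v * h⁻¹ = d * v := by
  obtain ⟨h₀, hz₀, hflip⟩ := S.flip
  have hX₀ : h₀ ∈ S.X := S.mem_X.2 hz₀
  have hi₀ := S.not_inner_flip hflip
  obtain ⟨d₁, hd₁, hd₁1, hdf, -⟩ := S.outer_fix hX₀ hi₀
  obtain ⟨q, hq, hqd⟩ : ∃ q : G, S.Inner q ∧ q * d₁ * q⁻¹ = d := by
    rcases S.U_orbit hd₁ hd₁1 hd hd1 with e | e | e
    · exact ⟨1, S.inner_one, by rw [e]; group⟩
    · exact ⟨S.c, S.inner_c, e.symm⟩
    · exact ⟨S.c⁻¹, Inner.inv S S.inner_c, by rw [e]; group⟩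
  set h := q * h₀ * q⁻¹ with hh
  have hX : h ∈ S.X := mul_mem (mul_mem hq.1 hX₀) (inv_mem hq.1)
  have hi : ¬ S.Inner h := fun hi => hi₀ (by
    have := Inner.mul S (Inner.mul S (Inner.inv S hq) hi) hq
    rwa [show q⁻¹ * h * q = h₀ by rw [hh]; group] at this)
  have hfix : h * d * h⁻¹ = d := by
    calc h * d * h⁻¹ = q * (h₀ * d₁ * h₀⁻¹) * q⁻¹ := by rw [hh, ← hqd]; group
      _ = d := by rw [hdf, hqd]
  refine ⟨h, hX, mul_inv_eq_iff_eq_mul.1 hfix, fun v hv hv1 hvd => ?_⟩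
  have h3 := S.U_third hd hd1
  have e1 : h * (S.c * d * S.c⁻¹) * h⁻¹ = S.c⁻¹ * d * S.c := by
    rw [S.outer_conj_U hX hi hd, hfix]
  rcases S.U_orbit hd hd1 hv hv1 with e | e | e
  · exact absurd e hvd
  · rw [e, e1, h3]
  · rw [e, h3, show h * (d * (S.c * d * S.c⁻¹)) * h⁻¹ =
      h * d * h⁻¹ * (h * (S.c * d * S.c⁻¹) * h⁻¹) by group, hfix, e1, h3]

theorem CoreSplit.conj {t g : G} (hg : g ∈ S.X) (h : S.CoreSplit t) :
    S.CoreSplit (g * t * g⁻¹) := by
  obtain ⟨O, hodd, hinv, hnorm, hcomm, hsplit⟩ := h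
  have hzg : g * z = z * g := S.mem_X.1 hg
  have hback : ∀ k, k * (g * t * g⁻¹) = g * t * g⁻¹ * k → g⁻¹ * k * g * t = t * (g⁻¹ * k * g) := by
    intro k hk
    calc g⁻¹ * k * g * t = g⁻¹ * (k * (g * t * g⁻¹)) * g := by group
      _ = g⁻¹ * (g * t * g⁻¹ * k) * g := by rw [hk]
      _ = t * (g⁻¹ * k * g) := by group
  refine ⟨O.map (MulAut.conj g).toMonoidHom, ?_, ?_, ?_, ?_, ?_⟩
  · rwa [Subgroup.card_map_of_injective (MulAut.conj g).injective]
  · rintro o ⟨a, ha, rfl⟩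
    show z * (g * a * g⁻¹) * z = (g * a * g⁻¹)⁻¹
    calc z * (g * a * g⁻¹) * z = (z * g) * a * (g⁻¹ * z) := by group
      _ = g * (z * a * z) * g⁻¹ := by
        rw [← hzg, show g⁻¹ * z = z * g⁻¹ from
          (inv_mul_eq_iff_eq_mul.2 (by rw [← mul_assoc, hzg, mul_inv_cancel_right]))]
        group
      _ = (g * a * g⁻¹)⁻¹ := by rw [hinv a ha]; group
  · rintro k hk o ⟨a, ha, rfl⟩
    refine ⟨g⁻¹ * k * g * a * (g⁻¹ * k * g)⁻¹, hnorm _ (hback k hk) a ha, ?_⟩
    show g * _ * g⁻¹ = k * (g * a * g⁻¹) * k⁻¹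
    group
  · rintro o ⟨a, ha, rfl⟩
    show g * a * g⁻¹ * (g * t * g⁻¹) = g * t * g⁻¹ * (g * a * g⁻¹)
    calc g * a * g⁻¹ * (g * t * g⁻¹) = g * (a * t) * g⁻¹ := by group
      _ = g * (t * a) * g⁻¹ := by rw [hcomm a ha]
      _ = _ := by group
  · intro k hk
    obtain ⟨h, hh, hht, o, ho, he⟩ := hsplit _ (hback k hk)
    refine ⟨g * h * g⁻¹, mul_mem (mul_mem hg hh) (inv_mem hg), ?_, _, ⟨o, ho, rfl⟩, ?_⟩
    · calc g * h * g⁻¹ * (g * t * g⁻¹) = g * (h * t) * g⁻¹ := by group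
        _ = g * (t * h) * g⁻¹ := by rw [hht]
        _ = _ := by group
    · show k = g * h * g⁻¹ * (g * o * g⁻¹)
      calc k = g * (g⁻¹ * k * g) * g⁻¹ := by group
        _ = _ := by rw [he]; group

theorem Big.conj {d g : G} (hg : g ∈ S.X) (h : ∀ k, k * d = d * k → ∀ u ∈ S.U, k * u * k⁻¹ ∈ S.U) :
    ∀ k, k * (g * d * g⁻¹) = g * d * g⁻¹ * k → ∀ u ∈ S.U, k * u * k⁻¹ ∈ S.U := by
  intro k hk u hu
  have hu' : g⁻¹ * u * g ∈ S.U := by simpa using S.conj_U (inv_mem hg) hu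
  have := S.conj_U hg (h (g⁻¹ * k * g) (by
    calc g⁻¹ * k * g * d = g⁻¹ * (k * (g * d * g⁻¹)) * g := by group
      _ = g⁻¹ * (g * d * g⁻¹ * k) * g := by rw [hk]
      _ = d * (g⁻¹ * k * g) := by group) _ hu')
  rwa [show g * (g⁻¹ * k * g * (g⁻¹ * u * g) * (g⁻¹ * k * g)⁻¹) * g⁻¹ = k * u * k⁻¹ by group] at this

/-- an odd subgroup inverted by `z` meets `X` trivially -/
theorem inverted_X {O : Subgroup G} (hodd : Odd (Nat.card O)) (hinv : ∀ o ∈ O, z * o * z = o⁻¹)
    {o : G} (ho : o ∈ O) (hoX : o ∈ S.X) : o = 1 := by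
  have h1 : o⁻¹ = o := by rw [← hinv o ho, ← S.mem_X.1 hoX, mul_assoc, S.z_sq, mul_one]
  have h2 : orderOf o ∣ 2 := orderOf_dvd_of_pow_eq_one (by
    rw [pow_two]; nth_rw 1 [← h1]; exact inv_mul_cancel o)
  exact orderOf_eq_one_iff.1 (Nat.Coprime.eq_one_of_dvd
    ((Nat.coprime_two_left.2 hodd).coprime_dvd_left h2) (Subgroup.orderOf_dvd_natCard _ ho))

theorem not_seven_X [Finite G] {y : G} (hy : y ∈ S.X) : ¬ 7 ∣ orderOf y := by
  intro h
  have h1 := h.trans (Subgroup.orderOf_dvd_natCard _ hy)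
  rw [show Nat.card S.X = 3 * 2 ^ 11 * 51840 from S.card_X] at h1
  norm_num at h1

/-- a split centraliser involves no group of order divisible by 14 -/
theorem seven [Finite G] {t : G} (ht : S.CoreSplit t) {Y : Subgroup G}
    (hY : ∀ y ∈ Y, y * t = t * y) {P : Type*} [Group P] [Finite P] [IsSimpleGroup P]
    (h2 : 2 ∣ Nat.card P) (h7 : 7 ∣ Nat.card P) (φ : Y →* P) (hφ : Function.Surjective φ)
    (hker : ∀ y, φ y = 1 → y * y = 1) : False := by
  obtain ⟨O, hodd, hinv, hnorm, hcomm, hsplit⟩ := ht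
  let N : Subgroup Y := O.subgroupOf Y
  have hN : N.Normal := ⟨fun n hn g => by
    rw [Subgroup.mem_subgroupOf] at hn ⊢
    exact hnorm g.1 (hY _ g.2) _ hn⟩
  have hNodd : Odd (Nat.card N) := by
    refine hodd.of_dvd_nat ?_
    have h1 : Nat.card N = Nat.card (N.map Y.subtype) :=
      (Subgroup.card_map_of_injective Y.subtype_injective).symm
    rw [h1]
    exact Subgroup.card_dvd_of_le (by rintro x ⟨a, ha, rfl⟩; exact ha)
  have hbot : N.map φ = ⊥ := by
    refine (IsSimpleGroup.eq_bot_or_eq_top_of_normal _ (hN.map φ hφ)).resolve_right fun e => ?_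
    have h1 := N.card_map_dvd φ
    rw [e, Subgroup.card_top] at h1
    exact (Nat.not_even_iff_odd.2 (hNodd.of_dvd_nat h1)) (even_iff_two_dvd.2 h2)
  have hN1 : ∀ y ∈ N, y = 1 := by
    intro y hy
    have h1 : φ y = 1 := by
      rw [← Subgroup.mem_bot, ← hbot]; exact ⟨y, hy, rfl⟩
    have h2 : orderOf y ∣ 2 := orderOf_dvd_of_pow_eq_one (by rw [pow_two]; exact hker y h1)
    exact orderOf_eq_one_iff.1 (Nat.Coprime.eq_one_of_dvd
      ((Nat.coprime_two_left.2 hNodd).coprime_dvd_left h2) (Subgroup.orderOf_dvd_natCard _ hy))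
  have hdvd : 7 ∣ Nat.card Y := h7.trans (Subgroup.card_dvd_of_surjective φ hφ)
  obtain ⟨y, hy⟩ := exists_prime_orderOf_dvd_card' (G := Y) 7 (hp := Fact.mk (by norm_num)) hdvd
  obtain ⟨h, hh, hht, o, ho, hyo⟩ := hsplit y.1 (hY _ y.2)
  have hpow : ∀ n : ℕ, (h ^ n)⁻¹ * (h * o) ^ n ∈ O := by
    intro n
    induction n with
    | zero => simp [one_mem]
    | succ n ih =>
      have hh' : (h⁻¹) * t = t * h⁻¹ := (Commute.inv_left (hht : Commute h t)).eq
      have := mul_mem (hnorm h⁻¹ hh' _ ih) ho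
      rwa [show h⁻¹ * ((h ^ n)⁻¹ * (h * o) ^ n) * h⁻¹⁻¹ * o = (h ^ (n + 1))⁻¹ * (h * o) ^ (n + 1) by
        rw [pow_succ h, pow_succ (h * o)]; group] at this
  have hn := hpow (orderOf h)
  rw [pow_orderOf_eq_one, inv_one, one_mul, ← hyo] at hn
  have h1 := hN1 (y ^ orderOf h) (Subgroup.mem_subgroupOf.2 (by simpa using hn))
  have h7' : orderOf y ∣ orderOf h := orderOf_dvd_of_pow_eq_one h1
  rw [hy] at h7'
  exact S.not_seven_X hh h7'

theorem psu_dvd {K : Type w} [Field K] [Fintype K] (hK : Fintype.card K = 4) :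
    2 ∣ Nat.card (Cfsg.PSU 6 K 2) ∧ 7 ∣ Nat.card (Cfsg.PSU 6 K 2) := by
  rw [card_psu62 hK]; norm_num

/-- a centraliser of type Fi22 gives Fi23 -/
theorem fi23_of_fi22 [Finite G] {d x : G} (hd : d ∈ S.U) (hd1 : d ≠ 1)
    (hxd : x = d ∨ x = d * z)
    (hn : ((Subgroup.zpowers x).subgroupOf (Subgroup.centralizer ({x} : Set G))).Normal)
    (e : Cfsg.Spor.IsoFi22 (↥(Subgroup.centralizer ({x} : Set G)) ⧸
        (Subgroup.zpowers x).subgroupOf (Subgroup.centralizer ({x} : Set G)))) :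
    Cfsg.Spor.IsoFi23 G := by
  obtain ⟨eF⟩ := e
  set C := Subgroup.centralizer ({x} : Set G) with hC
  set Z := (Subgroup.zpowers x).subgroupOf C with hZ
  have hsimp : IsSimpleGroup Cfsg.Spor.Fi22 := Cfsg.Agent.S1696.result.1
  have : Nontrivial (C ⧸ Z) := eF.toEquiv.nontrivial
  have hq : IsSimpleGroup (C ⧸ Z) :=
    IsSimpleGroup.isSimpleGroup_of_surjective eF.symm.toMonoidHom eF.symm.surjective
  have hdJ := S.U_le hd
  have hxJ : x ∈ S.J := by rcases hxd with rfl | rfl; exacts [hdJ, mul_mem hdJ S.z_mem]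
  have hxc : ∀ j ∈ S.J, x * j = j * x := by
    intro j hj
    rcases hxd with rfl | rfl
    · exact S.U_cent _ hd j hj
    · rw [mul_assoc, S.z_center hj, ← mul_assoc, S.U_cent d hd j hj, mul_assoc]
  have hx2 : x * x = 1 := S.center_sq hxJ hxc
  have hdz : d ≠ z := fun e => S.z_notin (Eq.subst (motive := fun a => a ∈ S.U) e hd)
  have hxz : x ≠ z := by
    rcases hxd with rfl | rfl
    · exact hdz
    · exact fun e => hd1 (mul_eq_right.1 e)
  have hx1 : x ≠ 1 := by
    rcases hxd with rfl | rfl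
    · exact hd1
    · exact fun e => hdz ((eq_inv_of_mul_eq_one_left e).trans S.z_inv)
  have hxo : orderOf x = 2 := orderOf_eq_prime (by rw [pow_two]; exact hx2) hx1
  have hJC : S.J ≤ C := fun j hj => Subgroup.mem_centralizer_singleton_iff.2 (hxc j hj).symm
  -- commutators
  obtain ⟨j, hj, k, hk, hjk⟩ := S.exists_commutator_J
  have hzcomm : (⟨z, hJC S.z_mem⟩ : C) ∈ commutator C := by
    rw [show (⟨z, hJC S.z_mem⟩ : C) = ⁅(⟨j, hJC hj⟩ : C), ⟨k, hJC hk⟩⁆ from Subtype.ext hjk.symm]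
    exact Subgroup.commutator_mem_commutator (Subgroup.mem_top _) (Subgroup.mem_top _)
  obtain ⟨h, hhX, hhd, hswap⟩ := S.exists_swap hd hd1
  have hhC : h ∈ C := by
    refine Subgroup.mem_centralizer_singleton_iff.2 ?_
    rcases hxd with rfl | rfl
    · exact hhd
    · rw [← mul_assoc, hhd, mul_assoc d h z, S.mem_X.1 hhX, ← mul_assoc]
  set v := S.c * d * S.c⁻¹ with hv
  have hvU : v ∈ S.U := S.conj_U S.c_mem hd
  have hv1 : v ≠ 1 := fun e => hd1 (by simpa [hv] using e)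
  have hdcomm : (⟨d, hJC hdJ⟩ : C) ∈ commutator C := by
    rw [show (⟨d, hJC hdJ⟩ : C) = ⁅(⟨h, hhC⟩ : C), ⟨v, hJC (S.U_le hvU)⟩⁆ from Subtype.ext (by
      show d = h * v * h⁻¹ * v⁻¹
      rw [hswap v hvU hv1 (S.c_moves hd hd1), mul_inv_cancel_right])]
    exact Subgroup.commutator_mem_commutator (Subgroup.mem_top _) (Subgroup.mem_top _)
  have hxcomm : (⟨x, hJC hxJ⟩ : C) ∈ commutator C := by
    rcases hxd with rfl | rfl
    · exact hdcomm
    · exact mul_mem hdcomm hzcomm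
  have hZle : Z ≤ commutator C := by
    intro a ha
    obtain ⟨n, hn⟩ := Subgroup.mem_zpowers_iff.1 (Subgroup.mem_subgroupOf.1 ha)
    have : a = (⟨x, hJC hxJ⟩ : C) ^ n := Subtype.ext (by push_cast; exact hn.symm)
    rw [this]; exact zpow_mem hxcomm n
  have hzZ : (⟨z, hJC S.z_mem⟩ : C) ∉ Z := by
    intro ha
    obtain ⟨n, hn⟩ := Subgroup.mem_zpowers_iff.1 (Subgroup.mem_subgroupOf.1 ha)
    rcases Int.even_or_odd n with ⟨m, rfl⟩ | ⟨m, rfl⟩
    · rw [← two_mul, zpow_mul, zpow_two, hx2, one_zpow] at hn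
      exact S.z_ne hn.symm
    · rw [zpow_add_one, zpow_mul, zpow_two, hx2, one_zpow, one_mul] at hn
      exact hxz hn
  have hperf : commutator C = ⊤ := by
    have hmap : (commutator C).map (QuotientGroup.mk' Z) = ⊤ := by
      refine (IsSimpleGroup.eq_bot_or_eq_top_of_normal _
        ((inferInstance : (commutator C).Normal).map _ (QuotientGroup.mk'_surjective Z))).resolve_left
        fun e => hzZ ?_
      have h1 : QuotientGroup.mk' Z ⟨z, hJC S.z_mem⟩ ∈ (commutator C).map (QuotientGroup.mk' Z) :=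
        ⟨_, hzcomm, rfl⟩
      rw [e, Subgroup.mem_bot] at h1
      exact (QuotientGroup.eq_one_iff _).1 h1
    have := congrArg (Subgroup.comap (QuotientGroup.mk' Z)) hmap
    rwa [Subgroup.comap_map_eq, QuotientGroup.ker_mk', Subgroup.comap_top, sup_eq_left.2 hZle] at this
  have hcent : Subgroup.center C = Z := by
    refine le_antisymm ?_ fun a ha => Subgroup.mem_center_iff.2 fun g => ?_
    · have hm : (Subgroup.center C).map (QuotientGroup.mk' Z) = ⊥ := by
        refine (IsSimpleGroup.eq_bot_or_eq_top_of_normal _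
          ((inferInstance : (Subgroup.center C).Normal).map _
            (QuotientGroup.mk'_surjective Z))).resolve_right fun e => hzZ ?_
        have habel : ∀ a b : C ⧸ Z, a * b = b * a := by
          intro a b
          obtain ⟨a', ha', rfl⟩ : a ∈ (Subgroup.center C).map (QuotientGroup.mk' Z) := by
            rw [e]; trivial
          obtain ⟨b', rfl⟩ := QuotientGroup.mk'_surjective Z b
          rw [← map_mul, ← map_mul, Subgroup.mem_center_iff.1 ha' b']
        apply (QuotientGroup.eq_one_iff _).1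
        show QuotientGroup.mk' Z ⟨z, hJC S.z_mem⟩ = 1
        rw [show (⟨z, hJC S.z_mem⟩ : C) = ⁅(⟨j, hJC hj⟩ : C), ⟨k, hJC hk⟩⁆ from Subtype.ext hjk.symm,
          map_commutatorElement, commutatorElement_eq_one_iff_mul_comm]
        exact habel _ _
      rw [Subgroup.map_eq_bot_iff, QuotientGroup.ker_mk'] at hm
      exact hm
    · obtain ⟨n, hn⟩ := Subgroup.mem_zpowers_iff.1 (Subgroup.mem_subgroupOf.1 ha)
      have hc : Commute g.1 x := Subgroup.mem_centralizer_singleton_iff.1 g.2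
      exact Subtype.ext (by push_cast; rw [← hn]; exact (hc.zpow_right n).eq)
  have hqs : Cfsg.IsQuasisimple C := by
    refine ⟨⟨hperf⟩, ?_⟩
    have : Nontrivial (C ⧸ Subgroup.center C) :=
      (QuotientGroup.quotientMulEquivOfEq hcent).toEquiv.nontrivial
    exact IsSimpleGroup.isSimpleGroup_of_surjective (QuotientGroup.quotientMulEquivOfEq hcent).symm.toMonoidHom
      (QuotientGroup.quotientMulEquivOfEq hcent).symm.surjective
  refine @Cfsg.Agent.S1714.result G _ _ x hxo hqs hn ⟨eF⟩ ⟨S.c, ?_, ?_⟩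
  · exact hJC (S.conj_J S.c_mem hxJ)
  · rcases hxd with rfl | rfl
    · exact S.c_moves hd hd1
    · intro e
      rw [show S.c * (d * z) * S.c⁻¹ = S.c * d * S.c⁻¹ * (S.c * z * S.c⁻¹) by group,
        show S.c * z * S.c⁻¹ = z by rw [S.c_comm]; group] at e
      exact S.c_moves hd hd1 (mul_right_cancel e)

theorem third_cases [Finite G] {z₁ : G} (hzJ : z₁ ∈ S.J) (hzc : ∀ j ∈ S.J, z₁ * j = j * z₁)
    (h1 : z₁ ≠ 1) (hz : z₁ ≠ z) :
    ∃ v ∈ S.U, v ≠ 1 ∧ (z₁ = v ∨ z₁ = v * z) := by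
  rcases S.central_cases hzJ hzc h1 with e | e | e
  · exact absurd e hz
  · exact ⟨z₁, e.1, e.2, Or.inl rfl⟩
  · exact ⟨z₁ * z, e.1, e.2, Or.inr (by rw [mul_assoc, S.z_sq, mul_one])⟩

/-- `C(d z)` splits, or we have Fi23 -/
theorem uz_case [Finite G] {K : Type w} [Field K] [Fintype K] {d : G} (hd : d ∈ S.U) (hd1 : d ≠ 1)
    (h : S.Outcome K (d * z)) : S.CoreSplit (d * z) ∨ Cfsg.Spor.IsoFi23 G := by
  rcases h with h | h | ⟨hn, h⟩
  · exact Or.inl h
  · exfalso
    obtain ⟨z₁, hzJ, hzc, h1, hne, hzz, hzx, hperm, -⟩ := h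
    obtain ⟨v, hv, hv1, hcase⟩ := S.third_cases hzJ hzc h1 hzz
    have hzd : z * d = d * z := S.z_center (S.U_le hd)
    have hvd : v ≠ d := by
      intro e
      rcases hcase with e' | e'
      · apply hzx
        rw [e', e, ← mul_assoc, hzd, mul_assoc, S.z_sq, mul_one]
      · exact hne (by rw [e', e])
    obtain ⟨g, hgX, hgd, hswap⟩ := S.exists_swap hd hd1
    have hgz : g * z * g⁻¹ = z := mul_inv_eq_iff_eq_mul.2 (S.mem_X.1 hgX)
    have hgx : g * (d * z) = d * z * g := by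
      rw [← mul_assoc, hgd, mul_assoc d g z, S.mem_X.1 hgX, ← mul_assoc]
    have hgv := hswap v hv hv1 hvd
    have hdv : d * v = v * d := S.U_cent d hd v (S.U_le hv)
    rcases hcase with e | e <;> subst e <;> rcases hperm g hgx with e' | e'
    · rw [hgv] at e'; exact hd1 (mul_eq_right.1 e')
    · rw [hgv, hdv, mul_right_inj] at e'
      exact S.z_ne (mul_eq_left.1 e'.symm)
    · rw [show g * (v * z) * g⁻¹ = g * v * g⁻¹ * (g * z * g⁻¹) by group, hgv, hgz] at e'
      exact hd1 (mul_eq_right.1 (mul_right_cancel e'))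
    · rw [show g * (v * z) * g⁻¹ = g * v * g⁻¹ * (g * z * g⁻¹) by group, hgv, hgz, hdv,
        show v * z * (d * z) = v * (z * d) * z by group, hzd,
        show v * (d * z) * z = v * d * (z * z) by group, S.z_sq, mul_one] at e'
      exact S.z_ne (mul_eq_left.1 e')
  · exact Or.inr (S.fi23_of_fi22 hd hd1 (Or.inr rfl) hn h)

/-- `C(d)` splits or normalises `U`, or we have Fi23 -/
theorem d_case [Finite G] {K : Type w} [Field K] [Fintype K] (hK : Fintype.card K = 4) {d : G}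
    (hd : d ∈ S.U) (hd1 : d ≠ 1) (h : S.Outcome K d)
    (hsplit : ∀ u ∈ S.U, u ≠ 1 → S.CoreSplit (u * z)) :
    S.CoreSplit d ∨ S.Big K d ∨ Cfsg.Spor.IsoFi23 G := by
  rcases h with h | h | ⟨hn, h⟩
  · exact Or.inl h
  · refine Or.inr (Or.inl ?_)
    obtain ⟨z₁, hzJ, hzc, h1, hne, hzz, hzx, hperm, G₀, hG₀, hidx, φ, hφ, hker⟩ := h
    obtain ⟨v, hv, hv1, hcase⟩ := S.third_cases hzJ hzc h1 hzz
    have hzd : z * d = d * z := S.z_center (S.U_le hd)
    have hvd : v ≠ d := by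
      intro e
      rcases hcase with e' | e'
      · exact hne (e'.trans e)
      · exact hzx (by rw [e', e, hzd])
    rcases hcase with e | e
    · subst e
      have hdv : d * z₁ = z₁ * d := S.U_cent d hd z₁ (S.U_le hv)
      refine ⟨fun g hg u hu => ?_, G₀, hG₀, hidx, φ, hφ, fun y => (hker y).trans ?_⟩
      · have hgd : g * d * g⁻¹ = d := mul_inv_eq_iff_eq_mul.2 hg
        have hgv : g * z₁ * g⁻¹ ∈ S.U := by
          rcases hperm g hg with e | e <;> rw [e]
          exacts [hv, mul_mem hv hd]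
        rcases S.U_cases hd hv hd1 hv1 (Ne.symm hvd) hu with e | e | e | e
        · rw [e]; simp [one_mem]
        · rw [e, hgd]; exact hd
        · rw [e]; exact hgv
        · rw [e, show g * (d * z₁) * g⁻¹ = g * d * g⁻¹ * (g * z₁ * g⁻¹) by group, hgd]
          exact mul_mem hd hgv
      · simp only [Set.mem_insert_iff, Set.mem_singleton_iff]
        constructor
        · rintro (e | e | e | e) <;> rw [e]
          exacts [one_mem _, hd, hv, mul_mem hv hd]
        · intro hy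
          rcases S.U_cases hd hv hd1 hv1 (Ne.symm hvd) hy with e | e | e | e
          · exact Or.inl e
          · exact Or.inr (Or.inl e)
          · exact Or.inr (Or.inr (Or.inl e))
          · exact Or.inr (Or.inr (Or.inr (e.trans hdv)))
    · exfalso
      subst e
      have hF : Fintype.card K = 2 ^ 2 := by simpa using hK
      have := Cfsg.Agent.Lib.Unitary.isSimpleGroup_PSU (n := 6) hF (by norm_num) (by norm_num)
      obtain ⟨h2P, h7P⟩ := psu_dvd hK
      have : Finite (Cfsg.PSU 6 K 2) :=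
        Nat.finite_of_card_ne_zero (by rw [card_psu62 hK]; norm_num)
      let Y : Subgroup G := G₀ ⊓ Subgroup.centralizer ({v * z} : Set G)
      let ψ : Y →* Cfsg.PSU 6 K 2 := φ.comp (Subgroup.inclusion inf_le_left)
      -- the elements of `G₀` centralising `v z` form a subgroup of index at most 2
      let R : Subgroup G₀ := (Subgroup.centralizer ({v * z} : Set G)).subgroupOf G₀
      have hR : ∀ a b : G₀, a ∉ R → b ∉ R → a * b ∈ R := by
        intro a b ha hb
        have hm : ∀ a : G₀, a ∉ R → a.1 * (v * z) * a.1⁻¹ = v * z * d := by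
          intro a ha
          refine (hperm a.1 (Subgroup.mem_centralizer_singleton_iff.1 (hG₀ a.2))).resolve_left
            fun e => ha ?_
          exact Subgroup.mem_subgroupOf.2
            (Subgroup.mem_centralizer_singleton_iff.2 (mul_inv_eq_iff_eq_mul.1 e))
        refine Subgroup.mem_subgroupOf.2
          (Subgroup.mem_centralizer_singleton_iff.2 (mul_inv_eq_iff_eq_mul.1 ?_))
        have had : a.1 * d * a.1⁻¹ = d :=
          mul_inv_eq_iff_eq_mul.2 (Subgroup.mem_centralizer_singleton_iff.1 (hG₀ a.2))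
        calc (a * b : G₀).1 * (v * z) * ((a * b : G₀).1)⁻¹
            = a.1 * (b.1 * (v * z) * b.1⁻¹) * a.1⁻¹ := by push_cast; group
          _ = a.1 * (v * z * d) * a.1⁻¹ := by rw [hm b hb]
          _ = a.1 * (v * z) * a.1⁻¹ * (a.1 * d * a.1⁻¹) := by group
          _ = v * z := by rw [hm a ha, had, mul_assoc (v * z), S.U_sq d hd, mul_one]
      have hψ : Function.Surjective ψ := by
        have htop : R.map φ = ⊤ := by
          have h12 : (R.map φ).index ∣ R.index := Subgroup.index_map_dvd R hφ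
          have hle : R.index ≤ 2 := by
            by_cases hR' : R = ⊤
            · rw [hR', Subgroup.index_top]; omega
            obtain ⟨a, ha⟩ := not_forall.1 (fun h => hR' (eq_top_iff.2 fun x _ => h x))
            refine le_of_eq (Subgroup.index_eq_two_iff.2 ⟨a, fun b => ?_⟩)
            by_cases hb : b ∈ R
            · refine Or.inr ⟨hb, fun hba => ha ?_⟩
              have := R.mul_mem (R.inv_mem hb) hba
              rwa [inv_mul_cancel_left] at this
            · exact Or.inl ⟨hR b a hb ha, hb⟩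
          have hpos : 0 < R.index := Nat.pos_of_ne_zero Subgroup.index_ne_zero_of_finite
          have hle' : (R.map φ).index ≤ 2 := (Nat.le_of_dvd hpos h12).trans hle
          have hpos' : 0 < (R.map φ).index := Nat.pos_of_ne_zero Subgroup.index_ne_zero_of_finite
          rcases (by omega : (R.map φ).index = 1 ∨ (R.map φ).index = 2) with e | e
          · exact Subgroup.index_eq_one.1 e
          · exfalso
            have hn := Subgroup.normal_of_index_eq_two e
            rcases IsSimpleGroup.eq_bot_or_eq_top_of_normal _ hn with e' | e'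
            · rw [e', Subgroup.index_bot, card_psu62 hK] at e; norm_num at e
            · rw [e', Subgroup.index_top] at e; norm_num at e
        intro p
        obtain ⟨a, ha, rfl⟩ : p ∈ R.map φ := by rw [htop]; trivial
        exact ⟨⟨a.1, a.2, Subgroup.mem_subgroupOf.1 ha⟩, rfl⟩
      refine S.seven (hsplit v hv hv1) (Y := Y)
        (fun y hy => Subgroup.mem_centralizer_singleton_iff.1 hy.2) h2P h7P ψ hψ fun y hy => ?_
      apply Subtype.ext
      show y.1 * y.1 = 1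
      have hm := (hker _).1 hy
      simp only [Set.mem_insert_iff, Set.mem_singleton_iff] at hm
      have hvzd : v * z * d = v * d * z := by rw [mul_assoc, hzd, ← mul_assoc]
      rcases hm with e | e | e | e <;> (rw [show y.1 = _ from e])
      · exact one_mul 1
      · exact S.U_sq d hd
      · exact S.uz_sq hv
      · rw [hvzd]; exact S.uz_sq (mul_mem hv hd)
  · exact Or.inr (Or.inr (S.fi23_of_fi22 hd hd1 (Or.inl rfl) hn h))

/-- the core of a conjugate of `X` is trivial -/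
theorem le_X_of_conj [Finite G] {t g : G} (hgt : g * z * g⁻¹ = t) (ht : S.CoreSplit t) :
    ∀ h, h * t = t * h → h ∈ S.X := by
  obtain ⟨O, hodd, hinv, hnorm, hcomm, hsplit⟩ := ht
  have hfwd : ∀ h, h * z = z * h → g * h * g⁻¹ * t = t * (g * h * g⁻¹) := by
    intro h hh
    rw [← hgt]
    calc g * h * g⁻¹ * (g * z * g⁻¹) = g * (h * z) * g⁻¹ := by group
      _ = g * (z * h) * g⁻¹ := by rw [hh]
      _ = _ := by group
  intro h hh
  obtain ⟨k, hk, -, o, ho, he⟩ := hsplit h hh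
  suffices ho1 : o = 1 by rw [he, ho1, mul_one]; exact hk
  set o' := g⁻¹ * o * g with ho'
  have ho'X : o' ∈ S.X := by
    rw [S.mem_X]
    calc o' * z = g⁻¹ * (o * (g * z * g⁻¹)) * g := by rw [ho']; group
      _ = g⁻¹ * (g * z * g⁻¹ * o) * g := by rw [hgt, hcomm o ho]
      _ = z * o' := by rw [ho']; group
  have hodd' : Odd (orderOf o') := by
    rw [ho', show g⁻¹ * o * g = MulAut.conj g⁻¹ o by simp, MulEquiv.orderOf_eq]
    exact hodd.of_dvd_nat (Subgroup.orderOf_dvd_natCard _ ho)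
  have h1 : o' = 1 := by
    refine S.odd_centralising ho'X hodd' fun j hj => ?_
    have hjt := hfwd j (S.J_le j hj)
    set q := o * (g * j * g⁻¹ * o⁻¹ * (g * j * g⁻¹)⁻¹) with hq
    have hqO : q ∈ O := mul_mem ho (hnorm _ hjt _ (inv_mem ho))
    have hqJ : o' * j * o'⁻¹ * j⁻¹ ∈ S.J := mul_mem (S.conj_J ho'X hj) (inv_mem hj)
    have e : o' * j * o'⁻¹ * j⁻¹ = MulAut.conj g⁻¹ q := by
      rw [MulAut.conj_apply, hq, ho']; group
    have hd2 : orderOf q ∣ 2 ^ 11 := by
      rw [← MulEquiv.orderOf_eq (MulAut.conj g⁻¹) q, ← e, ← S.J_card]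
      exact Subgroup.orderOf_dvd_natCard _ hqJ
    have hqodd : Odd (orderOf q) := hodd.of_dvd_nat (Subgroup.orderOf_dvd_natCard _ hqO)
    have hq1 : q = 1 := orderOf_eq_one_iff.1
      ((Nat.Coprime.pow_right 11 (Nat.coprime_two_right.2 hqodd)).eq_one_of_dvd hd2)
    rw [hq1, map_one] at e
    exact mul_inv_eq_one.1 e
  calc o = g * o' * g⁻¹ := by rw [ho']; group
    _ = 1 := by rw [h1]; group

/-- no conjugate of `z` has a split centraliser at `d`, `d z` -/
theorem not_conj_split [Finite G] {u t g : G} (hu : u ∈ S.U) (hu1 : u ≠ 1)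
    (hut : t = u ∨ t = u * z) (hgt : g * z * g⁻¹ = t) (ht : S.CoreSplit t) : False := by
  have hle : ∀ h, h * t = t * h → h ∈ S.X := S.le_X_of_conj hgt ht
  -- conjugation by `g` maps `X` onto itself
  let f : S.X → S.X := fun a => ⟨g * a.1 * g⁻¹, hle _ (by
    rw [← hgt]
    calc g * a.1 * g⁻¹ * (g * z * g⁻¹) = g * (a.1 * z) * g⁻¹ := by group
      _ = g * (z * a.1) * g⁻¹ := by rw [S.mem_X.1 a.2]
      _ = _ := by group)⟩
  have hf : Function.Injective f := fun a b e =>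
    Subtype.ext (mul_left_cancel (mul_right_cancel (congrArg Subtype.val e :)))
  obtain ⟨a, ha⟩ := Finite.surjective_of_injective hf ⟨S.c, S.c_mem⟩
  have hc : g * a.1 * g⁻¹ = S.c := congrArg Subtype.val ha
  have hct : S.c * t * S.c⁻¹ = t := by
    rw [← hc, ← hgt]
    calc g * a.1 * g⁻¹ * (g * z * g⁻¹) * (g * a.1 * g⁻¹)⁻¹ = g * (a.1 * z * a.1⁻¹) * g⁻¹ := by group
      _ = g * z * g⁻¹ := by rw [S.mem_X.1 a.2]; group
  rcases hut with e | e <;> subst e
  · exact S.c_moves hu hu1 hct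
  · rw [show S.c * (u * z) * S.c⁻¹ = S.c * u * S.c⁻¹ * (S.c * z * S.c⁻¹) by group,
      show S.c * z * S.c⁻¹ = z by rw [S.c_comm]; group] at hct
    exact S.c_moves hu hu1 (mul_right_cancel hct)

/-- a group involving `U₆(2)` does not lie in `X` -/
theorem big_not_X [Finite G] {K : Type w} [Field K] [Fintype K] (hK : Fintype.card K = 4)
    {d : G} (h : S.Big K d) {g : G}
    (hle : ∀ k, k * d = d * k → g * k * g⁻¹ ∈ S.X) : False := by
  obtain ⟨-, G₀, hG₀, -, φ, hφ, -⟩ := h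
  have : Finite (Cfsg.PSU 6 K 2) :=
    Nat.finite_of_card_ne_zero (by rw [card_psu62 hK]; norm_num)
  obtain ⟨p, hp⟩ := exists_prime_orderOf_dvd_card' (G := Cfsg.PSU 6 K 2) 7
    (hp := Fact.mk (by norm_num)) (psu_dvd hK).2
  obtain ⟨y, rfl⟩ := hφ p
  refine S.not_seven_X (hle y.1 (Subgroup.mem_centralizer_singleton_iff.1 (hG₀ y.2))) ?_
  rw [show g * y.1 * g⁻¹ = MulAut.conj g y.1 from rfl, MulEquiv.orderOf_eq, ← hp,
    Subgroup.orderOf_coe]
  exact orderOf_map_dvd φ y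

/-- the centraliser of `u z` when all `C(v)` normalise `U` -/
theorem uz_le_X [Finite G]
    (hd : ∀ v ∈ S.U, v ≠ 1 → ∀ h, h * v = v * h → ∀ w ∈ S.U, h * w * h⁻¹ ∈ S.U)
    {u : G} (hu : u ∈ S.U) (hu1 : u ≠ 1) (hs : S.CoreSplit (u * z)) :
    ∀ h, h * (u * z) = u * z * h → h ∈ S.X := by
  obtain ⟨O, hodd, hinv, hnorm, hcomm, hsplit⟩ := hs
  intro h hh
  obtain ⟨k, hk, -, o, ho, he⟩ := hsplit h hh
  suffices ho1 : o = 1 by rw [he, ho1, mul_one]; exact hk
  have hodd1 : ∀ a ∈ O, ∀ w, w * w = 1 → a * a = w → a = 1 := by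
    intro a ha w hw e
    have h4 : orderOf a ∣ 2 ^ 2 := orderOf_dvd_of_pow_eq_one (by
      rw [show (2 : ℕ) ^ 2 = 2 * 2 from rfl, pow_mul, pow_two a, e, pow_two, hw])
    exact orderOf_eq_one_iff.1 (Nat.Coprime.eq_one_of_dvd
      (((Nat.coprime_two_left.2 hodd).pow_left 2).coprime_dvd_left h4)
      (Subgroup.orderOf_dvd_natCard _ ha))
  have huo : ∀ a ∈ O, u * a * u = a⁻¹ := by
    intro a ha
    have hu' : u = u * z * z := by rw [mul_assoc, S.z_sq, mul_one]
    have hc : Commute a (u * z) := hcomm a ha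
    calc u * a * u = u * z * z * a * (u * z * z) := by rw [← hu']
      _ = u * z * (z * a * z) * (u * z) := by
        rw [show u * z * z = z * (u * z) from S.uz_comm hu]
        nth_rw 1 [show z * (u * z) = u * z * z from (S.uz_comm hu).symm]
        group
      _ = u * z * (a⁻¹ * (u * z)) := by rw [hinv a ha]; group
      _ = u * z * (u * z * a⁻¹) := by rw [hc.inv_left.eq]
      _ = a⁻¹ := by rw [← mul_assoc, S.uz_sq hu, one_mul]
  -- the other involutions of `U` invert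
  have hfree : ∀ v ∈ S.U, v ≠ 1 → ∀ a ∈ O, a * v = v * a → a = 1 := by
    intro v hv hv1 a ha hav
    have hm := S.U.mul_mem (hd v hv hv1 a hav u hu) hu
    have e : a * u * a⁻¹ * u = a * a := by
      calc a * u * a⁻¹ * u = a * (u * a⁻¹ * u) := by group
        _ = a * a := by rw [huo _ (inv_mem ha), inv_inv]
    rw [e] at hm
    exact hodd1 a ha _ (S.U_sq _ hm) rfl
  have hinvv : ∀ v ∈ S.U, v ≠ 1 → v ≠ u → ∀ a ∈ O, v * a * v = a⁻¹ := by
    intro v hv hv1 hvu a ha
    have hvt : v * (u * z) = u * z * v := by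
      rw [← mul_assoc, S.U_cent v hv u (S.U_le hu), mul_assoc, ← S.z_center (S.U_le hv), ← mul_assoc]
    have hv2 := S.U_sq v hv
    have hmem : ∀ b ∈ O, v * b * v ∈ O := fun b hb => by
      have := hnorm v hvt b hb
      rwa [S.U_inv hv] at this
    let f : O → O := fun b => ⟨b.1⁻¹ * (v * b.1 * v), mul_mem (inv_mem b.2) (hmem _ b.2)⟩
    have hf : Function.Injective f := by
      intro b b' h
      have h' : b.1⁻¹ * (v * b.1 * v) = b'.1⁻¹ * (v * b'.1 * v) := congrArg Subtype.val h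
      have hm : b'.1 * b.1⁻¹ * v = v * (b'.1 * b.1⁻¹) := by
        calc b'.1 * b.1⁻¹ * v = b'.1 * (b.1⁻¹ * (v * b.1 * v)) * v⁻¹ * b.1⁻¹ := by
              rw [S.U_inv hv]
              calc b'.1 * b.1⁻¹ * v = b'.1 * (b.1⁻¹ * (v * b.1 * 1)) * b.1⁻¹ := by group
                _ = _ := by rw [← hv2]; group
          _ = b'.1 * (b'.1⁻¹ * (v * b'.1 * v)) * v⁻¹ * b.1⁻¹ := by rw [h']
          _ = v * (b'.1 * b.1⁻¹) := by group
      exact Subtype.ext (mul_inv_eq_one.1 (hfree v hv hv1 _ (mul_mem b'.2 (inv_mem b.2)) hm)).symm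
    obtain ⟨b, hb⟩ := Finite.surjective_of_injective hf ⟨a, ha⟩
    have hb' : b.1⁻¹ * (v * b.1 * v) = a := congrArg Subtype.val hb
    rw [← hb']
    calc v * (b.1⁻¹ * (v * b.1 * v)) * v = v * b.1⁻¹ * v * b.1 * (v * v) := by group
      _ = v⁻¹ * b.1⁻¹ * v⁻¹ * b.1 := by rw [hv2, mul_one, S.U_inv hv]
      _ = (b.1⁻¹ * (v * b.1 * v))⁻¹ := by group
  set v := S.c * u * S.c⁻¹ with hv
  have hvU : v ∈ S.U := S.conj_U S.c_mem hu
  have hv1 : v ≠ 1 := fun e => hu1 (by simpa [hv] using e)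
  have hvu : v ≠ u := S.c_moves hu hu1
  refine hfree (u * v) (mul_mem hu hvU) (fun e => hvu
    ((eq_inv_of_mul_eq_one_right e).trans (S.U_inv hu))) o ho ?_
  have h1 := huo o ho
  have h2 := hinvv v hvU hv1 hvu o⁻¹ (inv_mem ho)
  rw [inv_inv] at h2
  have h3 : v * (u * o * u) * v = o := by rw [h1, h2]
  have huv : u * v * (u * v) = 1 := S.U_sq _ (mul_mem hu hvU)
  calc o * (u * v) = v * (u * o * u) * v * (u * v) := by rw [h3]
    _ = v * u * o * (u * v * (u * v)) := by group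
    _ = u * v * o := by rw [huv, mul_one, S.U_cent u hu v (S.U_le hvU)]

theorem exists_conj [Finite G] {d u : G} (hd : d ∈ S.U) (hd1 : d ≠ 1) (hu : u ∈ S.U) (hu1 : u ≠ 1) :
    ∃ q ∈ S.X, q * d * q⁻¹ = u := by
  rcases S.U_orbit hd hd1 hu hu1 with e | e | e
  · exact ⟨1, one_mem _, by rw [e]; group⟩
  · exact ⟨S.c, S.c_mem, e.symm⟩
  · exact ⟨S.c⁻¹, inv_mem S.c_mem, by rw [e]; group⟩

/-- The three conclusions of S3233. -/
theorem trichotomy [Finite G] (H : Input3232.{u, v, w}) {F : Type v} [Field F] [Fintype F]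
    (hF : Fintype.card F = 3) {K : Type w} [Field K] [Fintype K] (hK : Fintype.card K = 4)
    (Ex : S.Extra) (Tp : S.Top F) :
    Subgroup.centralizer ({z} : Set G) ⊔ Cfsg.oddCore G = ⊤ ∨ Cfsg.Spor.IsoFi23 G ∨
      (∃ (W : Subgroup G) (_hW : W.Normal), Nat.card ↥W = 4 ∧ (∀ w ∈ W, w ^ 2 = 1) ∧
        Nonempty ((G ⧸ W) ≃* MulAut (Cfsg.PSU 6 K 2))) := by
  by_cases hF23 : Cfsg.Spor.IsoFi23 G
  · exact Or.inr (Or.inl hF23)
  have hsz : ∀ u ∈ S.U, u ≠ 1 → S.CoreSplit (u * z) := fun u hu hu1 =>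
    (S.uz_case hu hu1 (S.outcome_of_input H hF hK Ex Tp hu hu1 (Or.inr rfl))).resolve_right hF23
  obtain ⟨d, hd, hd1⟩ := S.exists_U
  have hcase : S.CoreSplit d ∨ S.Big K d := by
    rcases S.d_case hK hd hd1 (S.outcome_of_input H hF hK Ex Tp hd hd1 (Or.inl rfl)) hsz with
      h | h | h
    exacts [Or.inl h, Or.inr h, absurd h hF23]
  rcases hcase with hc | hb
  · have hall : ∀ u ∈ S.U, u ≠ 1 → S.CoreSplit u := by
      intro u hu hu1
      obtain ⟨q, hq, rfl⟩ := S.exists_conj hd hd1 hu hu1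
      exact CoreSplit.conj S hq hc
    have hz : S.ZNotConj := by
      intro g j hj hjc hgj
      by_contra hne
      have hj1 : j ≠ 1 := fun e => S.z_ne (by
        calc z = g⁻¹ * (g * z * g⁻¹) * g := by group
          _ = 1 := by rw [hgj, e]; group)
      obtain ⟨v, hv, hv1, e | e⟩ := S.third_cases hj hjc hj1 hne
      · exact S.not_conj_split hv hv1 (Or.inl rfl) (hgj.trans e) (hall v hv hv1)
      · exact S.not_conj_split hv hv1 (Or.inr rfl) (hgj.trans e) (hsz v hv hv1)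
    exact Or.inl (S.top_of_split hall hsz hz)
  · right; right
    have hnorm : ∀ u ∈ S.U, u ≠ 1 → ∀ h, h * u = u * h → ∀ w ∈ S.U, h * w * h⁻¹ ∈ S.U := by
      intro u hu hu1
      obtain ⟨q, hq, rfl⟩ := S.exists_conj hd hd1 hu hu1
      exact Big.conj S hq hb.1
    have hz : S.ZNotConj := by
      intro g j hj hjc hgj
      by_contra hne
      have hj1 : j ≠ 1 := fun e => S.z_ne (by
        calc z = g⁻¹ * (g * z * g⁻¹) * g := by group
          _ = 1 := by rw [hgj, e]; group)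
      obtain ⟨v, hv, hv1, e | e⟩ := S.third_cases hj hjc hj1 hne
      · obtain ⟨q, -, hqd⟩ := S.exists_conj hd hd1 hv hv1
        refine S.big_not_X hK hb (g := g⁻¹ * q) fun k hk => ?_
        rw [S.mem_X]
        calc g⁻¹ * q * k * (g⁻¹ * q)⁻¹ * z
            = g⁻¹ * (q * k * q⁻¹ * (g * z * g⁻¹)) * g := by group
          _ = g⁻¹ * (q * (k * d) * q⁻¹) * g := by rw [hgj, e, ← hqd]; group
          _ = g⁻¹ * (q * (d * k) * q⁻¹) * g := by rw [hk]
          _ = g⁻¹ * (q * d * q⁻¹ * (q * k * q⁻¹)) * g := by group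
          _ = z * (g⁻¹ * q * k * (g⁻¹ * q)⁻¹) := by rw [hqd, ← e, ← hgj]; group
      · exact S.not_conj_split hv hv1 (Or.inr rfl) (hgj.trans e) (hsz v hv hv1)
    have hleX : ∀ u ∈ S.U, u ≠ 1 → ∀ h, h * (u * z) = u * z * h → h ∈ S.X :=
      fun u hu hu1 => S.uz_le_X hnorm hu hu1 (hsz u hu hu1)
    have henc : ∀ g, ∀ u ∈ S.U, ∀ v ∈ S.U, v ≠ 1 → g * u * g⁻¹ ≠ v * z := by
      intro g u hu v hv hv1 heq
      have hu1 : u ≠ 1 := by
        intro e
        rw [e, mul_one, mul_inv_cancel] at heq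
        have hvz : v = z := (eq_inv_of_mul_eq_one_left heq.symm).trans S.z_inv
        exact S.z_notin (Eq.subst (motive := fun a => a ∈ S.U) hvz hv)
      obtain ⟨q, -, hqd⟩ := S.exists_conj hd hd1 hu hu1
      refine S.big_not_X hK hb (g := g * q) fun k hk => hleX v hv hv1 _ ?_
      rw [← heq, ← hqd]
      calc g * q * k * (g * q)⁻¹ * (g * (q * d * q⁻¹) * g⁻¹) = g * q * (k * d) * (g * q)⁻¹ := by group
        _ = g * q * (d * k) * (g * q)⁻¹ := by rw [hk]
        _ = _ := by group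
    have hUn := S.U_normal hleX hnorm hz henc
    obtain ⟨-, G₀, hG₀, hidx, φ, hφ, hker⟩ := hb
    exact ⟨S.U, hUn, S.U_card, fun w hw => by rw [pow_two]; exact S.U_sq w hw,
      S.quotient_aut hK hz hd hd1 G₀ hG₀ hidx φ hφ hker⟩

end Setting

end Cfsg.Agent.Lib.Fi23Local27
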