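import Cfsg.Agent.Lib.Fi23Local27.Key

/-!
The conjugates of `z` in `C(z)`: none but `z` when all `C(d)`, `C(dz)` split, and all with the same
four-group `U` when `C(dz) ≤ C(z)` and `C(d) ≤ N(U)`.

Owner: helper27 (S3233).
-/

set_option autoImplicit false

open scoped commutatorElement

namespace Cfsg.Agent.Lib.Fi23Local27.Setting

variable {G : Type*} [Group G] {z : G} (S : Setting z)

theorem mul_self_conj {t g : G} (h : t * t = 1) : g * t * g⁻¹ * (g * t * g⁻¹) = 1 := by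
  rw [show g * t * g⁻¹ * (g * t * g⁻¹) = g * (t * t) * g⁻¹ by group, h]; group

/-- an involution of `X` fixes an involution of `U` -/
theorem exists_fixed_U [Finite G] {y : G} (hy : y ∈ S.X) (h2 : y * y = 1) :
    ∃ u ∈ S.U, u ≠ 1 ∧ y * u * y⁻¹ = u := by
  by_cases hi : S.Inner y
  · obtain ⟨u, hu, hu1⟩ := S.exists_U
    exact ⟨u, hu, hu1, S.inner_fix_U hi (by rw [h2]; exact one_mem _) hu⟩
  · obtain ⟨d, hd, hd1, hdf, -⟩ := S.outer_fix hy hi
    exact ⟨d, hd, hd1, hdf⟩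

theorem uz_sq {u : G} (hu : u ∈ S.U) : u * z * (u * z) = 1 := by
  rw [show u * z * (u * z) = u * (z * u) * z by group, S.z_center (S.U_le hu),
    show u * (u * z) * z = (u * u) * (z * z) by group, S.U_sq u hu, S.z_sq, one_mul]

theorem uz_comm {u : G} (hu : u ∈ S.U) : u * z * z = z * (u * z) := by
  rw [← mul_assoc, S.z_center (S.U_le hu)]

/-- elements fixing a point of `U` act on it through a commutative group -/
theorem comm_fix [Finite G] {h k u : G} (hh : ∀ v ∈ S.U, h * v * h⁻¹ ∈ S.U)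
    (hk : ∀ v ∈ S.U, k * v * k⁻¹ ∈ S.U) (hu : u ∈ S.U) (hu1 : u ≠ 1)
    (hhu : h * u * h⁻¹ = u) (hku : k * u * k⁻¹ = u) {v : G} (hv : v ∈ S.U) :
    ⁅h, k⁆ * v * ⁅h, k⁆⁻¹ = v := by
  -- each of the two maps is trivial or exchanges the two points other than `u`
  have key : ∀ a, (∀ w ∈ S.U, a * w * a⁻¹ ∈ S.U) → a * u * a⁻¹ = u →
      ∀ w ∈ S.U, w ≠ 1 → w ≠ u → a * w * a⁻¹ = w ∨ a * w * a⁻¹ = u * w := by
    intro a ha hau w hw hw1 hwu
    have h1 : a * w * a⁻¹ ≠ 1 := fun e => hw1 (by simpa using e)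
    rcases S.U_cases hu hw hu1 hw1 (Ne.symm hwu) (ha w hw) with e | e | e | e
    · exact absurd e h1
    · refine absurd ?_ hwu
      calc w = a⁻¹ * (a * w * a⁻¹) * a := by group
        _ = a⁻¹ * (a * u * a⁻¹) * a := by rw [e, hau]
        _ = u := by group
    · exact Or.inl e
    · exact Or.inr e
  suffices hcomm : h * (k * v * k⁻¹) * h⁻¹ = k * (h * v * h⁻¹) * k⁻¹ by
    simp only [commutatorElement_def]
    have hinv : ∀ a, (∀ w ∈ S.U, a * w * a⁻¹ ∈ S.U) → ∀ w ∈ S.U, a⁻¹ * w * a ∈ S.U := by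
      intro a ha w hw
      obtain ⟨⟨x, hx⟩, hxe⟩ := Finite.surjective_of_injective
        (f := fun x : S.U => (⟨_, ha x.1 x.2⟩ : S.U))
        (fun x y e => Subtype.ext (mul_left_cancel (mul_right_cancel (congrArg Subtype.val e :)))) ⟨w, hw⟩
      rw [← show a * x * a⁻¹ = w from congrArg Subtype.val hxe]
      simpa [mul_assoc] using hx
    have hbij : ∀ w ∈ S.U, h * (k * w * k⁻¹) * h⁻¹ = k * (h * w * h⁻¹) * k⁻¹ := by
      intro w hw
      by_cases hw1 : w = 1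
      · simp [hw1]
      by_cases hwu : w = u
      · rw [hwu, hku, hhu, hku]
      rcases key h hh hhu w hw hw1 hwu with e1 | e1 <;>
        rcases key k hk hku w hw hw1 hwu with e2 | e2
      · rw [e2, e1, e2]
      · rw [e2, e1, e2, show h * (u * w) * h⁻¹ = h * u * h⁻¹ * (h * w * h⁻¹) by group, hhu, e1]
      · rw [e2, e1, show k * (u * w) * k⁻¹ = k * u * k⁻¹ * (k * w * k⁻¹) by group, hku, e2]
      · rw [e2, e1, show k * (u * w) * k⁻¹ = k * u * k⁻¹ * (k * w * k⁻¹) by group, hku, e2,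
          show h * (u * w) * h⁻¹ = h * u * h⁻¹ * (h * w * h⁻¹) by group, hhu, e1]
    have h2 := hbij _ (hinv h hh _ (hinv k hk v hv))
    calc h * k * h⁻¹ * k⁻¹ * v * (h * k * h⁻¹ * k⁻¹)⁻¹
        = h * (k * (h⁻¹ * (k⁻¹ * v * k) * h) * k⁻¹) * h⁻¹ := by group
      _ = k * (h * (h⁻¹ * (k⁻¹ * v * k) * h) * h⁻¹) * k⁻¹ := by rw [h2]
      _ = v := by group
  by_cases hv1 : v = 1
  · simp [hv1]
  by_cases hvu : v = u
  · rw [hvu, hku, hhu, hku]
  rcases key h hh hhu v hv hv1 hvu with e1 | e1 <;> rcases key k hk hku v hv hv1 hvu with e2 | e2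
  · rw [e2, e1, e2]
  · rw [e2, e1, e2, show h * (u * v) * h⁻¹ = h * u * h⁻¹ * (h * v * h⁻¹) by group, hhu, e1]
  · rw [e2, e1, show k * (u * v) * k⁻¹ = k * u * k⁻¹ * (k * v * k⁻¹) by group, hku, e2]
  · rw [e2, e1, show k * (u * v) * k⁻¹ = k * u * k⁻¹ * (k * v * k⁻¹) by group, hku, e2,
      show h * (u * v) * h⁻¹ = h * u * h⁻¹ * (h * v * h⁻¹) by group, hhu, e1]

/-- two inner involutions outside `J` with the same centraliser in `J` -/
theorem rank_core [Finite G] {a x : G} (ha : S.Inner a) (hx : S.Inner x) (ha2 : a * a = 1)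
    (hx2 : x * x = 1) (hax : a * x = x * a) (haJ : a ∉ S.J) (hxJ : x ∉ S.J) (hne : x * a ∉ S.J)
    (h1 : ∀ j ∈ S.J, a * j * a⁻¹ = j → x * j * x⁻¹ = j)
    (h2 : ∀ j ∈ S.J, x * j * x⁻¹ = j → a * j * a⁻¹ = j)
    (hC : ∀ h ∈ S.X, h * a = a * h → h * x = x * h) : False := by
  have hfin : Finite S.W := S.H.finite
  have ha2' : a * a ∈ S.J := by rw [ha2]; exact one_mem _
  have hx2' : x * x ∈ S.J := by rw [hx2]; exact one_mem _
  have hainv : a⁻¹ = a := inv_eq_of_mul_eq_one_left ha2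
  have hxinv : x⁻¹ = x := inv_eq_of_mul_eq_one_left hx2
  have same : 32 ≤ Nat.card {v // S.act x v = v ∧ S.act a v = v} → False := fun h => by
    have e := HForm.eq_of_fix (S.isInv_act hx hx2') (S.isInv_act ha ha2') (S.act_ne_id hx.1 hxJ)
      (S.act_ne_id ha.1 haJ) h
    have := (S.act_eq_iff hx.1 ha.1).1 e
    rw [hxinv] at this
    exact hne this
  have big : ∀ {t : G}, S.fixJ t ⊆ S.fixJ a → S.fixJ t ⊆ S.fixJ x → 32 ≤ Nat.card (S.fixJ t) →
      False := fun {t} s1 s2 h => same (h.trans (Nat.card_le_card_of_injective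
    (fun v => ⟨v.1, S.fixJ_sub hx.1 (s2 v.2), S.fixJ_sub ha.1 (s1 v.2)⟩)
    fun p q e => Subtype.ext (congrArg Subtype.val e :)))
  by_cases hA : 32 ≤ Nat.card {v // S.act a v = v}
  · exact big (t := a) subset_rfl (S.fixJ_mono h1) (S.fixJ_big ha ha2' haJ hA)
  by_cases hX : 32 ≤ Nat.card {v // S.act x v = v}
  · exact big (t := x) (S.fixJ_mono h2) subset_rfl (S.fixJ_big hx hx2' hxJ hX)
  obtain ⟨g, hg, hgU, hg3, hk, -, hrk⟩ := S.exists_gg ha ha2' haJ
  have hinv : a * (g * a * g⁻¹ * a⁻¹) * a⁻¹ = (g * a * g⁻¹ * a⁻¹)⁻¹ := by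
    simp only [mul_inv_rev, inv_inv, hainv, mul_assoc, ha2, mul_one]
  obtain ⟨g', hg', hg'a⟩ := S.lift_gg ha.1 (fun u hu => S.inner_fix_U ha ha2' hu) hg.1 hgU hg3 hk
    (HForm.image_of_fix (S.isInv_act ha ha2') (S.act_ne_id ha.1 haJ) (not_le.1 hA)
      (S.fix_of_inverted ha.1 hk hinv))
  have hg'X : g' ∈ S.X := by
    have := mul_mem hg.1 (S.J_le_X hg')
    rwa [mul_inv_cancel_left] at this
  have hg'x := hC g' hg'X (mul_inv_eq_iff_eq_mul.1 hg'a)
  have hxg : x * g * x⁻¹ * g⁻¹ ∈ S.J := by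
    have m := mul_mem (S.conj_J hg.1 hg') (S.conj_J hx.1 (inv_mem (S.conj_J hg.1 hg')))
    have e : x * g * x⁻¹ * g⁻¹ = (x * (g * (g⁻¹ * g') * g⁻¹)⁻¹ * x⁻¹) *
        ((x * g' * x⁻¹) * g'⁻¹) * (g * (g⁻¹ * g') * g⁻¹) := by group
    rw [e, show x * g' * x⁻¹ = g' by rw [← hg'x]; group, mul_inv_cancel, mul_one]
    exact mul_mem (S.conj_J hx.1 (inv_mem (S.conj_J hg.1 hg'))) (S.conj_J hg.1 hg')
  rcases hrk (not_le.1 hA) x hx hx2' (by rw [← hax]; simp [one_mem]) hxg with h | h | h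
  · exact hxJ h
  · rw [hxinv] at h; exact hne h
  · exact hX h

/-- common hypothesis: no conjugate of `z` is a central element of `J` other than `z` -/
def ZNotConj : Prop :=
  ∀ g, ∀ j ∈ S.J, (∀ k ∈ S.J, j * k = k * j) → g * z * g⁻¹ = j → j = z

/-! ### All centralisers split: `z` is isolated -/

theorem isolated [Finite G] (hd : ∀ u ∈ S.U, u ≠ 1 → S.CoreSplit u)
    (he : ∀ u ∈ S.U, u ≠ 1 → S.CoreSplit (u * z)) (hz : S.ZNotConj) {g : G}
    (hx : g * z * g⁻¹ ∈ S.X) : g * z * g⁻¹ = z := by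
  by_contra hne
  set x := g * z * g⁻¹ with hxdef
  have hx2 : x * x = 1 := mul_self_conj S.z_sq
  have hxc : ¬ ∀ k ∈ S.J, x * k = k * x := fun hc => by
    by_cases hxJ : x ∈ S.J
    · exact hne (hz g x hxJ hc rfl)
    · exact hxJ (S.J_cent x (S.mem_X.1 hx) hc)
  have hxX' : ∀ j ∈ S.X, j * x = x * j → g⁻¹ * j * g ∈ S.X := fun j _ hjx => by
    rw [S.mem_X]
    calc g⁻¹ * j * g * z = g⁻¹ * (j * x) * g := by rw [hxdef]; group
      _ = g⁻¹ * (x * j) * g := by rw [hjx]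
      _ = z * (g⁻¹ * j * g) := by rw [hxdef]; group
  -- valid pairs
  have keys : ∀ u ∈ S.U, u ≠ 1 → g * u * g⁻¹ ∈ S.X →
      (∀ h ∈ S.X, h * (g * u * g⁻¹) = g * u * g⁻¹ * h → h * x = x * h) ∧
      ∀ h ∈ S.X, h * (g * (u * z) * g⁻¹) = g * (u * z) * g⁻¹ * h → h * x = x * h := by
    intro u hu hu1 hm
    have hm' : g * (u * z) * g⁻¹ ∈ S.X := by
      rw [show g * (u * z) * g⁻¹ = g * u * g⁻¹ * x by rw [hxdef]; group]; exact mul_mem hm hx
    exact ⟨fun h hh hc => S.key (hd u hu hu1) (S.z_center (S.U_le hu)).symm (S.U_sq u hu) hx hm hh hc,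
      fun h hh hc => S.key (he u hu hu1) (S.uz_comm hu) (S.uz_sq hu) hx hm' hh hc⟩
  -- no conjugate of `U` meets `J`
  have noJ : ∀ u ∈ S.U, u ≠ 1 → g * u * g⁻¹ ∉ S.J := by
    intro u hu hu1 hJ
    obtain ⟨k1, k2⟩ := keys u hu hu1 (S.J_le_X hJ)
    have c1 : ∀ j ∈ S.J, g * u * g⁻¹ * j * (g * u * g⁻¹)⁻¹ = j → x * j * x⁻¹ = j :=
      fun j hj h => by
        rw [← k1 j (S.J_le_X hj) (mul_inv_eq_iff_eq_mul.1 h).symm]; group
    have hxJ := S.mem_J_of_fixJ hx hx2 hJ c1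
    rcases S.nested hJ hxJ c1 with h | h
    · exact hxc h
    · refine hxc fun k hk => (k2 k (S.J_le_X hk) ?_).symm
      rw [show g * (u * z) * g⁻¹ = g * u * g⁻¹ * x by rw [hxdef]; group, h k hk]
  set y := g⁻¹ * z * g with hydef
  have hyX : y ∈ S.X := hxX' z (S.mem_X.2 rfl) (S.mem_X.1 hx).symm
  have hy2 : y * y = 1 := by
    rw [hydef, show g⁻¹ * z * g * (g⁻¹ * z * g) = g⁻¹ * (z * z) * g by group, S.z_sq]; group
  obtain ⟨u, hu, hu1, huf⟩ := S.exists_fixed_U hyX hy2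
  set d' := g * u * g⁻¹ with hd'def
  have hd'X : d' ∈ S.X := by
    rw [S.mem_X]
    calc d' * z = g * (u * y) * g⁻¹ := by rw [hd'def, hydef]; group
      _ = g * (y * u) * g⁻¹ := by rw [← mul_inv_eq_iff_eq_mul.1 huf]
      _ = z * d' := by rw [hd'def, hydef]; group
  set a := g * (u * z) * g⁻¹ with hadef
  have had : a = d' * x := by rw [hadef, hd'def, hxdef]; group
  have haX : a ∈ S.X := by rw [had]; exact mul_mem hd'X hx
  have ha2 : a * a = 1 := mul_self_conj (S.uz_sq hu)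
  have hdx : d' * x = x * d' := by
    calc d' * x = g * (u * z) * g⁻¹ := by rw [hd'def, hxdef]; group
      _ = g * (z * u) * g⁻¹ := by rw [S.z_center (S.U_le hu)]
      _ = x * d' := by rw [hd'def, hxdef]; group
  obtain ⟨kd, ka⟩ := keys u hu hu1 hd'X
  have d'J := noJ u hu hu1
  -- the three centralisers in `J` agree
  have cx : ∀ j ∈ S.J, x * j * x⁻¹ = j → d' * j * d'⁻¹ = j := by
    intro j hj hjx
    have hj' := hxX' j (S.J_le_X hj) (mul_inv_eq_iff_eq_mul.1 hjx).symm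
    by_contra hmov
    set v := g⁻¹ * j * g * u * (g⁻¹ * j * g)⁻¹ with hvdef
    have hvU : v ∈ S.U := S.conj_U hj' hu
    have e : g * (u * v) * g⁻¹ = d' * j * d'⁻¹ * j⁻¹ := by
      have : d'⁻¹ = d' := inv_eq_of_mul_eq_one_left (mul_self_conj (S.U_sq u hu))
      rw [this, hvdef, hd'def]; group
    refine noJ (u * v) (mul_mem hu hvU) (fun h1 => hmov ?_) ?_
    · rw [h1] at e
      have e' : d' * j * d'⁻¹ * j⁻¹ = 1 := by rw [← e]; group
      exact mul_inv_eq_one.1 e'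
    · rw [e]; exact mul_mem (S.conj_J hd'X hj) (inv_mem hj)
  have ca : ∀ j ∈ S.J, a * j * a⁻¹ = j → x * j * x⁻¹ = j := fun j hj h => by
    rw [← ka j (S.J_le_X hj) (mul_inv_eq_iff_eq_mul.1 h).symm]; group
  have cd : ∀ j ∈ S.J, d' * j * d'⁻¹ = j → x * j * x⁻¹ = j := fun j hj h => by
    rw [← kd j (S.J_le_X hj) (mul_inv_eq_iff_eq_mul.1 h).symm]; group
  have cxa : ∀ j ∈ S.J, x * j * x⁻¹ = j → a * j * a⁻¹ = j := fun j hj h => by
    rw [had, show d' * x * j * (d' * x)⁻¹ = d' * (x * j * x⁻¹) * d'⁻¹ by group, h, cx j hj h]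
  have haJ : a ∉ S.J := fun h => by
    have hxJ := S.mem_J_of_fixJ hx hx2 h ca
    refine d'J ?_
    show d' ∈ S.J
    rw [show d' = a * x⁻¹ by rw [had]; group]
    exact mul_mem h (inv_mem hxJ)
  have hxJ : x ∉ S.J := fun h => haJ (S.mem_J_of_fixJ haX ha2 h cxa)
  -- parity
  have hinner : S.Inner a ∧ S.Inner x := by
    have hU : ∀ {s t : G}, s ∈ S.X → S.Inner t → t * t = 1 →
        (∀ j ∈ S.J, t * j * t⁻¹ = j → s * j * s⁻¹ = j) → S.Inner s := by
      intro s t hs ht ht2 hst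
      by_contra hi
      obtain ⟨d, hd, hd1, hdf, honly⟩ := S.outer_fix hs hi
      have hm := S.conj_U S.c_mem hd
      have hfix := hst _ (S.U_le hm) (S.inner_fix_U ht (by rw [ht2]; exact one_mem _) hm)
      rcases honly _ hm hfix with e | e
      · exact hd1 (by simpa using e)
      · exact S.c_moves hd hd1 e
    have hd2 : d' * d' = 1 := mul_self_conj (S.U_sq u hu)
    by_cases hix : S.Inner x
    · exact ⟨hU haX hix hx2 cxa, hix⟩
    exfalso
    have hia : ¬ S.Inner a := fun h => hix (hU hx h ha2 ca)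
    have hid : S.Inner d' := by
      rw [show d' = a * x by rw [had, mul_assoc, hx2, mul_one]]
      exact S.outer_mul haX hia hx hix
    exact hix (hU hx hid hd2 cd)
  refine S.rank_core hinner.1 hinner.2 ha2 hx2 ?_ haJ hxJ (fun h => d'J ?_) ca cxa
    (fun h hh hc => ka h hh hc)
  · rw [had, mul_assoc, hx2, mul_one, ← mul_assoc, ← hdx, mul_assoc, hx2, mul_one]
  · rwa [had, hdx, ← mul_assoc, hx2, one_mul] at h

/-! ### `C(dz) ≤ X` and `C(d) ≤ N(U)`: the four-group is attached to the conjugates -/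

/-- a conjugate of `U` normalised by the centraliser of one of its members in `U` is `U` -/
theorem uniq [Finite G] (hz : S.ZNotConj)
    (henc : ∀ g, ∀ u ∈ S.U, ∀ v ∈ S.U, v ≠ 1 → g * u * g⁻¹ ≠ v * z) {g d : G} (hd : d ∈ S.U)
    (hd1 : d ≠ 1) {u : G} (hu : u ∈ S.U) (hgu : g * u * g⁻¹ = d)
    (hN : ∀ h, h * d = d * h → ∀ v ∈ S.U, g⁻¹ * h * g * v * (g⁻¹ * h * g)⁻¹ ∈ S.U) :
    ∀ v ∈ S.U, g * v * g⁻¹ ∈ S.U := by
  have hu1 : u ≠ 1 := fun e => hd1 (by rw [← hgu, e]; group)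
  have hcu : ∀ {h}, h * d = d * h → g⁻¹ * h * g * u * (g⁻¹ * h * g)⁻¹ = u := by
    intro h hh
    calc g⁻¹ * h * g * u * (g⁻¹ * h * g)⁻¹ = g⁻¹ * (h * (g * u * g⁻¹) * h⁻¹) * g := by group
      _ = g⁻¹ * (g * u * g⁻¹) * g := by rw [hgu, hh]; group
      _ = u := by group
  obtain ⟨j, hj, k, hk, hjk⟩ := S.exists_commutator_J
  have hjd : ∀ {i}, i ∈ S.J → i * d = d * i := fun hi => (S.U_cent d hd _ hi).symm
  -- the conjugate lies in `X`
  have hX : ∀ v ∈ S.U, g * v * g⁻¹ ∈ S.X := by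
    intro v hv
    have h := S.comm_fix (hN j (hjd hj)) (hN k (hjd hk)) hu hu1 (hcu (hjd hj)) (hcu (hjd hk)) hv
    rw [show ⁅g⁻¹ * j * g, g⁻¹ * k * g⁆ = g⁻¹ * ⁅j, k⁆ * g by
      simp only [commutatorElement_def]; group, hjk] at h
    rw [S.mem_X]
    calc g * v * g⁻¹ * z = g * (g⁻¹ * z * g * v * (g⁻¹ * z * g)⁻¹) * g⁻¹ * z := by rw [h]
      _ = z * (g * v * g⁻¹) := by group
  let N : Subgroup G := S.U.map (MulAut.conj g).toMonoidHom
  have hNmem : ∀ {x}, x ∈ N ↔ ∃ v ∈ S.U, g * v * g⁻¹ = x := by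
    intro x; simp [N, Subgroup.mem_map]
  let L : Subgroup G := S.X ⊓ Subgroup.centralizer ({d} : Set G)
  have hL : ∀ {h}, h ∈ L ↔ h ∈ S.X ∧ h * d = d * h := by
    intro h; simp [L, Subgroup.mem_centralizer_singleton_iff]
  have hle : N ≤ S.J ⊔ Subgroup.zpowers S.c := by
    refine S.small N L (fun n hn => ?_) (fun h hh => S.mem_X.1 (hL.1 hh).1) ?_ ?_ ?_
    · obtain ⟨v, hv, rfl⟩ := hNmem.1 hn; exact S.mem_X.1 (hX v hv)
    · intro h hh n hn
      obtain ⟨v, hv, rfl⟩ := hNmem.1 hn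
      exact hNmem.2 ⟨_, hN h (hL.1 hh).2 v hv, by group⟩
    · intro x hx
      have hxX := S.mem_X.2 hx
      have hxd : x⁻¹ * d * x ∈ S.U := by simpa using S.conj_U (inv_mem hxX) hd
      have hxd1 : x⁻¹ * d * x ≠ 1 := fun e => hd1 (by
        calc d = x * (x⁻¹ * d * x) * x⁻¹ := by group
          _ = 1 := by rw [e]; group)
      obtain ⟨q, hq, hqd⟩ : ∃ q ∈ Subgroup.zpowers S.c, q * d * q⁻¹ = x⁻¹ * d * x := by
        rcases S.U_orbit hd hd1 hxd hxd1 with e | e | e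
        · exact ⟨1, one_mem _, by rw [e]; group⟩
        · exact ⟨S.c, Subgroup.mem_zpowers _, e.symm⟩
        · exact ⟨S.c⁻¹, inv_mem (Subgroup.mem_zpowers _), by rw [e, inv_inv]⟩
      have hqX : q ∈ S.X := Subgroup.zpowers_le.2 S.c_mem hq
      refine ⟨x * q, hL.2 ⟨mul_mem hxX hqX, ?_⟩, ?_⟩
      · calc x * q * d = x * (q * d * q⁻¹) * q := by group
          _ = d * (x * q) := by rw [hqd]; group
      · rw [show (x * q)⁻¹ * x = q⁻¹ by group]
        exact le_sup_right (α := Subgroup G) (inv_mem hq)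
    · rw [show Nat.card N = 4 by rw [← S.U_card]; exact Subgroup.card_map_of_injective (MulEquiv.injective _)]
      norm_num
  intro v hv
  have hm := hle (hNmem.2 ⟨v, hv, rfl⟩)
  have hvJ : g * v * g⁻¹ ∈ S.J := by
    have hnorm : Subgroup.zpowers S.c ≤ Subgroup.normalizer (S.J : Set G) := by
      rw [Subgroup.zpowers_le, Subgroup.mem_normalizer_iff]
      intro i
      refine ⟨fun hi => S.conj_J S.c_mem hi, fun hi => ?_⟩
      have := S.conj_J (inv_mem S.c_mem) hi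
      simpa [mul_assoc] using this
    have h2 : g * v * g⁻¹ * (g * v * g⁻¹) = 1 := mul_self_conj (S.U_sq v hv)
    rw [← SetLike.mem_coe, Subgroup.coe_mul_of_right_le_normalizer_left _ _ hnorm] at hm
    obtain ⟨i, hi, q, hq, he⟩ := hm
    have he' : g * v * g⁻¹ = i * q := he.symm
    rw [he'] at h2 ⊢
    have hqX : q ∈ S.X := Subgroup.zpowers_le.2 S.c_mem hq
    have hqq : q * q ∈ S.J := by
      have m := S.conj_J hqX hi
      have e : q * q = (q * i * q⁻¹)⁻¹ * i⁻¹ := by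
        calc q * q = (q * i * q⁻¹)⁻¹ * i⁻¹ * (i * q * (i * q)) := by group
          _ = _ := by rw [h2, mul_one]
      rw [e]
      exact mul_mem (inv_mem m) (inv_mem hi)
    obtain ⟨n, rfl⟩ := Subgroup.mem_zpowers_iff.1 hq
    have h3 : S.c ^ (3 : ℤ) = 1 := by
      rw [show (3 : ℤ) = ((3 : ℕ) : ℤ) from rfl, zpow_natCast, pow_three', S.c_three]
    refine mul_mem hi ?_
    have e1 : S.c ^ n = (S.c ^ n * S.c ^ n)⁻¹ * (S.c ^ (3 : ℤ)) ^ n := by
      rw [← zpow_mul, ← zpow_add, ← zpow_neg, ← zpow_add]; congr 1; ring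
    rw [h3, one_zpow, mul_one] at e1
    rw [e1]
    exact inv_mem hqq
  by_cases hv1 : v = 1
  · subst hv1; rw [show g * 1 * g⁻¹ = (1 : G) by group]; exact one_mem _
  have hgv1 : g * v * g⁻¹ ≠ 1 := fun e => hv1 (by simpa using e)
  have hcen : ∀ i ∈ S.J, g * v * g⁻¹ * i = i * (g * v * g⁻¹) := by
    intro i hi
    obtain ⟨w, hw, hwe⟩ := hNmem.1 (mul_mem (hNmem.2 ⟨v, hv, rfl⟩)
      (inv_mem (hNmem.2 ⟨_, hN i (hjd hi) v hv, by group⟩ : i * (g * v * g⁻¹) * i⁻¹ ∈ N)))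
    have hwz : g * v * g⁻¹ * (i * (g * v * g⁻¹) * i⁻¹)⁻¹ = ⁅g * v * g⁻¹, i⁆ := by
      simp only [commutatorElement_def]; group
    rw [hwz] at hwe
    rcases S.comm_J _ hvJ i hi with e | e
    · exact commutatorElement_eq_one_iff_mul_comm.1 e
    · exfalso
      rw [e] at hwe
      -- `z` is conjugate to an element of `U`
      have hwu : g⁻¹ * z * g⁻¹⁻¹ = w := by rw [← hwe]; group
      refine S.z_notin ?_
      have hwJ := S.U_le hw
      exact (hz g⁻¹ w hwJ (fun l hl => S.U_cent w hw l hl) hwu) ▸ hw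
  rcases S.central_cases hvJ hcen hgv1 with e | e | e
  · exfalso
    have hwu : g⁻¹ * z * g⁻¹⁻¹ = v := by rw [← e]; group
    exact S.z_notin (hz g⁻¹ v (S.U_le hv) (fun l hl => S.U_cent v hv l hl) hwu ▸ hv)
  · exact e.1
  · exfalso
    refine henc g v hv _ e.1 e.2 ?_
    rw [mul_assoc _ z z, S.z_sq, mul_one]

/-- the four-group of a conjugate of `z` in `X` is `U` -/
theorem same_U [Finite G] (he : ∀ u ∈ S.U, u ≠ 1 → ∀ h, h * (u * z) = u * z * h → h ∈ S.X)
    (hd : ∀ u ∈ S.U, u ≠ 1 → ∀ h, h * u = u * h → ∀ v ∈ S.U, h * v * h⁻¹ ∈ S.U) (hz : S.ZNotConj)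
    (henc : ∀ g, ∀ u ∈ S.U, ∀ v ∈ S.U, v ≠ 1 → g * u * g⁻¹ ≠ v * z) {g : G}
    (hx : g * z * g⁻¹ ∈ S.X) : ∀ v ∈ S.U, g * v * g⁻¹ ∈ S.U := by
  have hfin : Finite S.W := S.H.finite
  set x := g * z * g⁻¹ with hxdef
  by_cases hxz : x = z
  · have hg : g ∈ S.X := by
      rw [S.mem_X]
      calc g * z = x * g := by rw [hxdef]; group
        _ = z * g := by rw [hxz]
    exact fun v hv => S.conj_U hg hv
  have hNW : ∀ {u}, u ∈ S.U → u ≠ 1 → ∀ h, h * (g * u * g⁻¹) = g * u * g⁻¹ * h →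
      ∀ v ∈ S.U, g⁻¹ * h * g * v * (g⁻¹ * h * g)⁻¹ ∈ S.U := by
    intro u hu hu1 h hh
    refine hd u hu hu1 _ ?_
    calc g⁻¹ * h * g * u = g⁻¹ * (h * (g * u * g⁻¹)) * g := by group
      _ = g⁻¹ * (g * u * g⁻¹ * h) * g := by rw [hh]
      _ = u * (g⁻¹ * h * g) := by group
  have hCx : ∀ {u}, u ∈ S.U → u ≠ 1 → ∀ h, h * (g * (u * z) * g⁻¹) = g * (u * z) * g⁻¹ * h →
      h * x = x * h := by
    intro u hu hu1 h hh
    have hm := S.mem_X.1 (he u hu hu1 (g⁻¹ * h * g) (by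
      calc g⁻¹ * h * g * (u * z) = g⁻¹ * (h * (g * (u * z) * g⁻¹)) * g := by group
        _ = g⁻¹ * (g * (u * z) * g⁻¹ * h) * g := by rw [hh]
        _ = u * z * (g⁻¹ * h * g) := by group))
    calc h * x = g * (g⁻¹ * h * g * z) * g⁻¹ := by rw [hxdef]; group
      _ = g * (z * (g⁻¹ * h * g)) * g⁻¹ := by rw [hm]
      _ = x * h := by rw [hxdef]; group
  -- a conjugate in `Z(J)` decides
  by_cases hcent : ∃ u ∈ S.U, u ≠ 1 ∧ g * u * g⁻¹ ∈ S.J ∧
      ∀ k ∈ S.J, g * u * g⁻¹ * k = k * (g * u * g⁻¹)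
  · obtain ⟨u, hu, hu1, huJ, huc⟩ := hcent
    rcases S.central_cases huJ huc (fun e => hu1 (by simpa using e)) with e | e | e
    · have hwu : g⁻¹ * z * g⁻¹⁻¹ = u := by rw [← e]; group
      exact absurd (hz g⁻¹ u (S.U_le hu) (fun l hl => S.U_cent u hu l hl) hwu ▸ hu) S.z_notin
    · exact S.uniq hz henc e.1 e.2 hu rfl (hNW hu hu1)
    · exact absurd (by rw [mul_assoc _ z z, S.z_sq, mul_one]) (henc g u hu _ e.1 e.2)
  exfalso
  push Not at hcent
  -- no conjugate of `U` meets `J`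
  have noJ : ∀ u ∈ S.U, u ≠ 1 → g * u * g⁻¹ ∉ S.J := by
    intro u hu hu1 huJ
    set t := g * u * g⁻¹ with htdef
    have ht1 : t ≠ 1 := fun e => hu1 (by simpa [htdef] using e)
    have hcu : ∀ {h}, h * t = t * h → g⁻¹ * h * g * u * (g⁻¹ * h * g)⁻¹ = u := by
      intro h hh
      calc g⁻¹ * h * g * u * (g⁻¹ * h * g)⁻¹ = g⁻¹ * (h * t * h⁻¹) * g := by rw [htdef]; group
        _ = g⁻¹ * t * g := by rw [hh]; group
        _ = u := by rw [htdef]; group
    obtain ⟨j, hj, k, hk, hjt, hkt, hjk⟩ := S.exists_comm (t := t) (by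
      have := S.fixJ_large huJ; omega)
    have hjt' := (mul_inv_eq_iff_eq_mul.1 hjt).symm
    have hkt' := (mul_inv_eq_iff_eq_mul.1 hkt).symm
    have hWX : ∀ v ∈ S.U, g * v * g⁻¹ ∈ S.X := by
      intro v hv
      have h := S.comm_fix (hNW hu hu1 j hjt') (hNW hu hu1 k hkt') hu hu1 (hcu hjt') (hcu hkt') hv
      rw [show ⁅g⁻¹ * j * g, g⁻¹ * k * g⁆ = g⁻¹ * ⁅j, k⁆ * g by
        simp only [commutatorElement_def]; group, hjk] at h
      rw [S.mem_X]
      calc g * v * g⁻¹ * z = g * (g⁻¹ * z * g * v * (g⁻¹ * z * g)⁻¹) * g⁻¹ * z := by rw [h]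
        _ = z * (g * v * g⁻¹) := by group
    -- commutators with elements centralising `t`
    have hcomm : ∀ v ∈ S.U, v ≠ 1 → v ≠ u → ∀ i ∈ S.J, i * t = t * i →
        i * (g * v * g⁻¹) * i⁻¹ = g * v * g⁻¹ ∨ i * (g * v * g⁻¹) * i⁻¹ = t * (g * v * g⁻¹) := by
      intro v hv hv1 hvu i hi hit
      have hv' := hNW hu hu1 i hit v hv
      have hne : g⁻¹ * i * g * v * (g⁻¹ * i * g)⁻¹ ≠ 1 := fun e => hv1 (by
        calc v = (g⁻¹ * i * g)⁻¹ * (g⁻¹ * i * g * v * (g⁻¹ * i * g)⁻¹) * (g⁻¹ * i * g) := by group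
          _ = 1 := by rw [e]; group)
      have hne2 : g⁻¹ * i * g * v * (g⁻¹ * i * g)⁻¹ ≠ u := fun e => hvu (by
        calc v = (g⁻¹ * i * g)⁻¹ * (g⁻¹ * i * g * v * (g⁻¹ * i * g)⁻¹) * (g⁻¹ * i * g) := by group
          _ = (g⁻¹ * i * g)⁻¹ * (g⁻¹ * i * g * u * (g⁻¹ * i * g)⁻¹) * (g⁻¹ * i * g) := by
            rw [e, hcu hit]
          _ = u := by group)
      rcases S.U_cases hu hv hu1 hv1 (Ne.symm hvu) hv' with e | e | e | e
      · exact absurd e hne
      · exact absurd e hne2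
      · left
        calc i * (g * v * g⁻¹) * i⁻¹ = g * (g⁻¹ * i * g * v * (g⁻¹ * i * g)⁻¹) * g⁻¹ := by group
          _ = _ := by rw [e]
      · right
        calc i * (g * v * g⁻¹) * i⁻¹ = g * (g⁻¹ * i * g * v * (g⁻¹ * i * g)⁻¹) * g⁻¹ := by group
          _ = _ := by rw [e, htdef]; group
    obtain ⟨v, hv, hv1, hvu⟩ : ∃ v ∈ S.U, v ≠ 1 ∧ v ≠ u :=
      ⟨_, S.conj_U S.c_mem hu, fun e => hu1 (by simpa using e), S.c_moves hu hu1⟩
    set s := g * v * g⁻¹ with hsdef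
    have hsX : s ∈ S.X := hWX v hv
    have hs2 : s * s = 1 := mul_self_conj (S.U_sq v hv)
    have htne : S.π t ≠ 0 := fun e => by
      obtain ⟨k', hk', hne⟩ := hcent u hu hu1 huJ
      exact hne ((S.π_eq_zero huJ).1 e k' hk')
    by_cases hsJ : s ∈ S.J
    · -- two conjugates in `J`
      have hsub : ∀ i ∈ S.J, t * i * t⁻¹ = i → s * i * s⁻¹ = i := by
        intro i hi hit
        rcases hcomm v hv hv1 hvu i hi (mul_inv_eq_iff_eq_mul.1 hit).symm with e | e
        · calc s * i * s⁻¹ = i * s * i⁻¹ * i * s⁻¹ := by rw [e]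
            _ = i := by group
        · exfalso
          rcases S.comm_J i hi s hsJ with e' | e'
          · rw [commutatorElement_def, e, mul_assoc, mul_inv_cancel, mul_one] at e'
            exact ht1 e'
          · rw [commutatorElement_def, e, mul_assoc, mul_inv_cancel, mul_one] at e'
            have hwu : g⁻¹ * z * g⁻¹⁻¹ = u := by rw [← e', htdef]; group
            exact S.z_notin (hz g⁻¹ u (S.U_le hu) (fun l hl => S.U_cent u hu l hl) hwu ▸ hu)
      rcases S.nested huJ hsJ hsub with e | e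
      · obtain ⟨k', hk', hne⟩ := hcent v hv hv1 hsJ
        exact hne (e k' hk')
      · have huv : u * v ≠ 1 := fun e0 => hvu (by
          rw [← S.U_inv hu]; exact eq_inv_of_mul_eq_one_right e0)
        have e3 : g * (u * v) * g⁻¹ = t * s := by rw [htdef, hsdef]; group
        obtain ⟨k', hk', hne⟩ := hcent _ (mul_mem hu hv) huv (e3 ▸ mul_mem huJ hsJ)
        exact hne (e3.symm ▸ e k' hk')
    -- `s` outside `J`
    have hfs : ∀ i ∈ S.J, i * t = t * i → S.act s (S.π i) = S.π i → s * i * s⁻¹ = i := by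
      intro i hi hit hfix
      rcases hcomm v hv hv1 hvu i hi hit with e | e
      · calc s * i * s⁻¹ = i * s * i⁻¹ * i * s⁻¹ := by rw [e]
          _ = i := by group
      · exfalso
        apply htne
        have e2 : s * i * s⁻¹ = t⁻¹ * i := by
          calc s * i * s⁻¹ = t⁻¹ * (t * s) * i * s⁻¹ := by group
            _ = t⁻¹ * (i * s * i⁻¹) * i * s⁻¹ := by rw [e]
            _ = t⁻¹ * i := by group
        rw [S.act_π hsX hi, e2, S.π_mul (inv_mem huJ) hi, S.π_inv huJ] at hfix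
        exact add_eq_right.1 hfix
    have hperp : ∀ {w : S.W}, S.H.f (S.π t) w = 0 →
        ∃ i ∈ S.J, S.π i = w ∧ i * t = t * i := by
      intro w hw
      obtain ⟨i, hi, hπ, hit⟩ := S.perp_sub_fixJ huJ hw
      exact ⟨i, hi, hπ, (mul_inv_eq_iff_eq_mul.1 hit).symm⟩
    classical
    have h64 : 64 ≤ Nat.card {w : S.W // S.H.f (S.π t) w = 0 ∧ S.act s w = w} := by
      let P := {w : S.W // S.H.f (S.π t) w = 0}
      let A := {w : P // S.act s w.1 = w.1}
      let B := {w : P // ¬ S.act s w.1 = w.1}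
      have hval : ∀ w : B, S.act s w.1.1 = S.π t + w.1.1 := by
        intro w
        obtain ⟨i, hi, hπ, hit⟩ := hperp w.1.2
        rcases hcomm v hv hv1 hvu i hi hit with e | e
        · refine absurd ?_ w.2
          have e' : s * i * s⁻¹ = i := by
            calc s * i * s⁻¹ = i * s * i⁻¹ * i * s⁻¹ := by rw [e]
              _ = i := by group
          rw [← hπ, S.act_π hsX hi, e']
        · have e2 : s * i * s⁻¹ = t⁻¹ * i := by
            calc s * i * s⁻¹ = t⁻¹ * (t * s) * i * s⁻¹ := by group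
              _ = t⁻¹ * (i * s * i⁻¹) * i * s⁻¹ := by rw [e]
              _ = t⁻¹ * i := by group
          rw [← hπ, S.act_π hsX hi, e2, S.π_mul (inv_mem huJ) hi, S.π_inv huJ]
      have hle : Nat.card B ≤ Nat.card A := by
        by_cases hB : IsEmpty B
        · simp
        obtain ⟨w₀⟩ := not_isEmpty_iff.1 hB
        refine Nat.card_le_card_of_injective (fun w => ⟨⟨w.1.1 + w₀.1.1,
          by rw [map_add, w.1.2, w₀.1.2, add_zero]⟩, ?_⟩) fun p q e =>
          Subtype.ext (Subtype.ext (add_right_cancel (congrArg (fun x : A => x.1.1) e)))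
        show S.act s (w.1.1 + w₀.1.1) = w.1.1 + w₀.1.1
        rw [map_add, hval w, hval w₀,
          show S.π t + w.1.1 + (S.π t + w₀.1.1) = S.π t + S.π t + (w.1.1 + w₀.1.1) by abel, S.W_two,
          zero_add]
      have hsum : Nat.card P = Nat.card A + Nat.card B := by
        have := Nat.card_congr (Equiv.sumCompl (fun w : P => S.act s w.1 = w.1))
        rw [Nat.card_sum] at this
        exact this.symm
      have h128 : 128 ≤ Nat.card P := S.card_perp (S.π t)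
      have hA : Nat.card A ≤ Nat.card {w : S.W // S.H.f (S.π t) w = 0 ∧ S.act s w = w} :=
        Nat.card_le_card_of_injective (fun w => ⟨w.1.1, w.1.2, w.2⟩) fun p q e =>
          Subtype.ext (Subtype.ext (congrArg Subtype.val e :))
      omega
    have h64' : 64 ≤ Nat.card {w // S.act s w = w} :=
      h64.trans (Nat.card_le_card_of_injective (fun w => ⟨w.1, w.2.2⟩) fun p q e =>
        Subtype.ext (congrArg Subtype.val e :))
    have hsi : S.Inner s := by
      by_contra hi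
      have := S.outer_fix_card hsX hi
      omega
    have hs2' : s * s ∈ S.J := by rw [hs2]; exact one_mem _
    -- every fixed vector is orthogonal to `t`
    have hall : ∀ w, S.act s w = w → S.H.f (S.π t) w = 0 := by
      let A := {w : S.W // S.H.f (S.π t) w = 0 ∧ S.act s w = w}
      let F := {w : S.W // S.act s w = w}
      have hcard : Nat.card F ≤ Nat.card A := (S.fix_card_le hsX hs2' hsJ).trans h64
      have hinj : Function.Injective (fun w : A => (⟨w.1, w.2.2⟩ : F)) :=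
        fun p q e => Subtype.ext (congrArg Subtype.val e :)
      have hsurj := hinj.bijective_of_nat_card_le hcard
      intro w hw
      obtain ⟨a, ha⟩ := hsurj.2 ⟨w, hw⟩
      have : a.1 = w := congrArg Subtype.val ha
      exact this ▸ a.2.1
    obtain ⟨q, hq, hqU, hq3, hk, hqfix, -⟩ := S.exists_gg hsi hs2' hsJ
    have hK : ∀ i ∈ S.J, S.act s (S.π i) = S.π i → s * i * s⁻¹ = i := by
      intro i hi hfix
      refine hfs i hi ?_ hfix
      have := hall _ hfix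
      rw [S.H_f huJ hi, S.b_eq_zero, commutatorElement_eq_one_iff_mul_comm] at this
      exact this.symm
    have hqK : ∀ w, S.act s w = w → S.act s (S.act q⁻¹ w) = S.act q⁻¹ w := by
      intro w hw
      have hm : q⁻¹ * (q * s * q⁻¹ * s⁻¹) * q ∈ S.J := by simpa using S.conj_J (inv_mem hq.1) hk
      calc S.act s (S.act q⁻¹ w) = S.act (s * q⁻¹) w := (S.act_mul hsX (inv_mem hq.1) w).symm
        _ = S.act ((q⁻¹ * (q * s * q⁻¹ * s⁻¹) * q) * (q⁻¹ * s)) w := by
            have e : s * q⁻¹ = q⁻¹ * (q * s * q⁻¹ * s⁻¹) * q * (q⁻¹ * s) := by group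
            rw [← e]
        _ = S.act q⁻¹ w := by
            rw [S.act_mul (S.J_le_X hm) (mul_mem (inv_mem hq.1) hsX), S.act_J hm,
              S.act_mul (inv_mem hq.1) hsX, hw]
    obtain ⟨w, hw⟩ := HForm.image_of_perp (S.isInv_act hsi hs2') (S.act_ne_id hsX hsJ)
      (x := S.π (q * s * q⁻¹ * s⁻¹)) fun w hw => by
        obtain ⟨i, hi, hπi⟩ := S.π_surj (S.act q⁻¹ w)
        have hi1 := hK i hi (by rw [hπi]; exact hqK w hw)
        set i' := q * i * q⁻¹ with hi'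
        have hi'J : i' ∈ S.J := S.conj_J hq.1 hi
        have hπ' : S.π i' = w := by rw [hi', ← S.act_π hq.1 hi, hπi, S.act_apply_inv hq.1]
        have hi2 := hK i' hi'J (by rw [hπ', hw])
        have hi3 : (q * s * q⁻¹) * i' * (q * s * q⁻¹)⁻¹ = i' := by
          calc (q * s * q⁻¹) * i' * (q * s * q⁻¹)⁻¹ = q * (s * i * s⁻¹) * q⁻¹ := by rw [hi']; group
            _ = i' := by rw [hi1]
        rw [← hπ', S.H_f hk hi'J, S.b_eq_zero, commutatorElement_eq_one_iff_mul_comm]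
        calc q * s * q⁻¹ * s⁻¹ * i' = q * s * q⁻¹ * s⁻¹ * (s * i' * s⁻¹) := by rw [hi2]
          _ = q * s * q⁻¹ * i' * (q * s * q⁻¹)⁻¹ * (q * s * q⁻¹ * s⁻¹) := by group
          _ = i' * (q * s * q⁻¹ * s⁻¹) := by rw [hi3]
    obtain ⟨q', hq', hq's⟩ := S.lift_gg hsX (fun w hw => S.inner_fix_U hsi hs2' hw) hq.1 hqU hq3 hk
      ⟨w, hw⟩
    have hq'X : q' ∈ S.X := by
      have := mul_mem hq.1 (S.J_le_X hq')
      rwa [mul_inv_cancel_left] at this
    have hmemU := hNW hv hv1 q' (mul_inv_eq_iff_eq_mul.1 hq's) u hu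
    have hne : g⁻¹ * q' * g * u * (g⁻¹ * q' * g)⁻¹ ≠ 1 := fun e => hu1 (by
      calc u = (g⁻¹ * q' * g)⁻¹ * (g⁻¹ * q' * g * u * (g⁻¹ * q' * g)⁻¹) * (g⁻¹ * q' * g) := by group
        _ = 1 := by rw [e]; group)
    have hconj : q' * t * q'⁻¹ = g * (g⁻¹ * q' * g * u * (g⁻¹ * q' * g)⁻¹) * g⁻¹ := by
      rw [htdef]; group
    have hJ' := S.conj_J hq'X huJ
    rw [hconj] at hJ'
    rcases S.U_cases hu hv hu1 hv1 (Ne.symm hvu) hmemU with e | e | e | e
    · exact hne e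
    · apply htne
      refine hqfix _ ?_
      have hact : S.act q (S.π t) = S.act q' (S.π t) := by
        rw [(S.act_eq_iff hq.1 hq'X).2 hq']
      rw [hact, S.act_π hq'X huJ, hconj, e]
    · rw [e] at hJ'; exact hsJ hJ'
    · rw [e, show g * (u * v) * g⁻¹ = t * s by rw [htdef, hsdef]; group] at hJ'
      refine hsJ ?_
      have := mul_mem (inv_mem huJ) hJ'
      rwa [inv_mul_cancel_left] at this
  -- valid pair
  set y := g⁻¹ * z * g with hydef
  have hyX : y ∈ S.X := by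
    rw [S.mem_X]
    have := S.mem_X.1 hx
    calc y * z = g⁻¹ * (z * x) * g := by rw [hydef, hxdef]; group
      _ = g⁻¹ * (x * z) * g := by rw [this]
      _ = z * y := by rw [hydef, hxdef]; group
  have hy2 : y * y = 1 := by
    rw [hydef, show g⁻¹ * z * g * (g⁻¹ * z * g) = g⁻¹ * (z * z) * g by group, S.z_sq]; group
  obtain ⟨u, hu, hu1, huf⟩ := S.exists_fixed_U hyX hy2
  set d' := g * u * g⁻¹ with hd'def
  have hd'X : d' ∈ S.X := by
    rw [S.mem_X]
    calc d' * z = g * (u * y) * g⁻¹ := by rw [hd'def, hydef]; group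
      _ = g * (y * u) * g⁻¹ := by rw [← mul_inv_eq_iff_eq_mul.1 huf]
      _ = z * d' := by rw [hd'def, hydef]; group
  set a := g * (u * z) * g⁻¹ with hadef
  have had : a = d' * x := by rw [hadef, hd'def, hxdef]; group
  have haX : a ∈ S.X := by rw [had]; exact mul_mem hd'X hx
  have ha2 : a * a = 1 := mul_self_conj (S.uz_sq hu)
  have hx2 : x * x = 1 := mul_self_conj S.z_sq
  have hd2 : d' * d' = 1 := mul_self_conj (S.U_sq u hu)
  have hdx : d' * x = x * d' := by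
    calc d' * x = g * (u * z) * g⁻¹ := by rw [hd'def, hxdef]; group
      _ = g * (z * u) * g⁻¹ := by rw [S.z_center (S.U_le hu)]
      _ = x * d' := by rw [hd'def, hxdef]; group
  have d'J := noJ u hu hu1
  have ka := hCx hu hu1
  have cx : ∀ j ∈ S.J, x * j * x⁻¹ = j → d' * j * d'⁻¹ = j := by
    intro j hj hjx
    have hj' : g⁻¹ * j * g ∈ S.X := by
      rw [S.mem_X]
      calc g⁻¹ * j * g * z = g⁻¹ * (j * x) * g := by rw [hxdef]; group
        _ = g⁻¹ * (x * j) * g := by rw [← mul_inv_eq_iff_eq_mul.1 hjx]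
        _ = z * (g⁻¹ * j * g) := by rw [hxdef]; group
    by_contra hmov
    set v := g⁻¹ * j * g * u * (g⁻¹ * j * g)⁻¹ with hvdef
    have hvU : v ∈ S.U := S.conj_U hj' hu
    have e : g * (u * v) * g⁻¹ = d' * j * d'⁻¹ * j⁻¹ := by
      rw [inv_eq_of_mul_eq_one_left hd2, hvdef, hd'def]; group
    refine noJ (u * v) (mul_mem hu hvU) (fun h1 => hmov ?_) ?_
    · rw [h1] at e
      have e' : d' * j * d'⁻¹ * j⁻¹ = 1 := by rw [← e]; group
      exact mul_inv_eq_one.1 e'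
    · rw [e]; exact mul_mem (S.conj_J hd'X hj) (inv_mem hj)
  have ca : ∀ j ∈ S.J, a * j * a⁻¹ = j → x * j * x⁻¹ = j := fun j hj h => by
    rw [← ka j (mul_inv_eq_iff_eq_mul.1 h).symm]; group
  have cxa : ∀ j ∈ S.J, x * j * x⁻¹ = j → a * j * a⁻¹ = j := fun j hj h => by
    rw [had, show d' * x * j * (d' * x)⁻¹ = d' * (x * j * x⁻¹) * d'⁻¹ by group, h, cx j hj h]
  have cad : ∀ j ∈ S.J, a * j * a⁻¹ = j → d' * j * d'⁻¹ = j := fun j hj h => cx j hj (ca j hj h)
  have haJ : a ∉ S.J := fun h => by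
    have hxJ := S.mem_J_of_fixJ hx hx2 h ca
    refine d'J ?_
    show d' ∈ S.J
    rw [show d' = a * x⁻¹ by rw [had]; group]
    exact mul_mem h (inv_mem hxJ)
  have hxJ : x ∉ S.J := fun h => haJ (S.mem_J_of_fixJ haX ha2 h cxa)
  have hU : ∀ {s t : G}, s ∈ S.X → S.Inner t → t * t = 1 →
      (∀ j ∈ S.J, t * j * t⁻¹ = j → s * j * s⁻¹ = j) → S.Inner s := by
    intro s t hs ht ht2 hst
    by_contra hi
    obtain ⟨d, hd', hd1, hdf, honly⟩ := S.outer_fix hs hi
    have hm := S.conj_U S.c_mem hd'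
    have hfix := hst _ (S.U_le hm) (S.inner_fix_U ht (by rw [ht2]; exact one_mem _) hm)
    rcases honly _ hm hfix with e | e
    · exact hd1 (by simpa using e)
    · exact S.c_moves hd' hd1 e
  by_cases hia : S.Inner a
  · refine S.rank_core hia (hU hx hia ha2 ca) ha2 hx2 ?_ haJ hxJ (fun h => d'J ?_) ca cxa
      (fun h _ hc => ka h hc)
    · rw [had, mul_assoc, hx2, mul_one, ← mul_assoc, ← hdx, mul_assoc, hx2, mul_one]
    · rwa [had, hdx, ← mul_assoc, hx2, one_mul] at h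
  -- outer
  have hix : ¬ S.Inner x := fun h => hia (hU haX h hx2 cxa)
  have hid : S.Inner d' := by
    rw [show d' = a * x by rw [had, mul_assoc, hx2, mul_one]]
    exact S.outer_mul haX hia hx hix
  have hd2' : d' * d' ∈ S.J := by rw [hd2]; exact one_mem _
  have h32 : 32 ≤ Nat.card {w // S.act d' w = w} := by
    have h8 := S.outer_fixJ_card haX ha2 hia
    have hsub : ∀ w ∈ S.fixJ a, S.act d' w = w := fun w hw =>
      S.fixJ_sub hd'X (S.fixJ_mono cad hw)
    let f : S.fixJ a × S.fixJ a → {w // S.act d' w = w} := fun p =>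
      ⟨p.1.1 + S.act S.c p.2.1, by
        rw [map_add, hsub _ p.1.2, show S.act d' (S.act S.c p.2.1) = S.act S.c (S.act d' p.2.1) from
          (S.isom_act hid).1 _, hsub _ p.2.2]⟩
    have hinj : Function.Injective f := by
      rintro ⟨p, p'⟩ ⟨q, q'⟩ e
      have e' : p.1 + S.act S.c p'.1 = q.1 + S.act S.c q'.1 := congrArg Subtype.val e
      have hd0 : S.act S.c (p'.1 - q'.1) = q.1 - p.1 := by
        rw [map_sub, sub_eq_sub_iff_add_eq_add, add_comm, e', add_comm]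
      have hf1 : S.act a (p'.1 - q'.1) = p'.1 - q'.1 := by
        rw [map_sub, S.fixJ_sub haX p'.2, S.fixJ_sub haX q'.2]
      have h1 := S.outer_act haX hia (p'.1 - q'.1)
      rw [hf1, hd0, map_sub, S.fixJ_sub haX q.2, S.fixJ_sub haX p.2, ← hd0] at h1
      have h3 := S.act_c_fixed h1.symm
      have hb : p'.1 = q'.1 := sub_eq_zero.1 (by rw [← S.act_cube (p'.1 - q'.1), h3, map_zero, map_zero])
      rw [hb] at e'
      exact Prod.ext (Subtype.ext (add_right_cancel e')) (Subtype.ext hb)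
    have h := Nat.card_le_card_of_injective f hinj
    rw [Nat.card_prod] at h
    nlinarith
  have hbig := S.fixJ_big hid hd2' d'J h32
  obtain ⟨j, hj, k, hk, hjd, hkd, hjk⟩ := S.exists_comm (t := d') (by omega)
  have hjd' := (mul_inv_eq_iff_eq_mul.1 hjd).symm
  have hkd' := (mul_inv_eq_iff_eq_mul.1 hkd).symm
  have hcu : ∀ {h}, h * d' = d' * h → g⁻¹ * h * g * u * (g⁻¹ * h * g)⁻¹ = u := by
    intro h hh
    calc g⁻¹ * h * g * u * (g⁻¹ * h * g)⁻¹ = g⁻¹ * (h * d' * h⁻¹) * g := by rw [hd'def]; group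
      _ = g⁻¹ * d' * g := by rw [hh]; group
      _ = u := by rw [hd'def]; group
  have hWX : ∀ v ∈ S.U, g * v * g⁻¹ ∈ S.X := by
    intro v hv
    have h := S.comm_fix (hNW hu hu1 j hjd') (hNW hu hu1 k hkd') hu hu1 (hcu hjd') (hcu hkd') hv
    rw [show ⁅g⁻¹ * j * g, g⁻¹ * k * g⁆ = g⁻¹ * ⁅j, k⁆ * g by
      simp only [commutatorElement_def]; group, hjk] at h
    rw [S.mem_X]
    calc g * v * g⁻¹ * z = g * (g⁻¹ * z * g * v * (g⁻¹ * z * g)⁻¹) * g⁻¹ * z := by rw [h]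
      _ = z * (g * v * g⁻¹) := by group
  obtain ⟨v, hv, hv1, hvu⟩ : ∃ v ∈ S.U, v ≠ 1 ∧ v ≠ u :=
    ⟨_, S.conj_U S.c_mem hu, fun e => hu1 (by simpa using e), S.c_moves hu hu1⟩
  set s := g * v * g⁻¹ with hsdef
  have hsX : s ∈ S.X := hWX v hv
  have hs2 : s * s = 1 := mul_self_conj (S.U_sq v hv)
  have hs2' : s * s ∈ S.J := by rw [hs2]; exact one_mem _
  have hsJ : s ∉ S.J := noJ v hv hv1
  -- `C_J(d')` centralises `s`
  have hcs : ∀ i ∈ S.J, d' * i * d'⁻¹ = i → s * i * s⁻¹ = i := by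
    intro i hi hid'
    have hid2 := (mul_inv_eq_iff_eq_mul.1 hid').symm
    have hmem := hNW hu hu1 i hid2 v hv
    set w := g⁻¹ * i * g * v * (g⁻¹ * i * g)⁻¹ with hwdef
    by_contra hmov
    refine noJ (v * w) (mul_mem hv hmem) (fun h1 => hmov ?_) ?_
    · have hwv : w = v := by
        rw [← S.U_inv hv]; exact eq_inv_of_mul_eq_one_right h1
      have e : i * s * i⁻¹ = s := by
        calc i * s * i⁻¹ = g * w * g⁻¹ := by rw [hwdef, hsdef]; group
          _ = s := by rw [hwv]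
      rw [← mul_inv_eq_iff_eq_mul.1 e]; group
    · have : g * (v * w) * g⁻¹ = s * i * s⁻¹ * i⁻¹ := by
        rw [inv_eq_of_mul_eq_one_left hs2, hwdef, hsdef]; group
      rw [this]; exact mul_mem (S.conj_J hsX hi) (inv_mem hi)
  have hsfix : 32 ≤ Nat.card (S.fixJ s) :=
    hbig.trans (Nat.card_mono (Set.toFinite _) (S.fixJ_mono hcs))
  have hsi : S.Inner s := by
    by_contra hi
    have := (hsfix.trans (S.fixJ_card_le hsX)).trans (S.outer_fix_card hsX hi)
    omega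
  have heq := HForm.eq_of_fix (S.isInv_act hsi hs2') (S.isInv_act hid hd2')
    (S.act_ne_id hsX hsJ) (S.act_ne_id hd'X d'J)
    (hbig.trans (Nat.card_le_card_of_injective
      (fun w => ⟨w.1, S.fixJ_sub hsX (S.fixJ_mono hcs w.2), S.fixJ_sub hd'X w.2⟩)
      fun p q e => Subtype.ext (congrArg Subtype.val e :)))
  have hmem := (S.act_eq_iff hsX hd'X).1 heq
  rw [inv_eq_of_mul_eq_one_left hs2, show s * d' = g * (v * u) * g⁻¹ by rw [hsdef, hd'def]; group]
    at hmem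
  exact noJ (v * u) (mul_mem hv hu) (fun e => hvu (by
    rw [← S.U_inv hu]; exact eq_inv_of_mul_eq_one_left e)) hmem

end Cfsg.Agent.Lib.Fi23Local27.Setting
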