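import Mathlib

/-!
The four-dimensional hermitian space over four elements as an eight-dimensional space over two
elements with a symplectic form `f` and an isometry `c` with `c² + c + 1 = 0`.

* `n v = f v (c v)` is a quadratic form with polar form `f`;
* `Frame`: orthonormal bases, giving coordinates;
* at most `77760` isometries (`card_isom_le`);
* normal forms of involutions, a fixed point free commutator commuting with each of them.

Owner: helper27 (S3233).
-/

set_option autoImplicit false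

namespace Cfsg.Agent.Lib.Fi23Local27

/-- coordinates -/
abbrev Co : Type := Fin 4 → ZMod 2 × ZMod 2

/-- the scalar generator on one coordinate -/
def cc (p : ZMod 2 × ZMod 2) : ZMod 2 × ZMod 2 := (p.2, p.1 + p.2)

/-- the product of two scalars -/
def sm (p b : ZMod 2 × ZMod 2) : ZMod 2 × ZMod 2 := p.1 • b + p.2 • cc b

/-- the norm of one coordinate -/
def nc (p : ZMod 2 × ZMod 2) : ZMod 2 := p.1 + p.2 + p.1 * p.2

/-- A hermitian space of dimension four over four elements, by its symplectic form and its scalar. -/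
structure HForm (W : Type*) [AddCommGroup W] [Module (ZMod 2) W] where
  c : W →ₗ[ZMod 2] W
  f : W →ₗ[ZMod 2] W →ₗ[ZMod 2] ZMod 2
  alt : ∀ v, f v v = 0
  nondeg : ∀ v, (∀ w, f v w = 0) → v = 0
  c_rel : ∀ v, c (c v) + c v + v = 0
  f_c : ∀ v w, f (c v) (c w) = f v w
  card : Nat.card W = 256

namespace HForm

variable {W : Type*} [AddCommGroup W] [Module (ZMod 2) W] (H : HForm W)

theorem two (v : W) : v + v = 0 := by
  rw [← one_smul (ZMod 2) v, ← add_smul, show (1 : ZMod 2) + 1 = 0 from rfl, zero_smul]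

include H in
theorem finite : Finite W := Nat.finite_of_card_ne_zero (by rw [H.card]; norm_num)

theorem symm (v w : W) : H.f v w = H.f w v := by
  have h := H.alt (v + w)
  simp only [map_add, LinearMap.add_apply, H.alt, add_zero, zero_add] at h
  exact (add_eq_zero_iff_eq_neg.1 h).trans (ZMod.neg_eq_self_mod_two _) |>.symm

theorem cc_eq (v : W) : H.c (H.c v) = H.c v + v := by
  have h := H.c_rel v
  rw [add_assoc] at h
  rw [add_eq_zero_iff_eq_neg.1 h, neg_eq_iff_add_eq_zero, two]

theorem c_three (v : W) : H.c (H.c (H.c v)) = v := by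
  rw [H.cc_eq, H.cc_eq, add_comm (H.c v) v, add_assoc, two, add_zero]

theorem c_inj {v w : W} (h : H.c v = H.c w) : v = w := by rw [← H.c_three v, h, H.c_three]

theorem f_c_left (v w : W) : H.f (H.c v) w = H.f v (H.c w) + H.f v w := by
  conv_lhs => rw [← H.c_three w, H.f_c, H.cc_eq, map_add]

/-- the norm -/
def n (v : W) : ZMod 2 := H.f v (H.c v)

theorem n_c (v : W) : H.n (H.c v) = H.n v := H.f_c _ _

theorem n_add (v w : W) : H.n (v + w) = H.n v + H.n w + H.f v w := by
  simp only [n, map_add, LinearMap.add_apply]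
  rw [H.symm w (H.c v), H.f_c_left v w]
  have : ∀ a b d e : ZMod 2, a + (d + e) + (d + b) = a + b + e := by decide
  exact this _ _ _ _

/-- orthogonality for the hermitian form -/
def Orth (v w : W) : Prop := H.f v w = 0 ∧ H.f v (H.c w) = 0

theorem Orth.symm {v w : W} (h : H.Orth v w) : H.Orth w v :=
  ⟨H.symm w v ▸ h.1, by rw [H.symm, H.f_c_left, h.1, h.2, add_zero]⟩

theorem Orth.c_right {v w : W} (h : H.Orth v w) : H.Orth v (H.c w) :=
  ⟨h.2, by rw [H.cc_eq, map_add, h.1, h.2, add_zero]⟩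

theorem Orth.c_left {v w : W} (h : H.Orth v w) : H.Orth (H.c v) w :=
  Orth.symm H (Orth.c_right H (Orth.symm H h))

/-- an isometry commuting with the scalars -/
def IsIsom (φ : W →ₗ[ZMod 2] W) : Prop :=
  (∀ v, φ (H.c v) = H.c (φ v)) ∧ ∀ v w, H.f (φ v) (φ w) = H.f v w

theorem IsIsom.n {φ : W →ₗ[ZMod 2] W} (h : H.IsIsom φ) (v : W) : H.n (φ v) = H.n v := by
  rw [HForm.n, ← h.1, h.2, HForm.n]

theorem IsIsom.orth {φ : W →ₗ[ZMod 2] W} (h : H.IsIsom φ) {v w : W} (hvw : H.Orth v w) :
    H.Orth (φ v) (φ w) := ⟨by rw [h.2]; exact hvw.1, by rw [← h.1, h.2]; exact hvw.2⟩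

theorem IsIsom.inj {φ : W →ₗ[ZMod 2] W} (h : H.IsIsom φ) : Function.Injective φ := by
  intro v w e
  rw [← sub_eq_zero]
  refine H.nondeg _ fun u => ?_
  rw [← h.2, map_sub, e, sub_self, map_zero, LinearMap.zero_apply]

/-! ### Extending orthonormal lists -/

/-- the projection on the span of a list -/
def proj {k : ℕ} (e : Fin k → W) (w : W) : W :=
  ∑ i, (H.f w (H.c (e i)) • e i + H.f (e i) w • H.c (e i))

/-- the norm and orthogonality conditions on a list -/
def ON {k : ℕ} (e : Fin k → W) : Prop := (∀ i, H.n (e i) = 1) ∧ ∀ i j, i ≠ j → H.Orth (e i) (e j)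

theorem ON.f_e {k : ℕ} {e : Fin k → W} (he : H.ON e) (i j : Fin k) : H.f (e i) (e j) = 0 := by
  by_cases h : i = j
  · rw [h, H.alt]
  · exact (he.2 i j h).1

theorem ON.f_ec {k : ℕ} {e : Fin k → W} (he : H.ON e) (i j : Fin k) :
    H.f (e i) (H.c (e j)) = if i = j then 1 else 0 := by
  by_cases h : i = j
  · rw [if_pos h, h]; exact he.1 j
  · rw [if_neg h]; exact (he.2 i j h).2

theorem ON.f_ce {k : ℕ} {e : Fin k → W} (he : H.ON e) (i j : Fin k) :
    H.f (H.c (e i)) (e j) = if i = j then 1 else 0 := by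
  rw [H.symm, he.f_ec]; simp [eq_comm]

theorem ON.orth_sub_proj {k : ℕ} {e : Fin k → W} (he : H.ON e) (w : W) (i : Fin k) :
    H.Orth (e i) (w + H.proj e w) := by
  refine ⟨?_, ?_⟩
  · simp only [proj, map_add, map_sum, map_smul, he.f_e H, he.f_ec H, smul_eq_mul, mul_zero, zero_add, mul_ite, mul_one,
      Finset.sum_ite_eq, Finset.mem_univ, if_true]
    have : ∀ a : ZMod 2, a + a = 0 := by decide
    exact this _
  · rw [← H.c_three (e i), H.f_c, H.cc_eq (e i)]
    simp only [proj, map_add, LinearMap.add_apply, map_sum, map_smul, LinearMap.smul_apply,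
      he.f_e H, he.f_ec H, he.f_ce H, H.f_c, smul_eq_mul, mul_zero, zero_add, add_zero, mul_ite,
      mul_one, Finset.sum_ite_eq, Finset.mem_univ, if_true, Finset.sum_add_distrib]
    rw [H.symm (H.c (e i)) w]
    have : ∀ a : ZMod 2, a + a = 0 := by decide
    exact this _

theorem f_proj_eq_zero {k : ℕ} (e : Fin k → W) {v : W} (hv : ∀ i, H.Orth (e i) v) (w : W) :
    H.f v (H.proj e w) = 0 := by
  simp only [proj, map_sum, map_add, map_smul, smul_eq_mul]
  refine Finset.sum_eq_zero fun i _ => ?_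
  rw [(Orth.symm H (hv i)).1, (Orth.symm H (hv i)).2, mul_zero, mul_zero, add_zero]

/-- what is orthogonal to a list and to everything orthogonal to the list is zero -/
theorem ON.eq_zero {k : ℕ} {e : Fin k → W} (he : H.ON e) {v : W} (hv : ∀ i, H.Orth (e i) v)
    (h : ∀ w, (∀ i, H.Orth (e i) w) → H.f v w = 0) : v = 0 := by
  refine H.nondeg v fun w => ?_
  have h1 := h _ (he.orth_sub_proj H w)
  rwa [map_add, H.f_proj_eq_zero e hv, add_zero] at h1

theorem ON.exists_next {k : ℕ} {e : Fin k → W} (he : H.ON e) (hk : k < 4) :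
    ∃ v, H.n v = 1 ∧ ∀ i, H.Orth (e i) v := by
  by_contra hcon
  push Not at hcon
  have h0 : ∀ v, (∀ i, H.Orth (e i) v) → H.n v = 0 := by
    intro v hv
    by_contra h
    obtain ⟨i, hi⟩ := hcon v (Fin.eq_one_of_ne_zero _ h)
    exact hi (hv i)
  have hz : ∀ v, (∀ i, H.Orth (e i) v) → v = 0 := fun v hv => he.eq_zero H hv fun w hw => by
    have hvw : ∀ i, H.Orth (e i) (v + w) := fun i =>
      ⟨by rw [map_add, (hv i).1, (hw i).1, add_zero],
        by rw [map_add, map_add, (hv i).2, (hw i).2, add_zero]⟩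
    have := H.n_add v w
    rw [h0 v hv, h0 w hw, h0 _ hvw, zero_add, zero_add] at this
    exact this.symm
  have hs : Function.Surjective (fun a : Fin k → ZMod 2 × ZMod 2 =>
      ∑ i, ((a i).1 • e i + (a i).2 • H.c (e i))) := fun w => by
    refine ⟨fun i => (H.f w (H.c (e i)), H.f (e i) w), ?_⟩
    show H.proj e w = w
    have := hz _ (he.orth_sub_proj H w)
    rw [add_comm] at this
    rw [add_eq_zero_iff_eq_neg.1 this, neg_eq_iff_add_eq_zero, two]
  have := Nat.card_le_card_of_surjective _ hs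
  rw [H.card, Nat.card_eq_fintype_card, Fintype.card_fun, Fintype.card_prod, ZMod.card,
    Fintype.card_fin] at this
  have h4 : (2 * 2) ^ k ≤ (2 * 2) ^ 3 := Nat.pow_le_pow_right (by norm_num) (by omega)
  omega

theorem ON.snoc {k : ℕ} {e : Fin k → W} (he : H.ON e) {v : W} (hn : H.n v = 1)
    (ho : ∀ i, H.Orth (e i) v) : H.ON (Fin.snoc e v : Fin (k + 1) → W) := by
  refine ⟨fun i => ?_, fun i j hij => ?_⟩
  · refine Fin.lastCases ?_ (fun l => ?_) i
    · rw [Fin.snoc_last]; exact hn
    · rw [Fin.snoc_castSucc]; exact he.1 l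
  · revert hij
    refine Fin.lastCases ?_ (fun l => ?_) i <;> refine Fin.lastCases ?_ (fun m => ?_) j <;>
      intro hij <;> simp only [Fin.snoc_last, Fin.snoc_castSucc]
    · exact absurd rfl hij
    · exact Orth.symm H (ho m)
    · exact ho l
    · exact he.2 l m fun h => hij (by rw [h])

/-- an orthonormal basis -/
structure Frame where
  e : Fin 4 → W
  on : H.ON e

theorem exists_frame_succ : ∀ (m k : ℕ) (e : Fin k → W), H.ON e → k + m = 4 →
    ∃ F : H.Frame, ∀ i : Fin 4, ∀ h : i.1 < k, F.e i = e ⟨i.1, h⟩ := by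
  intro m
  induction m with
  | zero =>
    intro k e he hk
    obtain rfl : k = 4 := by omega
    exact ⟨⟨e, he⟩, fun i h => rfl⟩
  | succ m ih =>
    intro k e he hk
    obtain ⟨v, hn, ho⟩ := he.exists_next H (by omega)
    obtain ⟨F, hF⟩ := ih (k + 1) _ (he.snoc H hn ho) (by omega)
    refine ⟨F, fun i h => ?_⟩
    rw [hF i (by omega), show (⟨i.1, by omega⟩ : Fin (k + 1)) = Fin.castSucc ⟨i.1, h⟩ from rfl,
      Fin.snoc_castSucc]

theorem exists_frame {k : ℕ} (e : Fin k → W) (he : H.ON e) (hk : k ≤ 4) :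
    ∃ F : H.Frame, ∀ i : Fin 4, ∀ h : i.1 < k, F.e i = e ⟨i.1, h⟩ :=
  H.exists_frame_succ (4 - k) k e he (by omega)

end HForm

namespace HForm

variable {W : Type*} [AddCommGroup W] [Module (ZMod 2) W] {H : HForm W}

namespace Frame

variable (F : H.Frame)

/-- the vector with given coordinates -/
def ψ : Co →ₗ[ZMod 2] W where
  toFun a := ∑ i, ((a i).1 • F.e i + (a i).2 • H.c (F.e i))
  map_add' a b := by
    simp only [Pi.add_apply, Prod.fst_add, Prod.snd_add, add_smul, ← Finset.sum_add_distrib]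
    exact Finset.sum_congr rfl fun i _ => by abel
  map_smul' r a := by
    simp only [Pi.smul_apply, Prod.smul_fst, Prod.smul_snd, smul_eq_mul, mul_smul, Finset.smul_sum,
      smul_add, RingHom.id_apply]

theorem ψ_apply (a : Co) : F.ψ a = ∑ i, ((a i).1 • F.e i + (a i).2 • H.c (F.e i)) := rfl

theorem f_ψ_ce (a : Co) (j : Fin 4) : H.f (F.ψ a) (H.c (F.e j)) = (a j).1 := by
  simp [ψ_apply, F.on.f_ec H, H.f_c, F.on.f_e H]

theorem f_e_ψ (a : Co) (j : Fin 4) : H.f (F.e j) (F.ψ a) = (a j).2 := by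
  simp [ψ_apply, F.on.f_ec H, F.on.f_e H]

theorem f_ψ (a b : Co) :
    H.f (F.ψ a) (F.ψ b) = ∑ i, ((b i).1 * (a i).2 + (b i).2 * (a i).1) := by
  conv_lhs => rw [ψ_apply F b]
  simp only [map_sum, map_add, map_smul, smul_eq_mul]
  refine Finset.sum_congr rfl fun i _ => ?_
  rw [F.f_ψ_ce, H.symm, F.f_e_ψ]

theorem ψ_bij [Finite W] : Function.Bijective F.ψ := by
  refine Function.Injective.bijective_of_nat_card_le (fun a b h => ?_) ?_
  · funext i
    exact Prod.ext (by rw [← F.f_ψ_ce a i, h, F.f_ψ_ce]) (by rw [← F.f_e_ψ a i, h, F.f_e_ψ])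
  · rw [H.card, Nat.card_eq_fintype_card, Fintype.card_fun, Fintype.card_prod, ZMod.card,
      Fintype.card_fin]
    norm_num

theorem ψ_surj (v : W) : ∃ a, F.ψ a = v := by
  have := H.finite
  exact F.ψ_bij.2 v

theorem ψ_inj {a b : Co} (h : F.ψ a = F.ψ b) : a = b := by
  have := H.finite
  exact F.ψ_bij.1 h

theorem c_ψ (a : Co) : H.c (F.ψ a) = F.ψ fun i => cc (a i) := by
  simp only [ψ_apply, map_sum, map_add, map_smul]
  refine Finset.sum_congr rfl fun i _ => ?_
  rw [H.cc_eq, cc]
  simp only [smul_add, add_smul]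
  abel

theorem n_ψ (a : Co) : H.n (F.ψ a) = ∑ i, nc (a i) := by
  rw [HForm.n, F.c_ψ, F.f_ψ]
  refine Finset.sum_congr rfl fun i _ => ?_
  generalize a i = p
  revert p; decide

theorem ψ_single (i : Fin 4) : F.ψ (Pi.single i (1, 0)) = F.e i := by
  rw [ψ_apply, Finset.sum_eq_single i]
  · simp
  · intro b _ hb; simp [Pi.single_eq_of_ne hb]
  · simp

/-- the coordinates -/
noncomputable def coord : W →ₗ[ZMod 2] Co :=
  have := H.finite
  (LinearEquiv.ofBijective F.ψ F.ψ_bij).symm.toLinearMap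

theorem ψ_coord (v : W) : F.ψ (F.coord v) = v := by
  have := H.finite
  exact (LinearEquiv.ofBijective F.ψ F.ψ_bij).apply_symm_apply v

theorem coord_ψ (a : Co) : F.coord (F.ψ a) = a := F.ψ_inj (F.ψ_coord _)

/-- the isometry between two frames -/
noncomputable def map (F' : H.Frame) : W →ₗ[ZMod 2] W := F'.ψ ∘ₗ F.coord

theorem map_ψ (F' : H.Frame) (a : Co) : F.map F' (F.ψ a) = F'.ψ a := by
  rw [map, LinearMap.comp_apply, F.coord_ψ]

theorem map_e (F' : H.Frame) (i : Fin 4) : F.map F' (F.e i) = F'.e i := by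
  rw [← F.ψ_single, F.map_ψ, F'.ψ_single]

theorem isom_map (F' : H.Frame) : H.IsIsom (F.map F') := by
  refine ⟨fun v => ?_, fun v w => ?_⟩
  · obtain ⟨a, rfl⟩ := F.ψ_surj v
    rw [F.c_ψ, F.map_ψ, F.map_ψ, F'.c_ψ]
  · obtain ⟨a, rfl⟩ := F.ψ_surj v
    obtain ⟨b, rfl⟩ := F.ψ_surj w
    rw [F.map_ψ, F.map_ψ, F.f_ψ, F'.f_ψ]

/-- an additive map commuting with the scalars on coordinates -/
theorem apply_ψ {φ : W →ₗ[ZMod 2] W} (hc : ∀ v, φ (H.c v) = H.c (φ v)) (a : Co) :
    φ (F.ψ a) = ∑ i, ((a i).1 • φ (F.e i) + (a i).2 • H.c (φ (F.e i))) := by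
  simp only [ψ_apply, map_sum, map_add, map_smul, hc]

theorem ext {φ φ' : W →ₗ[ZMod 2] W} (hc : ∀ v, φ (H.c v) = H.c (φ v))
    (hc' : ∀ v, φ' (H.c v) = H.c (φ' v)) (h : ∀ i, φ (F.e i) = φ' (F.e i)) : φ = φ' := by
  refine LinearMap.ext fun v => ?_
  obtain ⟨a, rfl⟩ := F.ψ_surj v
  simp only [F.apply_ψ hc, F.apply_ψ hc', h]

/-- a frame permuted and multiplied by scalars -/
def twist (σ : Equiv.Perm (Fin 4)) (k : Fin 4 → Bool × Bool) : H.Frame where
  e i := if (k i).1 then (if (k i).2 then H.c (H.c (F.e (σ i))) else H.c (F.e (σ i))) else F.e (σ i)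
  on := by
    refine ⟨fun i => ?_, fun i j hij => ?_⟩
    · dsimp only
      split_ifs <;> simp [H.n_c, F.on.1]
    · have h := F.on.2 (σ i) (σ j) (σ.injective.ne hij)
      dsimp only
      split_ifs <;> first
        | exact h
        | exact h.c_left H | exact (h.c_left H).c_left H
        | exact h.c_right H | exact (h.c_right H).c_right H
        | exact (h.c_left H).c_right H | exact ((h.c_left H).c_left H).c_right H
        | exact ((h.c_right H).c_right H).c_left H
        | exact (((h.c_right H).c_right H).c_left H).c_left H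

end Frame

/-! ### Counting isometries -/

variable (H) in
theorem count_next {k : ℕ} (e : Fin k → W) (he : H.ON e) (hk : k < 4) (N : ℕ)
    (hN : (Finset.univ.filter fun a : Co =>
      (∑ i, nc (a i)) = 1 ∧ ∀ i : Fin 4, i.1 < k → a i = 0).card ≤ N) :
    Nat.card {v : W // H.n v = 1 ∧ ∀ i, H.Orth (e i) v} ≤ N := by
  have := H.finite
  obtain ⟨F, hF⟩ := H.exists_frame e he hk.le
  refine le_trans ?_ hN
  rw [← Nat.card_eq_finsetCard]
  refine Nat.card_le_card_of_injective
    (fun v => ⟨F.coord v.1, Finset.mem_filter.2 ⟨Finset.mem_univ _, ?_, fun i hi => ?_⟩⟩) ?_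
  · rw [← F.n_ψ, F.ψ_coord]; exact v.2.1
  · have h := v.2.2 ⟨i.1, hi⟩
    rw [← hF i hi] at h
    have h1 := F.f_ψ_ce (F.coord v.1) i
    have h2 := F.f_e_ψ (F.coord v.1) i
    rw [F.ψ_coord] at h1 h2
    exact Prod.ext (by rw [← h1]; exact (Orth.symm H h).2) (by rw [← h2]; exact h.1)
  · intro v w h
    have h' := congrArg Subtype.val h
    refine Subtype.ext ?_
    rw [← F.ψ_coord v.1, ← F.ψ_coord w.1]
    exact congrArg F.ψ h'

variable (H) in
theorem card_isom_le : Nat.card {φ : W →ₗ[ZMod 2] W // H.IsIsom φ} ≤ 77760 := by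
  have := H.finite
  classical
  have := Fintype.ofFinite W
  obtain ⟨F, -⟩ := H.exists_frame (k := 0) Fin.elim0 ⟨fun i => i.elim0, fun i => i.elim0⟩ (by norm_num)
  let P0 := fun v : W => H.n v = 1
  let P1 := fun a v : W => H.n v = 1 ∧ H.Orth a v
  let P2 := fun a b v : W => H.n v = 1 ∧ H.Orth a v ∧ H.Orth b v
  let P3 := fun a b d v : W => H.n v = 1 ∧ H.Orth a v ∧ H.Orth b v ∧ H.Orth d v
  let S := (Finset.univ.filter P0).sigma fun a => (Finset.univ.filter (P1 a)).sigma fun b =>
    (Finset.univ.filter (P2 a b)).sigma fun d => Finset.univ.filter (P3 a b d)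
  have hS : S.card ≤ 77760 := by
    have hc : ∀ (P : W → Prop) [DecidablePred P], (Finset.univ.filter P).card = Nat.card {v // P v} := fun P _ => by
      rw [Nat.card_eq_fintype_card, Fintype.card_subtype]
    have c0 : (Finset.univ.filter P0).card ≤ 120 := by
      rw [hc]
      refine le_of_eq_of_le (Nat.card_congr (Equiv.subtypeEquivRight fun v => ?_))
        (H.count_next (k := 0) Fin.elim0 ⟨fun i => i.elim0, fun i => i.elim0⟩ (by norm_num) 120
          (by decide +kernel))
      exact ⟨fun h => ⟨h, fun i => i.elim0⟩, fun h => h.1⟩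
    rw [Finset.card_sigma]
    refine (Finset.sum_le_card_nsmul _ _ (36 * (6 * 3)) fun a ha => ?_).trans
      (by rw [smul_eq_mul]; exact le_trans (Nat.mul_le_mul_right _ c0) (by norm_num))
    have ha' : H.n a = 1 := (Finset.mem_filter.1 ha).2
    have hon1 : H.ON ![a] := ⟨fun i => by fin_cases i; exact ha',
      fun i j h => absurd (Subsingleton.elim i j) h⟩
    have c1 : (Finset.univ.filter (P1 a)).card ≤ 36 := by
      rw [hc]
      refine le_of_eq_of_le (Nat.card_congr (Equiv.subtypeEquivRight fun v => ?_))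
        (H.count_next _ hon1 (by norm_num) 36 (by decide +kernel))
      simp [P1, Fin.forall_fin_one]
    rw [Finset.card_sigma]
    refine (Finset.sum_le_card_nsmul _ _ (6 * 3) fun b hb => ?_).trans
      (by rw [smul_eq_mul]; exact Nat.mul_le_mul_right _ c1)
    obtain ⟨hb', hab⟩ := (Finset.mem_filter.1 hb).2
    have hon2 : H.ON ![a, b] := ⟨fun i => by fin_cases i <;> assumption,
      fun i j h => by
        fin_cases i <;> fin_cases j <;> simp_all
        exact Orth.symm H hab⟩
    have c2 : (Finset.univ.filter (P2 a b)).card ≤ 6 := by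
      rw [hc]
      refine le_of_eq_of_le (Nat.card_congr (Equiv.subtypeEquivRight fun v => ?_))
        (H.count_next _ hon2 (by norm_num) 6 (by decide +kernel))
      simp [P2, Fin.forall_fin_two]
    rw [Finset.card_sigma]
    refine (Finset.sum_le_card_nsmul _ _ 3 fun d hd => ?_).trans
      (by rw [smul_eq_mul]; exact Nat.mul_le_mul_right _ c2)
    obtain ⟨hd', had, hbd⟩ := (Finset.mem_filter.1 hd).2
    have hon3 : H.ON ![a, b, d] := ⟨fun i => by fin_cases i <;> assumption,
      fun i j h => by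
        fin_cases i <;> fin_cases j <;> simp_all
        all_goals first | exact Orth.symm H hab | exact Orth.symm H had | exact Orth.symm H hbd⟩
    rw [hc]
    refine le_of_eq_of_le (Nat.card_congr (Equiv.subtypeEquivRight fun v => ?_))
      (H.count_next _ hon3 (by norm_num) 3 (by decide +kernel))
    simp [P3, Fin.forall_fin_succ]
  refine le_trans ?_ hS
  rw [← Nat.card_eq_finsetCard]
  refine Nat.card_le_card_of_injective
    (fun φ => ⟨⟨φ.1 (F.e 0), φ.1 (F.e 1), φ.1 (F.e 2), φ.1 (F.e 3)⟩, ?_⟩) ?_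
  · simp only [S, Finset.mem_sigma, Finset.mem_filter, Finset.mem_univ, true_and, P0, P1, P2, P3,
      φ.2.n H, F.on.1]
    exact ⟨φ.2.orth H (F.on.2 0 1 (by decide)),
      ⟨φ.2.orth H (F.on.2 0 2 (by decide)), φ.2.orth H (F.on.2 1 2 (by decide))⟩,
      φ.2.orth H (F.on.2 0 3 (by decide)), φ.2.orth H (F.on.2 1 3 (by decide)),
      φ.2.orth H (F.on.2 2 3 (by decide))⟩
  · intro φ φ' h
    have h' := congrArg Subtype.val h
    simp only [Sigma.mk.injEq, heq_eq_eq] at h'
    refine Subtype.ext (F.ext φ.2.1 φ'.2.1 fun i => ?_)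
    fin_cases i
    · exact h'.1
    · exact h'.2.1
    · exact h'.2.2.1
    · exact h'.2.2.2

end HForm

end Cfsg.Agent.Lib.Fi23Local27
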