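import Cfsg.Agent.Lib.Fi23Local27.Herm

/-!
Involutions of the four-dimensional unitary group over four elements: two involutions with a common
fixed hyperplane are equal, and each involution commutes with a fixed point free commutator of order
three, which in the rank two case confines the commuting involutions.

Owner: helper27 (S3233).
-/

set_option autoImplicit false

namespace Cfsg.Agent.Lib.Fi23Local27.HForm

variable {W : Type*} [AddCommGroup W] [Module (ZMod 2) W] {H : HForm W}

/-- an isometry squaring to one -/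
def IsInv (H : HForm W) (t : W →ₗ[ZMod 2] W) : Prop := H.IsIsom t ∧ ∀ v, t (t v) = v

theorem IsInv.adj {t : W →ₗ[ZMod 2] W} (h : H.IsInv t) (v w : W) : H.f (t v) w = H.f v (t w) := by
  rw [← h.2 w, h.1.2, h.2]

theorem exists_pair {k : ℕ} {e : Fin k → W} (he : H.ON e) {t : W →ₗ[ZMod 2] W} (ht : H.IsInv t)
    (hinv : ∀ v, (∀ i, H.Orth (e i) v) → ∀ i, H.Orth (e i) (t v))
    {v₀ : W} (hv₀ : ∀ i, H.Orth (e i) v₀) (hne : t v₀ ≠ v₀) :
    ∃ v, (∀ i, H.Orth (e i) v) ∧ H.n v = 1 ∧ H.Orth v (t v) := by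
  set D : W → W := fun v => v + t v with hD
  have hDc : ∀ v, D (H.c v) = H.c (D v) := fun v => by simp [hD, ht.1.1]
  have hDD : ∀ v, D (D v) = 0 := fun v => by
    simp only [hD, map_add, ht.2]
    rw [add_comm (t v) v, HForm.two]
  have hadj : ∀ v w, H.f (D v) w = H.f v (D w) := fun v w => by
    simp only [hD, map_add, LinearMap.add_apply, ht.adj]
  have hperp : ∀ v, (∀ i, H.Orth (e i) v) → ∀ i, H.Orth (e i) (D v) := fun v hv i =>
    ⟨by simp only [hD, map_add, (hv i).1, (hinv v hv i).1, add_zero],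
      by simp only [hD, map_add, (hv i).2, (hinv v hv i).2, add_zero]⟩
  obtain ⟨v, hv, hQ⟩ : ∃ v, (∀ i, H.Orth (e i) v) ∧ H.f v (H.c (D v)) = 1 := by
    by_contra hcon
    push Not at hcon
    have h0 : ∀ v, (∀ i, H.Orth (e i) v) → H.f v (H.c (D v)) = 0 := fun v hv => by
      by_contra h; exact hcon v hv (Fin.eq_one_of_ne_zero _ h)
    apply hne
    have hz : D v₀ = 0 := he.eq_zero H (hperp v₀ hv₀) fun w hw => by
      have hsum : ∀ i, H.Orth (e i) (v₀ + w) := fun i =>
        ⟨by rw [map_add, (hv₀ i).1, (hw i).1, add_zero],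
          by rw [map_add, map_add, (hv₀ i).2, (hw i).2, add_zero]⟩
      have h1 := h0 _ hsum
      have hadd : D (v₀ + w) = D v₀ + D w := by simp only [hD, map_add]; abel
      rw [hadd] at h1
      simp only [map_add, LinearMap.add_apply, h0 v₀ hv₀, h0 w hw, zero_add, add_zero] at h1
      rw [H.symm w (H.c (D v₀)), H.f_c_left, hadj, hadj, hDc] at h1
      rw [hadj]
      revert h1
      generalize H.f v₀ (H.c (D w)) = a, H.f v₀ (D w) = b
      revert a b; decide
    simp only [hD] at hz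
    have h2 := congrArg (v₀ + ·) hz
    simp only [add_zero] at h2
    rwa [← add_assoc, HForm.two, zero_add] at h2
  have hnD : H.n (D v) = 0 := by rw [HForm.n, hadj, hDc, hDD, map_zero, map_zero]
  have key : ∀ v, (∀ i, H.Orth (e i) v) → H.n v = 1 → H.f v (H.c (D v)) = 1 → H.n (D v) = 0 →
      ∃ v, (∀ i, H.Orth (e i) v) ∧ H.n v = 1 ∧ H.Orth v (t v) := by
    intro v hv hn hQ hnD
    refine ⟨v, hv, hn, ?_, ?_⟩
    · have h := ht.1.n H v
      have htv : t v = v + D v := by simp only [hD]; rw [← add_assoc, HForm.two, zero_add]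
      rw [htv, H.n_add, hn, hnD] at h
      rw [htv, map_add, H.alt, zero_add]
      revert h; generalize H.f v (D v) = a; revert a; decide
    · simp only [hD, map_add] at hQ
      rw [show H.f v (H.c v) = 1 from hn] at hQ
      revert hQ; generalize H.f v (H.c (t v)) = a; revert a; decide
  by_cases hn : H.n v = 1
  · exact key v hv hn hQ hnD
  · have hD' : D (v + H.c (D v)) = D v := by
      have hadd : D (v + H.c (D v)) = D v + D (H.c (D v)) := by simp only [hD, map_add]; abel
      rw [hadd, hDc, hDD, map_zero, add_zero]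
    have hn0 : H.n v = 0 := by revert hn; generalize H.n v = a; revert a; decide
    refine key (v + H.c (D v)) (fun i => ?_) ?_ ?_ (by rw [hD']; exact hnD)
    · exact ⟨by rw [map_add, (hv i).1, (hperp v hv i).2, add_zero],
        by rw [map_add, map_add, (hv i).2, ((hperp v hv i).c_right H).2, add_zero]⟩
    · rw [H.n_add, hn0, H.n_c, hnD, hQ, zero_add, zero_add]
    · rw [hD', map_add, LinearMap.add_apply, hQ, H.alt, add_zero]

namespace Frame

variable (F : H.Frame)

theorem apply_perm {φ : W →ₗ[ZMod 2] W} (hc : ∀ v, φ (H.c v) = H.c (φ v))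
    (σ : Equiv.Perm (Fin 4)) (h : ∀ i, φ (F.e i) = F.e (σ i)) (a : Co) :
    φ (F.ψ a) = F.ψ (a ∘ σ.symm) := by
  rw [F.apply_ψ hc, F.ψ_apply]
  simp only [h]
  exact Fintype.sum_equiv σ _ _ fun i => by simp

theorem fix_ψ {φ : W →ₗ[ZMod 2] W} (hc : ∀ v, φ (H.c v) = H.c (φ v))
    (σ : Equiv.Perm (Fin 4)) (h : ∀ i, φ (F.e i) = F.e (σ i)) :
    Nat.card {v // φ v = v} = Nat.card {a : Co // a ∘ σ.symm = a} := by
  have := H.finite
  refine (Nat.card_congr ((LinearEquiv.ofBijective F.ψ F.ψ_bij).toEquiv.subtypeEquiv fun a => ?_)).symm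
  show a ∘ σ.symm = a ↔ φ (F.ψ a) = F.ψ a
  rw [F.apply_perm hc σ h]
  exact ⟨fun e => by rw [e], fun e => F.ψ_inj e⟩

/-- the two normal forms -/
def tau (b : Bool) : Equiv.Perm (Fin 4) :=
  if b then Equiv.swap 0 1 * Equiv.swap 2 3 else Equiv.swap 0 1

theorem exists_normal {t : W →ₗ[ZMod 2] W} (ht : H.IsInv t) (hne : t ≠ LinearMap.id) :
    ∃ (F : H.Frame) (b : Bool), ∀ i, t (F.e i) = F.e (tau b i) := by
  obtain ⟨v₀, hv₀⟩ : ∃ v, t v ≠ v := by
    by_contra h; push Not at h; exact hne (LinearMap.ext h)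
  obtain ⟨v, -, hn, ho⟩ := exists_pair (k := 0) (e := Fin.elim0) (H := H)
    ⟨fun i => i.elim0, fun i => i.elim0⟩ ht (fun _ _ i => i.elim0) (fun i => i.elim0) hv₀
  have hon : H.ON ![v, t v] := ⟨fun i => by fin_cases i <;> simp [hn, ht.1.n H],
    fun i j h => by fin_cases i <;> fin_cases j <;> simp_all; exact ho.symm H⟩
  have hinv : ∀ w, (∀ i, H.Orth (![v, t v] i) w) → ∀ i, H.Orth (![v, t v] i) (t w) := by
    intro w hw i
    have h1 := ht.1.orth H (hw 1)
    have h0 := ht.1.orth H (hw 0)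
    simp only [Matrix.cons_val_one, Matrix.cons_val_fin_one, Matrix.cons_val_zero, ht.2] at h1 h0
    fin_cases i
    · exact h1
    · exact h0
  by_cases hfix : ∀ w, (∀ i, H.Orth (![v, t v] i) w) → t w = w
  · obtain ⟨F, hF⟩ := H.exists_frame _ hon (by norm_num)
    have hz : ∀ i : Fin 4, 2 ≤ i.1 → t (F.e i) = F.e i := fun i hi => hfix _ fun j => by
      have := F.on.2 ⟨j.1, by omega⟩ i fun e => by rw [← e] at hi; simp at hi; omega
      rwa [hF ⟨j.1, by omega⟩ j.2] at this
    have e0 := hF 0 (by norm_num)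
    have e1 := hF 1 (by norm_num)
    simp at e0 e1
    refine ⟨F, false, fun i => ?_⟩
    fin_cases i
    · simp [tau, e0, e1]
    · simp [tau, Equiv.swap_apply_right, e0, e1, ht.2]
    · simpa [tau, Equiv.swap_apply_of_ne_of_ne] using hz 2 le_rfl
    · simpa [tau, Equiv.swap_apply_of_ne_of_ne] using hz 3 (by norm_num)
  · push Not at hfix
    obtain ⟨w₀, hw₀, hw₁⟩ := hfix
    obtain ⟨w, hw, hwn, hwo⟩ := exists_pair hon ht hinv hw₀ hw₁
    have a1 : H.Orth v w := hw 0
    have a2 : H.Orth (t v) w := hw 1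
    have a3 : H.Orth v (t w) := hinv w hw 0
    have a4 : H.Orth (t v) (t w) := hinv w hw 1
    refine ⟨⟨![v, t v, w, t w], fun i => ?_, fun i j h => ?_⟩, true, fun i => ?_⟩
    · fin_cases i <;> simp [hn, hwn, ht.1.n H]
    · fin_cases i <;> fin_cases j <;>
        first
          | exact absurd rfl h
          | exact ho | exact Orth.symm H ho | exact hwo | exact Orth.symm H hwo
          | exact a1 | exact Orth.symm H a1 | exact a2 | exact Orth.symm H a2
          | exact a3 | exact Orth.symm H a3 | exact a4 | exact Orth.symm H a4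
    · fin_cases i <;> simp [tau, Equiv.Perm.mul_apply, Equiv.swap_apply_of_ne_of_ne, ht.2]

theorem card_fix_false : Nat.card {a : Co // a ∘ (tau false).symm = a} = 64 := by
  rw [Nat.card_eq_fintype_card]; decide +kernel

theorem card_fix_true : Nat.card {a : Co // a ∘ (tau true).symm = a} = 16 := by
  rw [Nat.card_eq_fintype_card]; decide +kernel

/-- the inverse scalar on one coordinate -/
def cc2 (p : ZMod 2 × ZMod 2) : ZMod 2 × ZMod 2 := (p.1 + p.2, p.1)

/-- the effect of the commutator on coordinates -/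
def gco (a : Co) : Co := ![cc2 (a 0), cc2 (a 1), cc (a 2), cc (a 3)]

/-- the frame multiplied by the scalars of the commutator -/
def gFrame : H.Frame := F.twist 1 ![(true, true), (true, true), (true, false), (true, false)]

/-- scalar on the first plane, inverse scalar on the second -/
noncomputable def gP : W →ₗ[ZMod 2] W := F.map F.gFrame

theorem gP_ψ (a : Co) : F.gP (F.ψ a) = F.ψ (gco a) := by
  rw [gP, F.map_ψ, F.gFrame.ψ_apply, F.ψ_apply, Fin.sum_univ_four, Fin.sum_univ_four]
  simp [gFrame, twist, gco, cc, cc2, H.cc_eq, add_smul]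
  abel_nf
  simp [two_smul, HForm.two]

theorem gP_fixed {v : W} (h : F.gP v = v) : v = 0 := by
  obtain ⟨a, rfl⟩ := F.ψ_surj v
  rw [F.gP_ψ] at h
  have h' := F.ψ_inj h
  have key : ∀ p, (cc2 p = p → p = 0) ∧ (cc p = p → p = 0) := by decide
  rw [show a = 0 from funext fun i => ?_, map_zero]
  have hi := congrFun h' i
  fin_cases i
  · exact (key _).1 hi
  · exact (key _).1 hi
  · exact (key _).2 hi
  · exact (key _).2 hi

theorem gP_three (v : W) : F.gP (F.gP (F.gP v)) = v := by
  obtain ⟨a, rfl⟩ := F.ψ_surj v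
  rw [F.gP_ψ, F.gP_ψ, F.gP_ψ]
  congr 1
  funext i
  have key : ∀ p, cc2 (cc2 (cc2 p)) = p ∧ cc (cc (cc p)) = p := by decide
  fin_cases i <;> simp [gco, key]

theorem gP_comm {t : W →ₗ[ZMod 2] W} (hc : ∀ v, t (H.c v) = H.c (t v)) {b : Bool}
    (h : ∀ i, t (F.e i) = F.e (tau b i)) (v : W) : t (F.gP v) = F.gP (t v) := by
  obtain ⟨a, rfl⟩ := F.ψ_surj v
  rw [F.gP_ψ, F.apply_perm hc _ h, F.apply_perm hc _ h, F.gP_ψ]
  have key : ∀ (b : Bool) (a : Co), gco a ∘ (tau b).symm = gco (a ∘ (tau b).symm) := by decide +kernel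
  rw [key]

/-- exchange of the two planes -/
noncomputable def sigP : W →ₗ[ZMod 2] W :=
  F.map (F.twist (Equiv.swap 0 2 * Equiv.swap 1 3) fun _ => (false, false))

/-- scalar on the first plane -/
noncomputable def dP : W →ₗ[ZMod 2] W :=
  F.map (F.twist 1 ![(true, false), (true, false), (false, false), (false, false)])

theorem gP_commutator (v : W) : F.gP (F.dP (F.sigP v)) = F.sigP (F.dP v) := by
  have hg := (F.isom_map F.gFrame).1
  have hd := (F.isom_map (F.twist 1 ![(true, false), (true, false), (false, false), (false, false)])).1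
  have hs := (F.isom_map (F.twist (Equiv.swap 0 2 * Equiv.swap 1 3) fun _ => (false, false))).1
  have := F.ext (φ := F.gP ∘ₗ F.dP ∘ₗ F.sigP) (φ' := F.sigP ∘ₗ F.dP)
    (fun u => by simp only [LinearMap.comp_apply, gP, dP, sigP, hg, hd, hs])
    (fun u => by simp only [LinearMap.comp_apply, dP, sigP, hd, hs]) fun i => ?_
  · exact LinearMap.congr_fun this v
  · have g0 : F.gP (F.e 0) = H.c (H.c (F.e 0)) := F.map_e _ 0
    have g1 : F.gP (F.e 1) = H.c (H.c (F.e 1)) := F.map_e _ 1
    have g2 : F.gP (F.e 2) = H.c (F.e 2) := F.map_e _ 2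
    have g3 : F.gP (F.e 3) = H.c (F.e 3) := F.map_e _ 3
    have d0 : F.dP (F.e 0) = H.c (F.e 0) := F.map_e _ 0
    have d1 : F.dP (F.e 1) = H.c (F.e 1) := F.map_e _ 1
    have d2 : F.dP (F.e 2) = F.e 2 := F.map_e _ 2
    have d3 : F.dP (F.e 3) = F.e 3 := F.map_e _ 3
    have s0 : F.sigP (F.e 0) = F.e 2 := F.map_e _ 0
    have s1 : F.sigP (F.e 1) = F.e 3 := F.map_e _ 1
    have s2 : F.sigP (F.e 2) = F.e 0 := F.map_e _ 2
    have s3 : F.sigP (F.e 3) = F.e 1 := F.map_e _ 3
    simp only [LinearMap.comp_apply]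
    fin_cases i
    · simp only [Fin.zero_eta, s0, d2, g2, d0]; rw [sigP, hs, ← sigP, s0]
    · simp only [Fin.mk_one, s1, d3, g3, d1]; rw [sigP, hs, ← sigP, s1]
    · simp only [Fin.reduceFinMk, s2, d0, d2]; rw [gP, hg, ← gP, g0, H.c_three]
    · simp only [Fin.reduceFinMk, s3, d1, d3]; rw [gP, hg, ← gP, g1, H.c_three]

end Frame

theorem card_fix_le {t : W →ₗ[ZMod 2] W} (ht : H.IsInv t) (hne : t ≠ LinearMap.id) :
    Nat.card {v // t v = v} ≤ 64 := by
  obtain ⟨F, b, h⟩ := Frame.exists_normal ht hne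
  rw [F.fix_ψ ht.1.1 _ h]
  cases b
  · rw [Frame.card_fix_false]
  · rw [Frame.card_fix_true]; norm_num

/-- Involutions with a common fixed subgroup of order at least 32 are equal. -/
theorem eq_of_fix {s t : W →ₗ[ZMod 2] W} (hs : H.IsInv s) (ht : H.IsInv t)
    (hs1 : s ≠ LinearMap.id) (ht1 : t ≠ LinearMap.id)
    (h : 32 ≤ Nat.card {v // s v = v ∧ t v = v}) : s = t := by
  classical
  have := H.finite
  obtain ⟨F, b, hF⟩ := Frame.exists_normal ht ht1
  have hle : ∀ b', (∀ i, t (F.e i) = F.e (Frame.tau b' i)) → b' = false := by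
    intro b' h'
    by_contra hb
    rw [Bool.not_eq_false] at hb
    subst hb
    have : Nat.card {v // s v = v ∧ t v = v} ≤ Nat.card {v // t v = v} :=
      Nat.card_le_card_of_injective (fun v => ⟨v.1, v.2.2⟩) fun a b e =>
        Subtype.ext (congrArg Subtype.val e :)
    rw [F.fix_ψ ht.1.1 _ h', Frame.card_fix_true] at this
    omega
  obtain rfl := hle b hF
  have : Fintype W := Fintype.ofFinite W
  set A := Finset.univ.filter fun v => s v = v ∧ t v = v
  set B := Finset.univ.filter fun v => t v = v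
  have hA : 32 ≤ A.card := by
    rwa [Nat.card_eq_fintype_card, Fintype.card_subtype] at h
  have hB : B.card = 64 := by
    rw [← Fintype.card_subtype, ← Nat.card_eq_fintype_card, F.fix_ψ ht.1.1 _ hF, Frame.card_fix_false]
  have hfix : ∀ w, t w = w → s w = w := by
    intro w hw
    by_contra hne
    have key : ∀ u u', t u = u → t u' = u' → s u ≠ u → s u' ≠ u' → s (u + u') = u + u' := by
      intro u u' hu hu' hsu hsu'
      by_contra hsum
      set T1 := A.image (· + u)
      set T2 := A.image (· + u')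
      have hd1 : Disjoint A T1 := Finset.disjoint_left.2 fun x hx hx' => by
        obtain ⟨y, hy, rfl⟩ := Finset.mem_image.1 hx'
        simp only [A, Finset.mem_filter, map_add, Finset.mem_univ, true_and] at hx hy
        rw [hy.1] at hx
        exact hsu (add_left_cancel hx.1)
      have hd2 : Disjoint (A ∪ T1) T2 := Finset.disjoint_left.2 fun x hx hx' => by
        obtain ⟨y, hy, rfl⟩ := Finset.mem_image.1 hx'
        simp only [A, Finset.mem_filter, Finset.mem_univ, true_and] at hy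
        rcases Finset.mem_union.1 hx with hx | hx
        · simp only [A, Finset.mem_filter, map_add, Finset.mem_univ, true_and, hy.1] at hx
          exact hsu' (add_left_cancel hx.1)
        · obtain ⟨y', hy', e⟩ := Finset.mem_image.1 hx
          simp only [A, Finset.mem_filter, Finset.mem_univ, true_and] at hy'
          have e' : u + u' = y + y' := by
            calc u + u' = y' + (y' + u) + u' := by rw [← add_assoc, HForm.two, zero_add]
              _ = y' + (y + u') + u' := by rw [e]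
              _ = y + y' + (u' + u') := by abel
              _ = y + y' := by rw [HForm.two, add_zero]
          exact hsum (by rw [e', map_add, hy.1, hy'.1])
      have hsub : A ∪ T1 ∪ T2 ⊆ B := by
        intro x hx
        simp only [A, B, T1, T2, Finset.mem_union, Finset.mem_image, Finset.mem_filter,
          Finset.mem_univ, true_and] at hx ⊢
        rcases hx with (hx | ⟨y, hy, rfl⟩) | ⟨y, hy, rfl⟩
        · exact hx.2
        · rw [map_add, hy.2, hu]
        · rw [map_add, hy.2, hu']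
      have hc := Finset.card_le_card hsub
      rw [Finset.card_union_of_disjoint hd2, Finset.card_union_of_disjoint hd1,
        Finset.card_image_of_injective _ (add_left_injective _),
        Finset.card_image_of_injective _ (add_left_injective _)] at hc
      omega
    have hcw : t (H.c w) = H.c w := by rw [ht.1.1, hw]
    have hc0 : s (H.c w) ≠ H.c w := fun e => hne (H.c_inj (by rw [← hs.1.1, e]))
    have h2 := key w (H.c w) hw hcw hne hc0
    have h3 : H.c (H.c w) = w + H.c w := by rw [H.cc_eq, add_comm]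
    rw [← h3, hs.1.1, hs.1.1] at h2
    exact hne (H.c_inj (H.c_inj h2))
  have h2 : s (F.e 2) = F.e 2 := hfix _ (by rw [hF]; rfl)
  have h3 : s (F.e 3) = F.e 3 := hfix _ (by rw [hF]; rfl)
  have h01 : s (F.e 0 + F.e 1) = F.e 0 + F.e 1 := hfix _ (by
    rw [map_add, hF, hF, add_comm]; rfl)
  obtain ⟨a, ha⟩ := F.ψ_surj (s (F.e 0))
  have a2 : a 2 = 0 := Prod.ext
    (by rw [← F.f_ψ_ce a 2, ha, ← h2, ← hs.1.1, hs.1.2]; simp [F.on.f_ec H])
    (by rw [← F.f_e_ψ a 2, ha, ← h2, hs.1.2]; simp [F.on.f_e H])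
  have a3 : a 3 = 0 := Prod.ext
    (by rw [← F.f_ψ_ce a 3, ha, ← h3, ← hs.1.1, hs.1.2]; simp [F.on.f_ec H])
    (by rw [← F.f_e_ψ a 3, ha, ← h3, hs.1.2]; simp [F.on.f_e H])
  have an : nc (a 0) + nc (a 1) = 1 := by
    have := F.n_ψ a
    rw [ha, hs.1.n H, F.on.1, Fin.sum_univ_four, a2, a3] at this
    simpa [nc] using this.symm
  have a01 : (a 0).1 + (a 1).1 = 1 ∧ (a 0).2 + (a 1).2 = 0 := by
    refine ⟨?_, ?_⟩
    · have := congrArg (H.f · (H.c (F.e 0 + F.e 1))) ha
      simp only [map_add, F.f_ψ_ce] at this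
      rw [this, ← map_add, ← map_add, ← h01, ← hs.1.1, hs.1.2, map_add, map_add, F.on.f_ec H,
        F.on.f_ec H]
      decide
    · have h' : H.f (F.e 0 + F.e 1) (F.ψ a) = (a 0).2 + (a 1).2 := by
        rw [map_add, LinearMap.add_apply, F.f_e_ψ, F.f_e_ψ]
      rw [← h', ha, ← h01, hs.1.2, map_add, LinearMap.add_apply, F.on.f_e H, F.on.f_e H, add_zero]
  have hcases : ∀ p q : ZMod 2 × ZMod 2, nc p + nc q = 1 → p.1 + q.1 = 1 → p.2 + q.2 = 0 →
      p = (1, 0) ∧ q = 0 ∨ p = 0 ∧ q = (1, 0) := by decide +kernel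
  rcases hcases _ _ an a01.1 a01.2 with ⟨p, q⟩ | ⟨p, q⟩
  · exfalso
    have h0 : s (F.e 0) = F.e 0 := by
      rw [← ha, F.ψ_apply, Fin.sum_univ_four, p, q, a2, a3]; simp
    have h1 : s (F.e 1) = F.e 1 := by
      rw [map_add, h0] at h01; exact add_left_cancel h01
    refine hs1 (F.ext hs.1.1 (fun v => rfl) fun i => ?_)
    fin_cases i
    · exact h0
    · exact h1
    · exact h2
    · exact h3
  · have h0 : s (F.e 0) = F.e 1 := by
      rw [← ha, F.ψ_apply, Fin.sum_univ_four, p, q, a2, a3]; simp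
    have h1 : s (F.e 1) = F.e 0 := by rw [← h0, hs.2]
    refine F.ext hs.1.1 ht.1.1 fun i => ?_
    rw [hF i]
    fin_cases i
    · exact h0
    · exact h1
    · exact h2
    · exact h3

/-- the image of a plane vector under a commuting involution -/
theorem plane_image (F : H.Frame) {x : W →ₗ[ZMod 2] W} (hx : H.IsInv x) (i j : Fin 4) (hij : i ≠ j)
    (hsupp : ∀ a : Co, F.ψ a = x (F.e i) → ∀ l, l ≠ i → l ≠ j → a l = 0)
    {t : W →ₗ[ZMod 2] W} (htc : ∀ v, t (x v) = x (t v)) (ht : H.IsInv t) (hti : t (F.e i) = F.e j) :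
    x (F.e i) = F.e i ∨ x (F.e i) = F.e j := by
  obtain ⟨a, ha⟩ := F.ψ_surj (x (F.e i))
  have hs := hsupp a ha
  have hsum : ∀ {M : Type} [AddCommMonoid M] (g : Fin 4 → M), (∀ l, l ≠ i → l ≠ j → g l = 0) →
      ∑ l, g l = g i + g j := fun g hg =>
    Fintype.sum_eq_add i j hij fun l hl => hg l hl.1 hl.2
  have hxi : x (F.e i) = (a i).1 • F.e i + (a i).2 • H.c (F.e i) +
      ((a j).1 • F.e j + (a j).2 • H.c (F.e j)) := by
    rw [← ha, F.ψ_apply]
    exact Fintype.sum_eq_add i j hij fun l hl => by simp [hs l hl.1 hl.2]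
  have hn : nc (a i) + nc (a j) = 1 := by
    have := F.n_ψ a
    rw [ha, hx.1.n H, F.on.1, hsum _ fun l h1 h2 => by rw [hs l h1 h2]; decide] at this
    exact this.symm
  have htj : t (F.e j) = F.e i := by rw [← hti, ht.2]
  have hxj : x (F.e j) = (a i).1 • F.e j + (a i).2 • H.c (F.e j) +
      ((a j).1 • F.e i + (a j).2 • H.c (F.e i)) := by
    rw [← hti, ← htc, hxi]
    simp only [map_add, map_smul, ht.1.1, hti, htj]
  -- apply twice
  have hsq := hx.2 (F.e i)
  rw [hxi] at hsq
  simp only [map_add, map_smul, hx.1.1, hxi, hxj] at hsq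
  have hf : ∀ w, H.f (F.e i) w = H.f (F.e i) w := fun _ => rfl
  have k1 := congrArg (fun w => H.f w (H.c (F.e i))) hsq
  have k2 := congrArg (H.f (F.e i)) hsq
  simp only [map_add, map_smul, LinearMap.add_apply, LinearMap.smul_apply, smul_eq_mul, H.cc_eq,
    H.f_c, F.on.f_e H, F.on.f_ec H, F.on.f_ce H, if_true, hij, hij.symm, if_false, mul_zero,
    add_zero, zero_add, mul_one] at k1 k2
  clear hf
  have hp : a i = (1, 0) ∧ a j = 0 ∨ a i = 0 ∧ a j = (1, 0) := by
    revert hn k1 k2
    generalize a i = p, a j = q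
    revert p q; decide +kernel
  rw [hxi]
  rcases hp with ⟨p, q⟩ | ⟨p, q⟩
  · left; rw [p, q]; simp
  · right; rw [p, q]; simp

/-- The commutator attached to an involution. -/
theorem exists_commutator {t : W →ₗ[ZMod 2] W} (ht : H.IsInv t) (hne : t ≠ LinearMap.id) :
    ∃ g σ D : W →ₗ[ZMod 2] W, H.IsIsom g ∧ H.IsIsom σ ∧ H.IsIsom D ∧
      (∀ v, g (D (σ v)) = σ (D v)) ∧ (∀ v, t (g v) = g (t v)) ∧ (∀ v, g v = v → v = 0) ∧
      (∀ v, g (g (g v)) = v) ∧
      (Nat.card {v // t v = v} < 32 → ∀ x : W →ₗ[ZMod 2] W, H.IsInv x → (∀ v, t (x v) = x (t v)) →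
        (∀ v, g (x v) = x (g v)) → x = LinearMap.id ∨ x = t ∨ 32 ≤ Nat.card {v // x v = v}) := by
  obtain ⟨F, b, hF⟩ := Frame.exists_normal ht hne
  refine ⟨F.gP, F.sigP, F.dP, F.isom_map _, F.isom_map _, F.isom_map _, F.gP_commutator,
    F.gP_comm ht.1.1 hF, fun v => F.gP_fixed, F.gP_three, ?_⟩
  intro hlt x hx hxt hxg
  cases b
  · rw [F.fix_ψ ht.1.1 _ hF, Frame.card_fix_false] at hlt; omega
  -- `x` preserves the planes
  have hgx : ∀ i (a : Co), F.ψ a = x (F.e i) →
      Frame.gco a = (fun l => (if i.1 < 2 then Frame.cc2 (a l) else cc (a l))) := by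
    intro i a ha
    have h1 := hxg (F.e i)
    rw [← ha, F.gP_ψ] at h1
    have h2 : x (F.gP (F.e i)) = F.ψ (fun l => (if i.1 < 2 then Frame.cc2 (a l) else cc (a l))) := by
      rw [Frame.gP, F.map_e]
      have e2 : ∀ a' : Co, H.c (H.c (F.ψ a')) = F.ψ fun l => Frame.cc2 (a' l) := fun a' => by
        rw [F.c_ψ, F.c_ψ]; congr 1; funext l; generalize a' l = p; revert p; decide
      fin_cases i
      · show x (H.c (H.c (F.e 0))) = _
        rw [hx.1.1, hx.1.1, show x (F.e 0) = F.ψ a from ha.symm, e2]; rfl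
      · show x (H.c (H.c (F.e 1))) = _
        rw [hx.1.1, hx.1.1, show x (F.e 1) = F.ψ a from ha.symm, e2]; rfl
      · show x (H.c (F.e 2)) = _
        rw [hx.1.1, show x (F.e 2) = F.ψ a from ha.symm, F.c_ψ]; rfl
      · show x (H.c (F.e 3)) = _
        rw [hx.1.1, show x (F.e 3) = F.ψ a from ha.symm, F.c_ψ]; rfl
    rw [h2] at h1
    exact F.ψ_inj h1
  have key : ∀ p, (cc p = Frame.cc2 p → p = 0) ∧ (Frame.cc2 p = cc p → p = 0) := by decide
  have s0 : ∀ a : Co, F.ψ a = x (F.e 0) → ∀ l, l ≠ 0 → l ≠ 1 → a l = 0 := by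
    intro a ha l h0 h1
    have := congrFun (hgx 0 a ha) l
    fin_cases l
    · exact absurd rfl h0
    · exact absurd rfl h1
    · exact (key _).1 (by simpa [Frame.gco] using this)
    · exact (key _).1 (by simpa [Frame.gco] using this)
  have s2 : ∀ a : Co, F.ψ a = x (F.e 2) → ∀ l, l ≠ 2 → l ≠ 3 → a l = 0 := by
    intro a ha l h0 h1
    have := congrFun (hgx 2 a ha) l
    fin_cases l
    · exact (key _).2 (by simpa [Frame.gco] using this)
    · exact (key _).2 (by simpa [Frame.gco] using this)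
    · exact absurd rfl h0
    · exact absurd rfl h1
  have t0 : t (F.e 0) = F.e 1 := by rw [hF]; rfl
  have t2 : t (F.e 2) = F.e 3 := by rw [hF]; rfl
  have t1 : t (F.e 1) = F.e 0 := by rw [← t0, ht.2]
  have t3 : t (F.e 3) = F.e 2 := by rw [← t2, ht.2]
  have x1 : x (F.e 1) = t (x (F.e 0)) := by rw [hxt, t0]
  have x3 : x (F.e 3) = t (x (F.e 2)) := by rw [hxt, t2]
  have big : ∀ σ : Equiv.Perm (Fin 4), (∀ i, x (F.e i) = F.e (σ i)) →
      Nat.card {a : Co // a ∘ σ.symm = a} = 64 → 32 ≤ Nat.card {v // x v = v} := fun σ h hc => by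
    rw [F.fix_ψ hx.1.1 σ h, hc]; norm_num
  rcases plane_image F hx 0 1 (by decide) s0 hxt ht t0 with e0 | e0 <;>
    rcases plane_image F hx 2 3 (by decide) s2 hxt ht t2 with e2 | e2 <;>
    rw [e0] at x1 <;> rw [e2] at x3
  · refine Or.inl (F.ext hx.1.1 (fun v => rfl) fun i => ?_)
    fin_cases i
    · exact e0
    · exact x1.trans t0
    · exact e2
    · exact x3.trans t2
  · refine Or.inr (Or.inr (big (Equiv.swap 2 3) (fun i => ?_) ?_))
    · fin_cases i
      · exact e0
      · exact x1.trans t0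
      · exact e2
      · exact x3.trans t3
    · rw [Nat.card_eq_fintype_card]; decide +kernel
  · refine Or.inr (Or.inr (big (Equiv.swap 0 1) (fun i => ?_) ?_))
    · fin_cases i
      · exact e0
      · exact x1.trans t1
      · exact e2
      · exact x3.trans t2
    · rw [Nat.card_eq_fintype_card]; decide +kernel
  · refine Or.inr (Or.inl (F.ext hx.1.1 ht.1.1 fun i => ?_))
    fin_cases i
    · exact e0.trans t0.symm
    · exact x1
    · exact e2.trans t2.symm
    · exact x3

/-- a totally isotropic subspace has order at most 16 -/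
theorem card_isotropic (S : Submodule (ZMod 2) W) (h : ∀ v ∈ S, ∀ w ∈ S, H.f v w = 0) :
    Nat.card S ≤ 16 := by
  have := H.finite
  have hW : Module.finrank (ZMod 2) W = 8 := by
    have := Module.natCard_eq_pow_finrank (K := ZMod 2) (V := W)
    rw [H.card, Nat.card_zmod] at this
    exact Nat.pow_right_injective le_rfl (this.symm.trans (by norm_num : (256 : ℕ) = 2 ^ 8))
  let L : S →ₗ[ZMod 2] Module.Dual (ZMod 2) (W ⧸ S) :=
    { toFun := fun s => S.liftQ (H.f s.1) fun w hw => h s.1 s.2 w hw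
      map_add' := fun s s' => Submodule.linearMap_qext _ (LinearMap.ext fun w => by
        show H.f (s + s' : S).1 w = H.f s.1 w + H.f s'.1 w
        simp)
      map_smul' := fun r s => Submodule.linearMap_qext _ (LinearMap.ext fun w => by
        show H.f (r • s : S).1 w = r * H.f s.1 w
        simp) }
  have hL : Function.Injective L := by
    rw [injective_iff_map_eq_zero]
    intro s hs
    refine Subtype.ext (H.nondeg _ fun w => ?_)
    have := LinearMap.congr_fun hs (Submodule.Quotient.mk w)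
    exact this
  have h1 := LinearMap.finrank_le_finrank_of_injective hL
  rw [Subspace.dual_finrank_eq] at h1
  have h2 := S.finrank_quotient_add_finrank
  rw [Module.natCard_eq_pow_finrank (K := ZMod 2) (V := S), Nat.card_zmod]
  calc (2 : ℕ) ^ Module.finrank (ZMod 2) S ≤ 2 ^ 4 := Nat.pow_le_pow_right (by norm_num) (by omega)
    _ = 16 := by norm_num

end Cfsg.Agent.Lib.Fi23Local27.HForm

namespace Cfsg.Agent.Lib.Fi23Local27.HForm

variable {W : Type*} [AddCommGroup W] [Module (ZMod 2) W] {H : HForm W}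

theorem fix_eq_64 {t : W →ₗ[ZMod 2] W} (ht : H.IsInv t) (hne : t ≠ LinearMap.id)
    (h : 32 ≤ Nat.card {v // t v = v}) : Nat.card {v // t v = v} = 64 := by
  obtain ⟨F, b, hF⟩ := Frame.exists_normal ht hne
  rw [F.fix_ψ ht.1.1 _ hF] at h ⊢
  cases b
  · exact Frame.card_fix_false
  · rw [Frame.card_fix_true] at h; omega

/-- in the rank two case the fixed space is the image of `1 + t` -/
theorem image_of_fix {t : W →ₗ[ZMod 2] W} (ht : H.IsInv t) (hne : t ≠ LinearMap.id)
    (h : Nat.card {v // t v = v} < 32) {x : W} (hx : t x = x) : ∃ w, w + t w = x := by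
  obtain ⟨F, b, hF⟩ := Frame.exists_normal ht hne
  rw [F.fix_ψ ht.1.1 _ hF] at h
  cases b
  · rw [Frame.card_fix_false] at h; omega
  obtain ⟨a, rfl⟩ := F.ψ_surj x
  rw [F.apply_perm ht.1.1 _ hF] at hx
  have key : ∀ a : Co, a ∘ (Frame.tau true).symm = a →
      ![a 0, 0, a 2, 0] + ![a 0, 0, a 2, 0] ∘ (Frame.tau true).symm = a := by decide +kernel
  refine ⟨F.ψ ![a 0, 0, a 2, 0], ?_⟩
  rw [F.apply_perm ht.1.1 _ hF, ← map_add, key a (F.ψ_inj hx)]

/-- what is orthogonal to the fixed space is in the image of `1 + t` -/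
theorem image_of_perp {t : W →ₗ[ZMod 2] W} (ht : H.IsInv t) (hne : t ≠ LinearMap.id) {x : W}
    (hx : ∀ v, t v = v → H.f x v = 0) : ∃ w, w + t w = x := by
  obtain ⟨F, b, hF⟩ := Frame.exists_normal ht hne
  obtain ⟨a, rfl⟩ := F.ψ_surj x
  have hfix : ∀ c' : Co, c' ∘ (Frame.tau b).symm = c' →
      ∑ i, ((c' i).1 * (a i).2 + (c' i).2 * (a i).1) = 0 := fun c' hc' => by
    rw [← F.f_ψ]
    exact hx _ (by rw [F.apply_perm ht.1.1 _ hF, hc'])
  let gens : Bool → List Co := fun b => [![(1, 0), (1, 0), 0, 0], ![(0, 1), (0, 1), 0, 0],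
    (if b then ![0, 0, (1, 0), (1, 0)] else ![0, 0, (1, 0), 0]),
    (if b then ![0, 0, (0, 1), (0, 1)] else ![0, 0, (0, 1), 0]),
    (if b then 0 else ![0, 0, 0, (1, 0)]), (if b then 0 else ![0, 0, 0, (0, 1)])]
  have key : ∀ (b : Bool) (a : Co),
      (gens b).all (fun c' => decide (∑ i, ((c' i).1 * (a i).2 + (c' i).2 * (a i).1) = 0)) = true →
      ![a 0, 0, (if b then a 2 else 0), 0] +
        ![a 0, 0, (if b then a 2 else 0), 0] ∘ (Frame.tau b).symm = a := by decide +kernel
  have hinv : ∀ b : Bool,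
      (gens b).all (fun c' => decide (c' ∘ (Frame.tau b).symm = c')) = true := by decide +kernel
  refine ⟨F.ψ ![a 0, 0, (if b then a 2 else 0), 0], ?_⟩
  rw [F.apply_perm ht.1.1 _ hF, ← map_add, key b a]
  refine List.all_eq_true.2 fun c' hc' => decide_eq_true (hfix c' ?_)
  exact of_decide_eq_true (List.all_eq_true.1 (hinv b) c' hc')

end Cfsg.Agent.Lib.Fi23Local27.HForm
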