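import Cfsg.Agent.Lib.Fi23Local27.Local

/-!
The consequences of a split centraliser `C(t) = (C(t) ∩ X) O` for the conjugates of `z` in `X`, and
elementary facts on centralisers in `J`.

Owner: helper27 (S3233).
-/

set_option autoImplicit false

open scoped commutatorElement

namespace Cfsg.Agent.Lib.Fi23Local27

/-- A map of odd order commuting with an involution and fixing its fixed points fixes a 2-group. -/
theorem fixed_of_fixed_centraliser {G : Type*} [Group G] [Finite G] {J : Subgroup G}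
    (hJ : IsPGroup 2 J) {a o : G} (ha : a * a = 1) (hao : a * o = o * a) (ho : Odd (orderOf o))
    (hJa : ∀ j ∈ J, a * j * a⁻¹ ∈ J) (hJo : ∀ j ∈ J, o * j * o⁻¹ ∈ J)
    (hfix : ∀ j ∈ J, a * j * a⁻¹ = j → o * j * o⁻¹ = j) : ∀ j ∈ J, o * j * o⁻¹ = j := by
  have := Fact.mk Nat.prime_two
  let N : Subgroup G :=
    { carrier := {j | j ∈ J ∧ o * j * o⁻¹ = j}
      one_mem' := ⟨one_mem _, by group⟩
      mul_mem' := fun {x y} hx hy => ⟨mul_mem hx.1 hy.1, by
        rw [show o * (x * y) * o⁻¹ = o * x * o⁻¹ * (o * y * o⁻¹) by group, hx.2, hy.2]⟩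
      inv_mem' := fun {x} hx => ⟨inv_mem hx.1, by
        rw [show o * x⁻¹ * o⁻¹ = (o * x * o⁻¹)⁻¹ by group, hx.2]⟩ }
  have hNJ : N ≤ J := fun x hx => hx.1
  by_contra hcon
  have hlt : N < J := lt_of_le_of_ne hNJ fun h => hcon fun j hj => by
    rw [← h] at hj; exact hj.2
  let M : Subgroup G := J ⊓ Subgroup.normalizer (N : Set G)
  have hNM : N < M := by
    refine lt_of_le_of_ne (le_inf hNJ Subgroup.le_normalizer) fun h => ?_
    have : Group.IsNilpotent J := hJ.isNilpotent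
    have h1 : N.subgroupOf J < ⊤ := by
      rw [lt_top_iff_ne_top, Ne, Subgroup.subgroupOf_eq_top]
      exact fun h' => absurd h' (not_le_of_gt hlt)
    obtain ⟨x, hx, hx'⟩ := SetLike.exists_of_lt (Group.normalizerCondition_of_isNilpotent _ h1)
    apply hx'
    rw [Subgroup.mem_subgroupOf, h]
    refine ⟨x.2, Subgroup.mem_normalizer_iff.2 fun y => ?_⟩
    rw [Subgroup.mem_normalizer_iff] at hx
    constructor
    · intro hy
      have := (hx ⟨y, hNJ hy⟩).1 (by simpa [Subgroup.mem_subgroupOf] using hy)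
      simpa [Subgroup.mem_subgroupOf] using this
    · intro hy
      have hm : y ∈ J := by
        have := J.mul_mem (J.mul_mem (J.inv_mem x.2) (hNJ hy)) x.2
        simpa [mul_assoc] using this
      have := (hx ⟨y, hm⟩).2 (by simpa [Subgroup.mem_subgroupOf] using hy)
      simpa [Subgroup.mem_subgroupOf] using this
  -- `a` fixes a nontrivial class of `M / N`
  have hainv : a⁻¹ = a := inv_eq_of_mul_eq_one_left ha
  have haN : ∀ x ∈ N, a * x * a⁻¹ ∈ N := fun x hx => ⟨hJa x hx.1, by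
    calc o * (a * x * a⁻¹) * o⁻¹ = o * a * x * (o * a)⁻¹ := by group
      _ = a * (o * x * o⁻¹) * a⁻¹ := by rw [← hao]; group
      _ = a * x * a⁻¹ := by rw [hx.2]⟩
  have haN' : ∀ x, a * x * a⁻¹ ∈ N → x ∈ N := fun x hx => by
    have := haN _ hx
    rw [hainv] at this
    rwa [show a * (a * x * a) * a = a * a * x * (a * a) by group, ha, one_mul, mul_one] at this
  have haM : ∀ x ∈ M, a * x * a⁻¹ ∈ M := by
    intro x hx
    refine ⟨hJa x hx.1, Subgroup.mem_normalizer_iff.2 fun y => ?_⟩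
    have h1 := (Subgroup.mem_normalizer_iff.1 hx.2) (a⁻¹ * y * a)
    constructor
    · intro hy
      have h2 := haN _ (h1.1 (by rw [hainv]; simpa [hainv] using haN y hy))
      rwa [show a * (x * (a⁻¹ * y * a) * x⁻¹) * a⁻¹ = a * x * a⁻¹ * y * (a * x * a⁻¹)⁻¹ by group]
        at h2
    · intro hy
      refine haN' y ?_
      rw [hainv]
      have h2 : x * (a⁻¹ * y * a) * x⁻¹ ∈ N := haN' _ (by
        rwa [show a * (x * (a⁻¹ * y * a) * x⁻¹) * a⁻¹ = a * x * a⁻¹ * y * (a * x * a⁻¹)⁻¹ by group])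
      simpa [hainv] using h1.2 h2
  obtain ⟨j, hjM, hjN, hjfix⟩ : ∃ j ∈ M, j ∉ N ∧ j⁻¹ * (a * j * a⁻¹) ∈ N := by
    let A : Type _ := ↥M ⧸ N.subgroupOf M
    have hn : (N.subgroupOf M).Normal := ⟨fun x hx y => by
      rw [Subgroup.mem_subgroupOf] at hx ⊢
      exact (Subgroup.mem_normalizer_iff.1 y.2.2 x.1).1 hx⟩
    let α : ↥M →* ↥M :=
      { toFun := fun x => ⟨a * x * a⁻¹, haM x x.2⟩
        map_one' := Subtype.ext (by simp)
        map_mul' := fun x y => Subtype.ext (by push_cast; group) }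
    have hαN : N.subgroupOf M ≤ (N.subgroupOf M).comap α := fun x hx => haN x hx
    let β : A →* A := QuotientGroup.map _ _ α hαN
    have hβ : Function.Involutive β := fun q => by
      obtain ⟨x, rfl⟩ := QuotientGroup.mk_surjective q
      show β (β x) = _
      rw [QuotientGroup.map_mk, QuotientGroup.map_mk]
      congr 1
      refine Subtype.ext ?_
      show a * (a * x.1 * a⁻¹) * a⁻¹ = x.1
      rw [hainv, show a * (a * x.1 * a) * a = a * a * x.1 * (a * a) by group, ha, one_mul, mul_one]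
    have hA : IsPGroup 2 A := (hJ.to_le (inf_le_left : M ≤ J)).to_quotient _
    have hne : Nontrivial A := by
      rw [QuotientGroup.nontrivial_iff, Ne, Subgroup.subgroupOf_eq_top]
      exact fun h => absurd h (not_le_of_gt hNM)
    have : Fintype A := Fintype.ofFinite A
    classical
    by_contra hcon
    push Not at hcon
    have hfp : ∀ q : A, β q = q → q = 1 := by
      intro q hq
      obtain ⟨x, rfl⟩ := QuotientGroup.mk_surjective q
      rw [QuotientGroup.map_mk, QuotientGroup.eq] at hq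
      rw [QuotientGroup.eq_one_iff]
      by_contra hx
      refine hcon x.1 x.2 hx ?_
      have := N.inv_mem (show ((α x)⁻¹ * x : ↥M).1 ∈ N from hq)
      simpa [α, mul_assoc] using this
    -- the number of fixed points has the parity of the order
    let σ : Equiv.Perm A := hβ.toPerm
    have hcard := Equiv.Perm.card_compl_support_modEq (p := 2) (n := 1) (σ := σ)
      (by rw [pow_one, sq]; exact Equiv.ext fun q => hβ q)
    have hsupp : (σ.support)ᶜ = ({1} : Finset A) := by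
      ext q
      simp only [Finset.mem_compl, Equiv.Perm.mem_support, not_not, Finset.mem_singleton]
      exact ⟨hfp q, fun h => by subst h; exact β.map_one⟩
    rw [hsupp, Finset.card_singleton, ← Nat.card_eq_fintype_card] at hcard
    obtain ⟨n, hn2⟩ := hA.exists_card_eq
    have hn0 : n ≠ 0 := fun h => by
      rw [h, pow_zero] at hn2
      exact absurd hn2 Finite.one_lt_card.ne'
    rw [hn2] at hcard
    have h2 : 2 ∣ 2 ^ n := dvd_pow_self 2 hn0
    rw [Nat.ModEq] at hcard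
    omega
  -- `δ = j⁻¹ o j o⁻¹` centralises `N` and is fixed by `a`
  set n := j⁻¹ * (a * j * a⁻¹) with hn
  set δ := j⁻¹ * (o * j * o⁻¹) with hδ
  have hδJ : δ ∈ J := mul_mem (inv_mem hjM.1) (hJo j hjM.1)
  have hδN : ∀ m ∈ N, δ⁻¹ * m * δ = m := by
    intro m hm
    have h0 : j * m * j⁻¹ ∈ N := (Subgroup.mem_normalizer_iff.1 hjM.2 m).1 hm
    have h1 := h0.2
    have h2 : o * j * o⁻¹ * m * (o * j * o⁻¹)⁻¹ = j * m * j⁻¹ := by
      conv_rhs => rw [← h1]
      conv_lhs => rw [← hm.2]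
      group
    calc δ⁻¹ * m * δ = δ⁻¹ * (j⁻¹ * (j * m * j⁻¹) * j) * δ := by group
      _ = δ⁻¹ * (j⁻¹ * (o * j * o⁻¹ * m * (o * j * o⁻¹)⁻¹) * j) * δ := by rw [h2]
      _ = m := by rw [hδ]; group
  have haδ : a * δ * a⁻¹ = δ := by
    have e1 : a * (o * j * o⁻¹) * a⁻¹ = o * j * o⁻¹ * n := by
      calc a * (o * j * o⁻¹) * a⁻¹ = (a * o) * j * (a * o)⁻¹ := by group
        _ = o * (a * j * a⁻¹) * o⁻¹ := by rw [hao]; group
        _ = o * j * o⁻¹ * (o * n * o⁻¹) := by rw [hn]; group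
        _ = o * j * o⁻¹ * n := by rw [hjfix.2]
    calc a * δ * a⁻¹ = (a * j * a⁻¹)⁻¹ * (a * (o * j * o⁻¹) * a⁻¹) := by rw [hδ]; group
      _ = (j * n)⁻¹ * (o * j * o⁻¹ * n) := by rw [e1, hn]; group
      _ = n⁻¹ * δ * n := by rw [hδ]; group
      _ = δ := by
        have := hδN n hjfix
        calc n⁻¹ * δ * n = n⁻¹ * δ * (δ⁻¹ * n * δ) := by rw [this]
          _ = δ := by group
  have hoδ : o * δ * o⁻¹ = δ := hfix δ hδJ haδ
  have hpow : ∀ k : ℕ, o ^ k * j * (o ^ k)⁻¹ = j * δ ^ k := by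
    intro k
    induction k with
    | zero => simp
    | succ k ih =>
      have e : o * δ ^ k * o⁻¹ = δ ^ k := by rw [← conj_pow, hoδ]
      calc o ^ (k + 1) * j * (o ^ (k + 1))⁻¹ = o * (o ^ k * j * (o ^ k)⁻¹) * o⁻¹ := by
            rw [pow_succ']; group
        _ = o * (j * δ ^ k) * o⁻¹ := by rw [ih]
        _ = o * j * o⁻¹ * (o * δ ^ k * o⁻¹) := by group
        _ = j * δ ^ (k + 1) := by
          rw [e, pow_succ', show o * j * o⁻¹ = j * δ by rw [hδ]; group, mul_assoc]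
  have hk := hpow (orderOf o)
  rw [pow_orderOf_eq_one, one_mul, inv_one, mul_one] at hk
  have h1 : δ ^ orderOf o = 1 := mul_eq_left.1 hk.symm
  obtain ⟨m, hm⟩ := hJ ⟨δ, hδJ⟩
  have h2 : δ ^ 2 ^ m = 1 := congrArg Subtype.val hm
  have hcop : Nat.Coprime (orderOf o) (2 ^ m) :=
    Nat.Coprime.pow_right m (Nat.coprime_two_right.2 ho)
  have hδ1 : δ = 1 := by
    have := pow_gcd_eq_one.2 ⟨h1, h2⟩
    rwa [hcop.gcd_eq_one, pow_one] at this
  refine hjN ⟨hjM.1, ?_⟩
  rw [← inv_mul_eq_one.1 (hδ.symm.trans hδ1)]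

namespace Setting

variable {G : Type*} [Group G] {z : G} (S : Setting z)

/-- `C(t)` is `C(t) ∩ X` times a subgroup of odd order inverted by `z`. -/
def CoreSplit (t : G) : Prop :=
  ∃ O : Subgroup G, Odd (Nat.card O) ∧ (∀ o ∈ O, z * o * z = o⁻¹) ∧
    (∀ g, g * t = t * g → ∀ o ∈ O, g * o * g⁻¹ ∈ O) ∧ (∀ o ∈ O, o * t = t * o) ∧
    ∀ g, g * t = t * g → ∃ h ∈ S.X, h * t = t * h ∧ ∃ o ∈ O, g = h * o

theorem coreSplit_of_le {t : G} (h : ∀ g, g * t = t * g → g ∈ S.X) : S.CoreSplit t :=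
  ⟨⊥, by simp, fun o ho => by rw [Subgroup.mem_bot] at ho; simp [ho, S.z_sq],
    fun g _ o ho => by rw [Subgroup.mem_bot] at ho ⊢; simp [ho],
    fun o ho => by rw [Subgroup.mem_bot] at ho; simp [ho],
    fun g hg => ⟨g, h g hg, hg, 1, one_mem _, (mul_one g).symm⟩⟩

theorem J_pGroup : IsPGroup 2 S.J := IsPGroup.of_card (p := 2) (n := 11) S.J_card

/-- no element of odd order of a normal subgroup: only the identity centralises `J` -/
theorem odd_centralising [Finite G] {o : G} (hoX : o ∈ S.X) (ho : Odd (orderOf o))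
    (h : ∀ j ∈ S.J, o * j * o⁻¹ = j) : o = 1 := by
  have hJ := S.J_cent o (S.mem_X.1 hoX) fun j hj => mul_inv_eq_iff_eq_mul.1 (h j hj)
  have hd : orderOf o ∣ 2 ^ 11 := by rw [← S.J_card]; exact Subgroup.orderOf_dvd_natCard _ hJ
  have : Nat.Coprime (orderOf o) (2 ^ 11) := Nat.Coprime.pow_right 11 (Nat.coprime_two_right.2 ho)
  exact orderOf_eq_one_iff.1 (this.eq_one_of_dvd hd)

/-- KEY: `C_X(g t g⁻¹) ≤ C(g z g⁻¹)`. -/
theorem key [Finite G] {t g : G} (ht : S.CoreSplit t) (htz : t * z = z * t) (ht2 : t * t = 1)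
    (hx : g * z * g⁻¹ ∈ S.X) (ha : g * t * g⁻¹ ∈ S.X) {h : G} (hh : h ∈ S.X)
    (hha : h * (g * t * g⁻¹) = g * t * g⁻¹ * h) : h * (g * z * g⁻¹) = g * z * g⁻¹ * h := by
  obtain ⟨O, hodd, hinv, hnorm, hcomm, hsplit⟩ := ht
  have hOX : ∀ o ∈ O, o ∈ S.X → o = 1 := by
    intro o ho hoX
    have h1 : o⁻¹ = o := by
      rw [← hinv o ho, ← (S.mem_X.1 hoX), mul_assoc, S.z_sq, mul_one]
    have h2 : orderOf o ∣ 2 := orderOf_dvd_of_pow_eq_one (by
      rw [pow_two]; nth_rw 1 [← h1]; exact inv_mul_cancel o)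
    have h3 : orderOf o ∣ Nat.card O := Subgroup.orderOf_dvd_natCard _ ho
    have h4 : Nat.Coprime 2 (Nat.card O) := Nat.coprime_two_left.2 hodd
    exact orderOf_eq_one_iff.1 (Nat.Coprime.eq_one_of_dvd (h4.coprime_dvd_left h2) h3)
  set y := g⁻¹ * z * g with hy
  have hyX : y ∈ S.X := by
    rw [S.mem_X]
    have := S.mem_X.1 hx
    calc y * z = g⁻¹ * (z * (g * z * g⁻¹)) * g := by rw [hy]; group
      _ = g⁻¹ * (g * z * g⁻¹ * z) * g := by rw [this]
      _ = z * y := by rw [hy]; group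
  have hyt : y * t = t * y := by
    have := S.mem_X.1 ha
    calc y * t = g⁻¹ * (z * (g * t * g⁻¹)) * g := by rw [hy]; group
      _ = g⁻¹ * (g * t * g⁻¹ * z) * g := by rw [this]
      _ = t * y := by rw [hy]; group
  set h' := g⁻¹ * h * g with hh'
  have h't : h' * t = t * h' := by
    calc h' * t = g⁻¹ * (h * (g * t * g⁻¹)) * g := by rw [hh']; group
      _ = g⁻¹ * (g * t * g⁻¹ * h) * g := by rw [hha]
      _ = t * h' := by rw [hh']; group
  have h'y : h' * y = y * h' := by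
    calc h' * y = g⁻¹ * (h * z) * g := by rw [hh', hy]; group
      _ = g⁻¹ * (z * h) * g := by rw [S.mem_X.1 hh]
      _ = y * h' := by rw [hh', hy]; group
  obtain ⟨k, hk, hkt, o, ho, he⟩ := hsplit h' h't
  -- `o` commutes with `y`
  have hoy : o * y = y * o := by
    have hq : o * (y * o⁻¹ * y⁻¹) = k⁻¹ * y * k * y⁻¹ := by
      have h1 : y * (k * o) = k * o * y := by rw [← he, h'y]
      calc o * (y * o⁻¹ * y⁻¹) = k⁻¹ * (k * o * y) * o⁻¹ * y⁻¹ := by group
        _ = k⁻¹ * (y * (k * o)) * o⁻¹ * y⁻¹ := by rw [h1]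
        _ = k⁻¹ * y * k * y⁻¹ := by group
    have hm : o * (y * o⁻¹ * y⁻¹) ∈ O := mul_mem ho (hnorm y hyt _ (inv_mem ho))
    have hmX : o * (y * o⁻¹ * y⁻¹) ∈ S.X := by
      rw [hq]; exact mul_mem (mul_mem (mul_mem (inv_mem hk) hyX) hk) (inv_mem hyX)
    have h1 := hOX _ hm hmX
    calc o * y = o * (y * o⁻¹ * y⁻¹) * (y * o) := by group
      _ = y * o := by rw [h1, one_mul]
  -- the conjugate of `o` lies in `X`
  set o' := g * o * g⁻¹ with ho'
  have ho'X : o' ∈ S.X := by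
    rw [S.mem_X]
    calc o' * z = g * (o * y) * g⁻¹ := by rw [ho', hy]; group
      _ = g * (y * o) * g⁻¹ := by rw [hoy]
      _ = z * o' := by rw [ho', hy]; group
  set a := g * t * g⁻¹ with hadef
  have hao : a * o' = o' * a := by
    calc a * o' = g * (t * o) * g⁻¹ := by rw [hadef, ho']; group
      _ = g * (o * t) * g⁻¹ := by rw [hcomm o ho]
      _ = o' * a := by rw [hadef, ho']; group
  have hoodd : Odd (orderOf o) := hodd.of_dvd_nat (Subgroup.orderOf_dvd_natCard _ ho)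
  have ho'odd : Odd (orderOf o') := by
    rw [ho', show g * o * g⁻¹ = MulAut.conj g o from rfl, MulEquiv.orderOf_eq]
    exact hoodd
  have ha2 : a * a = 1 := by
    calc a * a = g * (t * t) * g⁻¹ := by rw [hadef]; group
      _ = 1 := by rw [ht2]; group
  have hfix : ∀ j ∈ S.J, o' * j * o'⁻¹ = j := by
    refine fixed_of_fixed_centraliser S.J_pGroup ha2 hao ho'odd (fun j hj => S.conj_J ha hj)
      (fun j hj => S.conj_J ho'X hj) fun j hj hja => ?_
    -- the commutator lies in `J` and in the conjugate of `O`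
    have hj't : g⁻¹ * j * g * t = t * (g⁻¹ * j * g) := by
      calc g⁻¹ * j * g * t = g⁻¹ * (j * a) * g := by rw [hadef]; group
        _ = g⁻¹ * (a * j) * g := by rw [← mul_inv_eq_iff_eq_mul.1 hja]
        _ = t * (g⁻¹ * j * g) := by rw [hadef]; group
    have hO : o * (g⁻¹ * j * g * o⁻¹ * (g⁻¹ * j * g)⁻¹) ∈ O :=
      mul_mem ho (hnorm _ hj't _ (inv_mem ho))
    have hJ' : o' * j * o'⁻¹ * j⁻¹ ∈ S.J := mul_mem (S.conj_J ho'X hj) (inv_mem hj)
    set q := o * (g⁻¹ * j * g * o⁻¹ * (g⁻¹ * j * g)⁻¹) with hq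
    have e : o' * j * o'⁻¹ * j⁻¹ = MulAut.conj g q := by
      rw [MulAut.conj_apply, hq, ho']; group
    have hd2 : orderOf q ∣ 2 ^ 11 := by
      rw [← MulEquiv.orderOf_eq (MulAut.conj g) q, ← e, ← S.J_card]
      exact Subgroup.orderOf_dvd_natCard _ hJ'
    have hqodd : Odd (orderOf q) := hodd.of_dvd_nat (Subgroup.orderOf_dvd_natCard _ hO)
    have hq1 : q = 1 := orderOf_eq_one_iff.1
      ((Nat.Coprime.pow_right 11 (Nat.coprime_two_right.2 hqodd)).eq_one_of_dvd hd2)
    rw [hq1, map_one] at e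
    exact mul_inv_eq_one.1 e
  have ho1 : o' = 1 := S.odd_centralising ho'X ho'odd hfix
  have ho0 : o = 1 := by
    calc o = g⁻¹ * o' * g := by rw [ho']; group
      _ = 1 := by rw [ho1]; group
  rw [ho0, mul_one] at he
  have hz' := S.mem_X.1 hk
  calc h * (g * z * g⁻¹) = g * (h' * z) * g⁻¹ := by rw [hh']; group
    _ = g * (z * h') * g⁻¹ := by rw [he, hz']
    _ = g * z * g⁻¹ * h := by rw [hh']; group

/-! ### Centralisers in `J` -/

theorem fixJ_mono {s t : G} (h : ∀ j ∈ S.J, t * j * t⁻¹ = j → s * j * s⁻¹ = j) :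
    S.fixJ t ⊆ S.fixJ s := fun _ ⟨j, hj, hπ, hjt⟩ => ⟨j, hj, hπ, h j hj hjt⟩

theorem card_perp [Finite G] (w : S.W) : 128 ≤ Nat.card {v : S.W // S.H.f w v = 0} := by
  classical
  have : Finite S.W := S.H.finite
  let A := {v : S.W // S.H.f w v = 0}
  let B := {v : S.W // ¬ S.H.f w v = 0}
  have hle : Nat.card B ≤ Nat.card A := by
    by_cases hB : IsEmpty B
    · simp
    obtain ⟨v₀⟩ := not_isEmpty_iff.1 hB
    refine Nat.card_le_card_of_injective (fun v => ⟨v.1 + v₀.1, ?_⟩) fun a b e =>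
      Subtype.ext (add_right_cancel (congrArg Subtype.val e :))
    rw [map_add, Fin.eq_one_of_ne_zero _ v.2, Fin.eq_one_of_ne_zero _ v₀.2]
    rfl
  have hsum : Nat.card S.W = Nat.card A + Nat.card B := by
    have := Nat.card_congr (Equiv.sumCompl (fun v : S.W => S.H.f w v = 0))
    rw [Nat.card_sum] at this
    exact this.symm
  rw [S.card_W] at hsum
  show 128 ≤ Nat.card A
  omega

theorem perp_sub_fixJ [Finite G] {u : G} (hu : u ∈ S.J) :
    {v : S.W | S.H.f (S.π u) v = 0} ⊆ S.fixJ u := by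
  intro v hv
  refine ⟨S.rep v, S.rep_mem v, S.π_rep v, ?_⟩
  have h : S.H.f (S.π u) (S.π (S.rep v)) = 0 := by rw [S.π_rep]; exact hv
  rw [S.H_f hu (S.rep_mem v), S.b_eq_zero, commutatorElement_eq_one_iff_mul_comm] at h
  rw [h]; group

theorem fixJ_large [Finite G] {u : G} (hu : u ∈ S.J) : 128 ≤ Nat.card (S.fixJ u) := by
  have : Finite S.W := S.H.finite
  exact (S.card_perp (S.π u)).trans (Nat.card_le_card_of_injective
    (fun v => ⟨v.1, S.perp_sub_fixJ hu v.2⟩) fun a b e => Subtype.ext (congrArg Subtype.val e :))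

/-- an involution centralising as much as an element of `J` lies in `J` -/
theorem mem_J_of_fixJ [Finite G] {t u : G} (ht : t ∈ S.X) (h2 : t * t = 1) (hu : u ∈ S.J)
    (h : ∀ j ∈ S.J, u * j * u⁻¹ = j → t * j * t⁻¹ = j) : t ∈ S.J := by
  by_contra hJ
  have : Finite S.W := S.H.finite
  have h1 := (S.fixJ_large hu).trans ((Nat.card_mono (Set.toFinite _) (S.fixJ_mono h)).trans
    (S.fixJ_card_le ht))
  have := S.fix_card_le ht (by rw [h2]; exact one_mem _) hJ
  omega

/-- two elements of `J` with nested centralisers -/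
theorem nested [Finite G] {u v : G} (hu : u ∈ S.J) (hv : v ∈ S.J)
    (h : ∀ j ∈ S.J, u * j * u⁻¹ = j → v * j * v⁻¹ = j) :
    (∀ k ∈ S.J, v * k = k * v) ∨ ∀ k ∈ S.J, u * v * k = k * (u * v) := by
  have hker : ∀ x, S.H.f (S.π u) x = 0 → S.H.f (S.π v) x = 0 := by
    intro x hx
    obtain ⟨j, hj, rfl, hju⟩ := S.perp_sub_fixJ hu hx
    rw [S.H_f hv hj, S.b_eq_zero, commutatorElement_eq_one_iff_mul_comm]
    exact mul_inv_eq_iff_eq_mul.1 (h j hj hju)
  by_cases h0 : S.π v = 0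
  · exact Or.inl ((S.π_eq_zero hv).1 h0)
  refine Or.inr ((S.π_eq_zero (mul_mem hu hv)).1 (S.H.nondeg _ fun x => ?_))
  rw [S.π_mul hu hv, map_add, LinearMap.add_apply]
  by_cases hx : S.H.f (S.π u) x = 0
  · rw [hx, hker x hx, add_zero]
  · have hu1 := Fin.eq_one_of_ne_zero _ hx
    by_cases hvx : S.H.f (S.π v) x = 0
    · exfalso
      refine h0 (S.H.nondeg _ fun y => ?_)
      by_cases hy : S.H.f (S.π u) y = 0
      · exact hker y hy
      · have := hker (x + y) (by rw [map_add, hu1, Fin.eq_one_of_ne_zero _ hy]; rfl)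
        rwa [map_add, hvx, zero_add] at this
    · rw [hu1, Fin.eq_one_of_ne_zero _ hvx]; rfl

/-- `J` is not abelian -/
theorem exists_commutator_J [Finite G] : ∃ j ∈ S.J, ∃ k ∈ S.J, ⁅j, k⁆ = z := by
  obtain ⟨j, hj, k, hk, -, -, h⟩ := S.exists_comm (t := 1) (by
    have : Finite S.W := S.H.finite
    have := S.fixJ_large (one_mem S.J)
    omega)
  exact ⟨j, hj, k, hk, h⟩

end Setting

end Cfsg.Agent.Lib.Fi23Local27
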