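import Cfsg.Agent.Lib.Fi23Local27.Space

/-!
Involutions of `C(z)`: centralisers in `J`, and lifting of the commutator attached to an involution
to an element centralising it.

Owner: helper27 (S3233).
-/

set_option autoImplicit false

open scoped commutatorElement

namespace Cfsg.Agent.Lib.Fi23Local27.Setting

variable {G : Type*} [Group G] {z : G} (S : Setting z)

theorem act_eq_iff [Finite G] {g h : G} (hg : g ∈ S.X) (hh : h ∈ S.X) :
    S.act g = S.act h ↔ g⁻¹ * h ∈ S.J := by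
  constructor
  · intro e
    refine S.mem_J_of_act (mul_mem (inv_mem hg) hh) fun x => ?_
    rw [S.act_mul (inv_mem hg) hh, ← e, S.act_inv_apply hg]
  · intro hm
    refine LinearMap.ext fun x => ?_
    conv_rhs => rw [show h = g * (g⁻¹ * h) by group, S.act_mul hg (S.J_le_X hm), S.act_J hm]

/-- central elements of `J` square to one -/
theorem center_sq {j : G} (hj : j ∈ S.J) (hc : ∀ k ∈ S.J, j * k = k * j) : j * j = 1 := by
  rcases S.center_J j hj hc with h | h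
  · exact S.U_sq j h
  · have h2 := S.U_sq _ h
    rwa [show j * z * (j * z) = j * (z * j) * z by group, S.z_center hj,
      show ∀ a : G, a * (a * z) * z = a * a * (z * z) from fun a => by group, S.z_sq, mul_one] at h2

theorem z_inv (_S : Setting z) : z⁻¹ = z := inv_eq_of_mul_eq_one_left _S.z_sq

/-- a central element of `J` -/
theorem central_cases {j : G} (hj : j ∈ S.J) (hc : ∀ k ∈ S.J, j * k = k * j) (h1 : j ≠ 1) :
    j = z ∨ (j ∈ S.U ∧ j ≠ 1) ∨ (j * z ∈ S.U ∧ j * z ≠ 1) := by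
  rcases S.center_J j hj hc with h | h
  · exact Or.inr (Or.inl ⟨h, h1⟩)
  · by_cases hz : j * z = 1
    · exact Or.inl ((eq_inv_of_mul_eq_one_left hz).trans S.z_inv)
    · exact Or.inr (Or.inr ⟨h, hz⟩)

/-- elements centralised in `J`, on the space -/
noncomputable def fixJ (t : G) : Set S.W := {x | ∃ j ∈ S.J, S.π j = x ∧ t * j * t⁻¹ = j}

theorem fixJ_sub {t : G} (ht : t ∈ S.X) {x : S.W} (hx : x ∈ S.fixJ t) : S.act t x = x := by
  obtain ⟨j, hj, rfl, hjt⟩ := hx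
  rw [S.act_π ht hj, hjt]

theorem fixJ_card_le [Finite G] {t : G} (ht : t ∈ S.X) :
    Nat.card (S.fixJ t) ≤ Nat.card {x // S.act t x = x} := by
  have : Finite S.W := S.H.finite
  exact Nat.card_le_card_of_injective (fun x => ⟨x.1, S.fixJ_sub ht x.2⟩)
    fun a b e => Subtype.ext (congrArg Subtype.val e :)

theorem fixJ_add {t : G} {x y : S.W} (hx : x ∈ S.fixJ t) (hy : y ∈ S.fixJ t) :
    x + y ∈ S.fixJ t := by
  obtain ⟨j, hj, rfl, hjt⟩ := hx
  obtain ⟨k, hk, rfl, hkt⟩ := hy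
  exact ⟨j * k, mul_mem hj hk, S.π_mul hj hk,
    by rw [show t * (j * k) * t⁻¹ = t * j * t⁻¹ * (t * k * t⁻¹) by group, hjt, hkt]⟩

theorem fixJ_zero {t : G} : (0 : S.W) ∈ S.fixJ t := ⟨1, one_mem _, S.π_one, by group⟩

/-- a large centraliser in `J` is not abelian -/
theorem exists_comm [Finite G] {t : G} (h : 16 < Nat.card (S.fixJ t)) :
    ∃ j ∈ S.J, ∃ k ∈ S.J, t * j * t⁻¹ = j ∧ t * k * t⁻¹ = k ∧ ⁅j, k⁆ = z := by
  by_contra hc
  push Not at hc
  let Sm : Submodule (ZMod 2) S.W :=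
    { carrier := S.fixJ t
      add_mem' := S.fixJ_add
      zero_mem' := S.fixJ_zero
      smul_mem' := fun r x hx => by
        have hb : ∀ q : ZMod 2, q = 0 ∨ q = 1 := by decide
        rcases hb r with rfl | rfl
        · rw [zero_smul]; exact S.fixJ_zero
        · rwa [one_smul] }
  have := HForm.card_isotropic (H := S.H) Sm fun x hx y hy => by
    obtain ⟨j, hj, rfl, hjt⟩ := hx
    obtain ⟨k, hk, rfl, hkt⟩ := hy
    rw [S.H_f hj hk, S.b_eq_zero]
    exact (S.comm_J j hj k hk).resolve_right (hc j hj k hk hjt hkt)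
  exact absurd this (not_le.2 h)

/-- the element attached to an inner involution -/
theorem exists_gg [Finite G] {t : G} (ht : S.Inner t) (h2 : t * t ∈ S.J) (hJ : t ∉ S.J) :
    ∃ g, S.Inner g ∧ (∀ u ∈ S.U, g * u * g⁻¹ = u) ∧ g ^ 3 ∈ S.J ∧ g * t * g⁻¹ * t⁻¹ ∈ S.J ∧
      (∀ x, S.act g x = x → x = 0) ∧
      (Nat.card {v // S.act t v = v} < 32 → ∀ x, S.Inner x → x * x ∈ S.J → x * t * x⁻¹ * t⁻¹ ∈ S.J →
        x * g * x⁻¹ * g⁻¹ ∈ S.J →
        x ∈ S.J ∨ x⁻¹ * t ∈ S.J ∨ 32 ≤ Nat.card {v // S.act x v = v}) := by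
  obtain ⟨g, σ, D, hg, hσ, hD, hcomm, htg, hfix, hcube, hrk⟩ :=
    HForm.exists_commutator (S.isInv_act ht h2) (S.act_ne_id ht.1 hJ)
  obtain ⟨s, hs, rfl⟩ := S.realize hσ
  obtain ⟨d, hd, rfl⟩ := S.realize hD
  have hmem : S.Inner ⁅s, d⁆ := by
    rw [commutatorElement_def]
    exact ((hs.mul S hd).mul S (hs.inv S)).mul S (hd.inv S)
  have hact : S.act ⁅s, d⁆ = g := by
    refine LinearMap.ext fun v => ?_
    obtain ⟨w, rfl⟩ : ∃ w, S.act d (S.act s w) = v :=
      ⟨S.act s⁻¹ (S.act d⁻¹ v), by rw [S.act_apply_inv hs.1, S.act_apply_inv hd.1]⟩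
    rw [hcomm, ← S.act_mul hd.1 hs.1, ← S.act_mul hmem.1 (mul_mem hd.1 hs.1),
      show ⁅s, d⁆ * (d * s) = s * d by rw [commutatorElement_def]; group, S.act_mul hs.1 hd.1]
  subst hact
  have hcm : ∀ {a b : G}, a ∈ S.X → b ∈ S.X → (∀ v, S.act a (S.act b v) = S.act b (S.act a v)) →
      a * b * a⁻¹ * b⁻¹ ∈ S.J := by
    intro a b ha hb h
    refine S.mem_J_of_act (mul_mem (mul_mem (mul_mem ha hb) (inv_mem ha)) (inv_mem hb)) fun x => ?_
    rw [S.act_mul (mul_mem (mul_mem ha hb) (inv_mem ha)) (inv_mem hb),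
      S.act_mul (mul_mem ha hb) (inv_mem ha), S.act_mul ha hb, h, S.act_apply_inv ha,
      S.act_apply_inv hb]
  have hcm' : ∀ {a b : G}, a ∈ S.X → b ∈ S.X → a * b * a⁻¹ * b⁻¹ ∈ S.J →
      ∀ v, S.act a (S.act b v) = S.act b (S.act a v) := by
    intro a b ha hb h v
    rw [← S.act_mul ha hb, show a * b = (a * b * a⁻¹ * b⁻¹) * (b * a) by group,
      S.act_mul (S.J_le_X h) (mul_mem hb ha), S.act_J h, S.act_mul hb ha]
  refine ⟨⁅s, d⁆, hmem, fun u hu => S.inner_commutator hs hd hu, ?_,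
    hcm hmem.1 ht.1 fun v => (htg v).symm, hfix, fun hlt x hx hx2 hxt hxg => ?_⟩
  · refine S.mem_J_of_act (pow_mem hmem.1 3) fun x => ?_
    rw [pow_three, S.act_mul hmem.1 (mul_mem hmem.1 hmem.1), S.act_mul hmem.1 hmem.1]
    exact hcube x
  · rcases hrk hlt (S.act x) (S.isInv_act hx hx2) (fun v => (hcm' hx.1 ht.1 hxt v).symm)
        (fun v => (hcm' hx.1 hmem.1 hxg v).symm) with h | h | h
    · exact Or.inl (S.mem_J_of_act hx.1 fun v => by rw [h]; rfl)
    · exact Or.inr (Or.inl ((S.act_eq_iff hx.1 ht.1).1 h))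
    · exact Or.inr (Or.inr h)

/-- The element attached to an involution moves into its centraliser. -/
theorem lift_gg [Finite G] {a g : G} (ha : a ∈ S.X) (haU : ∀ u ∈ S.U, a * u * a⁻¹ = u)
    (hg : g ∈ S.X) (hgU : ∀ u ∈ S.U, g * u * g⁻¹ = u) (hg3 : g ^ 3 ∈ S.J)
    (hk : g * a * g⁻¹ * a⁻¹ ∈ S.J) (hw : ∃ w, w + S.act a w = S.π (g * a * g⁻¹ * a⁻¹)) :
    ∃ g', g⁻¹ * g' ∈ S.J ∧ g' * a * g'⁻¹ = a := by
  obtain ⟨w, hw⟩ := hw
  obtain ⟨j, hj, rfl⟩ := S.π_surj w
  set k := g * a * g⁻¹ * a⁻¹ with hkdef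
  have hm : j * (a * j⁻¹ * a⁻¹) ∈ S.J := mul_mem hj (S.conj_J ha (inv_mem hj))
  set ζ := (j * (a * j⁻¹ * a⁻¹))⁻¹ * k with hζdef
  have hζJ : ζ ∈ S.J := mul_mem (inv_mem hm) hk
  have hζc : ∀ l ∈ S.J, ζ * l = l * ζ := by
    rw [← S.π_eq_zero hζJ, hζdef, S.π_mul (inv_mem hm) hk, S.π_inv hm,
      S.π_mul hj (S.conj_J ha (inv_mem hj)), ← S.act_π ha (inv_mem hj), S.π_inv hj, hw, S.W_two]
  have hζa := S.center_fix hζJ hζc ha haU
  -- `j⁻¹ g`
  have h1 : j⁻¹ * g * a * (j⁻¹ * g)⁻¹ = a * ζ := by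
    have e : g * a * g⁻¹ = k * a := by rw [hkdef]; group
    calc j⁻¹ * g * a * (j⁻¹ * g)⁻¹ = j⁻¹ * (g * a * g⁻¹) * j := by group
      _ = j⁻¹ * (j * (a * j⁻¹ * a⁻¹) * ζ * a) * j := by rw [e, hζdef]; group
      _ = a * j⁻¹ * a⁻¹ * (a * ζ * a⁻¹) * a * j := by rw [hζa]; group
      _ = a * (j⁻¹ * ζ) * j := by group
      _ = a * ζ := by rw [← hζc _ (inv_mem hj)]; group
  set g₁ := j⁻¹ * g with hg₁
  have hg₁X : g₁ ∈ S.X := mul_mem (inv_mem (S.J_le_X hj)) hg
  have hg₁U : ∀ u ∈ S.U, g₁ * u * g₁⁻¹ = u := fun u hu => by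
    rw [hg₁, show j⁻¹ * g * u * (j⁻¹ * g)⁻¹ = j⁻¹ * (g * u * g⁻¹) * j by group, hgU u hu,
      mul_assoc, S.U_cent u hu j hj, inv_mul_cancel_left]
  have hζ1 := S.center_fix hζJ hζc hg₁X hg₁U
  have hζ2 : ζ * ζ = 1 := S.center_sq hζJ hζc
  have h3 : g₁ ^ 3 * a * (g₁ ^ 3)⁻¹ = a * ζ := by
    have e1 : g₁ * (a * ζ) * g₁⁻¹ = a := by
      rw [show g₁ * (a * ζ) * g₁⁻¹ = g₁ * a * g₁⁻¹ * (g₁ * ζ * g₁⁻¹) by group, h1, hζ1, mul_assoc,
        hζ2, mul_one]
    calc g₁ ^ 3 * a * (g₁ ^ 3)⁻¹ = g₁ * (g₁ * (g₁ * a * g₁⁻¹) * g₁⁻¹) * g₁⁻¹ := by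
          simp only [pow_three, mul_inv_rev, mul_assoc]
      _ = a * ζ := by rw [h1, e1, h1]
  have hg₁3 : g₁ ^ 3 ∈ S.J := by
    refine S.mem_J_of_act (pow_mem hg₁X 3) fun x => ?_
    have e : ∀ y, S.act g₁ y = S.act g y := fun y => by
      rw [hg₁, S.act_mul (inv_mem (S.J_le_X hj)) hg, S.act_J (inv_mem hj)]
    rw [pow_three, S.act_mul hg₁X (mul_mem hg₁X hg₁X), S.act_mul hg₁X hg₁X, e, e, e,
      ← S.act_mul hg hg, ← S.act_mul (mul_mem hg hg) hg, ← pow_three', S.act_J hg3]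
  refine ⟨(g₁ ^ 3)⁻¹ * g₁, ?_, ?_⟩
  · have := mul_mem (S.conj_J (inv_mem hg) (mul_mem (inv_mem hg₁3) (inv_mem hj))) (one_mem S.J)
    rwa [mul_one, inv_inv, show g⁻¹ * ((g₁ ^ 3)⁻¹ * j⁻¹) * g = g⁻¹ * ((g₁ ^ 3)⁻¹ * g₁) by
      rw [hg₁]; group] at this
  · calc (g₁ ^ 3)⁻¹ * g₁ * a * ((g₁ ^ 3)⁻¹ * g₁)⁻¹
        = (g₁ ^ 3)⁻¹ * (g₁ * a * g₁⁻¹) * g₁ ^ 3 := by group
      _ = (g₁ ^ 3)⁻¹ * (g₁ ^ 3 * a * (g₁ ^ 3)⁻¹) * g₁ ^ 3 := by rw [h1, h3]
      _ = a := by group

/-- an element inverted by an involution is fixed on the space -/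
theorem fix_of_inverted {a k : G} (ha : a ∈ S.X) (hk : k ∈ S.J) (h : a * k * a⁻¹ = k⁻¹) :
    S.act a (S.π k) = S.π k := by
  rw [S.act_π ha hk, h, S.π_inv hk]

/-- Half of the fixed space of a transvection comes from elements of `J` centralised by it. -/
theorem fixJ_big [Finite G] {t : G} (ht : S.Inner t) (h2 : t * t ∈ S.J) (hJ : t ∉ S.J)
    (h32 : 32 ≤ Nat.card {v // S.act t v = v}) : 32 ≤ Nat.card (S.fixJ t) := by
  classical
  obtain ⟨g, hg, hgU, -, hk, hfix, -⟩ := S.exists_gg ht h2 hJ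
  have htU : ∀ u ∈ S.U, t * u * t⁻¹ = u := fun u hu => S.inner_fix_U ht h2 hu
  have : Finite S.W := S.H.finite
  let e : G → G := fun j => j⁻¹ * (t * j * t⁻¹)
  have eJ : ∀ j ∈ S.J, e j ∈ S.J := fun j hj => mul_mem (inv_mem hj) (S.conj_J ht.1 hj)
  let K : Set G := {j | j ∈ S.J ∧ S.act t (S.π j) = S.π j}
  have ec : ∀ j ∈ K, ∀ l ∈ S.J, e j * l = l * e j := fun j hj => by
    rw [← S.π_eq_zero (eJ j hj.1), S.π_mul (inv_mem hj.1) (S.conj_J ht.1 hj.1), S.π_inv hj.1,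
      ← S.act_π ht.1 hj.1, hj.2, S.W_two]
  have ef : ∀ j ∈ K, g * e j * g⁻¹ = e j := fun j hj => S.center_fix (eJ j hj.1) (ec j hj) hg.1 hgU
  have emul : ∀ i ∈ K, ∀ j ∈ S.J, e (i * j) = e i * e j := by
    intro i hi j hj
    have h := ec i hi _ (inv_mem hj)
    calc e (i * j) = (j⁻¹ * e i) * (t * j * t⁻¹) := by simp only [e]; group
      _ = (e i * j⁻¹) * (t * j * t⁻¹) := by rw [h]
      _ = e i * e j := by simp only [e]; group
  -- conjugation by `g` changes the value by a power of `z`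
  have econj : ∀ j ∈ K, e (g * j * g⁻¹) = e j ∨ e (g * j * g⁻¹) = e j * z := by
    intro j hj
    have hk1 : g⁻¹ * t * g * t⁻¹ ∈ S.J := by
      have := S.conj_J (inv_mem hg.1) (inv_mem hk)
      rwa [show g⁻¹ * (g * t * g⁻¹ * t⁻¹)⁻¹ * g⁻¹⁻¹ = g⁻¹ * t * g * t⁻¹ by group] at this
    set l := g⁻¹ * t * g * t⁻¹ with hl
    have e1 : e (g * j * g⁻¹) = g * (⁅j⁻¹, l⁆ * (l * e j * l⁻¹)) * g⁻¹ := by
      simp only [e, hl, commutatorElement_def]; group
    have e2 : l * e j * l⁻¹ = e j := by rw [← ec j hj l hk1]; group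
    rw [e1, e2]
    rcases S.comm_J _ (inv_mem hj.1) _ hk1 with h | h
    · left; rw [h, one_mul, ef j hj]
    · right
      rw [h, show g * (z * e j) * g⁻¹ = g * z * g⁻¹ * (g * e j * g⁻¹) by group, ef j hj,
        show g * z * g⁻¹ = z by rw [S.mem_X.1 hg.1]; group]
      exact S.z_center (eJ j hj.1)
  -- every value is a power of `z`
  have hez : ∀ j ∈ K, e j = 1 ∨ e j = z := by
    intro j hj
    let F := {v : S.W // S.act t v = v}
    have hgt : ∀ v, S.act t v = v → S.act t (S.act g v) = S.act g v := fun v hv => by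
      conv_lhs => rw [← hv]
      rw [← S.act_mul hg.1 ht.1, ← S.act_mul ht.1 (mul_mem hg.1 ht.1)]
      have e0 : t * (g * t) = (t * (g * t * g⁻¹ * t⁻¹) * t⁻¹) * (t * t) * g *
          (g⁻¹ * 1 * g) := by group
      have e3 : t * t * g = g * (g⁻¹ * (t * t) * g) := by group
      rw [e0, mul_assoc (t * (g * t * g⁻¹ * t⁻¹) * t⁻¹), e3]
      have m1 := S.conj_J ht.1 hk
      have m2 : g⁻¹ * (t * t) * g ∈ S.J := by simpa using S.conj_J (inv_mem hg.1) h2
      rw [mul_one, inv_mul_cancel, mul_one, S.act_mul (S.J_le_X m1)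
        (mul_mem hg.1 (S.J_le_X m2)), S.act_J m1, S.act_mul hg.1 (S.J_le_X m2), S.act_J m2]
    let D : F → F := fun v => ⟨S.act g v.1 + v.1, by rw [map_add, hgt v.1 v.2, v.2]⟩
    have hD : Function.Injective D := by
      intro a b hab
      have h' : S.act g a.1 + a.1 = S.act g b.1 + b.1 := congrArg Subtype.val hab
      refine Subtype.ext (sub_eq_zero.1 (hfix _ ?_))
      rw [map_sub]
      have h'' : S.act g a.1 - S.act g b.1 = b.1 - a.1 := by
        rw [sub_eq_sub_iff_add_eq_add, h', add_comm]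
      rw [h'', sub_eq_add_neg, sub_eq_add_neg,
        neg_eq_iff_add_eq_zero.2 (S.W_two a.1), neg_eq_iff_add_eq_zero.2 (S.W_two b.1), add_comm]
    obtain ⟨⟨v, hv⟩, hvj⟩ := Finite.surjective_of_injective hD ⟨S.π j, hj.2⟩
    have hvj' : S.act g v + v = S.π j := congrArg Subtype.val hvj
    obtain ⟨i, hi, rfl⟩ := S.π_surj v
    have hiK : i ∈ K := ⟨hi, hv⟩
    have hgiK : g * i * g⁻¹ ∈ K :=
      ⟨S.conj_J hg.1 hi, by rw [← S.act_π hg.1 hi]; exact hgt _ hv⟩
    set ξ := (g * i * g⁻¹ * i)⁻¹ * j with hξ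
    have hm := mul_mem (S.conj_J hg.1 hi) hi
    have hξJ : ξ ∈ S.J := mul_mem (inv_mem hm) hj.1
    have hξc : ∀ l ∈ S.J, ξ * l = l * ξ := by
      rw [← S.π_eq_zero hξJ, hξ, S.π_mul (inv_mem hm) hj.1, S.π_inv hm,
        S.π_mul (S.conj_J hg.1 hi) hi, ← S.act_π hg.1 hi, hvj', S.W_two]
    have hξe : e ξ = 1 := by
      simp only [e]; rw [S.center_fix hξJ hξc ht.1 htU, inv_mul_cancel]
    have hej : e j = e (g * i * g⁻¹) * e i := by
      have h1 : j = g * i * g⁻¹ * (i * ξ) := by rw [hξ]; group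
      conv_lhs => rw [h1]
      rw [emul _ hgiK _ (mul_mem hi hξJ), emul _ hiK _ hξJ, hξe, mul_one]
    have hsq := S.center_sq (eJ i hi) (ec i hiK)
    rcases econj i hiK with h | h <;> rw [hej, h]
    · exact Or.inl hsq
    · right
      rw [mul_assoc, S.z_center (eJ i hi), ← mul_assoc, hsq, one_mul]
  -- at least half of the fixed space
  have h64 := HForm.fix_eq_64 (S.isInv_act ht h2) (S.act_ne_id ht.1 hJ) h32
  let F := {v : S.W // S.act t v = v}
  let Bad := {v : F // v.1 ∉ S.fixJ t}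
  let Good := {v : F // v.1 ∈ S.fixJ t}
  have hrep : ∀ v : F, S.rep v.1 ∈ K := fun v => ⟨S.rep_mem _, by rw [S.π_rep]; exact v.2⟩
  have hbad : ∀ v : Bad, e (S.rep v.1.1) = z := fun v => by
    refine (hez _ (hrep v.1)).resolve_left fun h => v.2 ⟨_, S.rep_mem _, S.π_rep _, ?_⟩
    exact (inv_mul_eq_one.1 h).symm
  have hle : Nat.card Bad ≤ Nat.card Good := by
    by_cases hne : IsEmpty Bad
    · simp
    obtain ⟨v₀⟩ := not_isEmpty_iff.1 hne
    refine Nat.card_le_card_of_injective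
      (fun v => ⟨⟨v.1.1 + v₀.1.1, by rw [map_add, v.1.2, v₀.1.2]⟩, ?_⟩) ?_
    · refine ⟨S.rep v.1.1 * S.rep v₀.1.1, mul_mem (S.rep_mem _) (S.rep_mem _),
        by rw [S.π_mul (S.rep_mem _) (S.rep_mem _), S.π_rep, S.π_rep], ?_⟩
      have h := emul _ (hrep v.1) _ (S.rep_mem v₀.1.1)
      rw [hbad v, hbad v₀, S.z_sq] at h
      exact (inv_mul_eq_one.1 h).symm
    · intro a b hab
      have h' := congrArg (fun x : Good => x.1.1) hab
      exact Subtype.ext (Subtype.ext (add_right_cancel h'))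
  have hsum : Nat.card F = Nat.card Good + Nat.card Bad := by
    have := Nat.card_congr (Equiv.sumCompl (fun v : F => v.1 ∈ S.fixJ t))
    rw [Nat.card_sum] at this
    exact this.symm
  have hgood : Nat.card Good ≤ Nat.card (S.fixJ t) :=
    Nat.card_le_card_of_injective (fun v => ⟨v.1.1, v.2⟩) fun a b hab =>
      Subtype.ext (Subtype.ext (congrArg Subtype.val hab :))
  have hF : Nat.card F = 64 := h64
  omega

/-- An outer involution centralises enough of `J`. -/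
theorem outer_fixJ_card [Finite G] {a : G} (ha : a ∈ S.X) (ha2 : a * a = 1) (hi : ¬ S.Inner a) :
    8 ≤ Nat.card (S.fixJ a) := by
  classical
  have : Finite S.W := S.H.finite
  have ha2J : a * a ∈ S.J := by rw [ha2]; exact one_mem _
  have hainv : a⁻¹ = a := inv_eq_of_mul_eq_one_left ha2
  have hinv : ∀ x : S.W, S.act a (S.act a x) = x := fun x => by rw [← S.act_mul ha ha, S.act_J ha2J]
  let F := {x : S.W // S.act a x = x}
  -- the fixed space has order 16
  have h16 : 16 ≤ Nat.card F := by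
    let Φ : S.W → F := fun x => ⟨x + S.act a x, by rw [map_add, hinv, add_comm]⟩
    let f : S.W → F × F := fun x => (Φ x, Φ (S.act S.c x))
    have hinj : Function.Injective f := by
      intro x y e
      have e1 : x + S.act a x = y + S.act a y := congrArg (fun p : F × F => p.1.1) e
      have e2 : S.act S.c x + S.act a (S.act S.c x) = S.act S.c y + S.act a (S.act S.c y) :=
        congrArg (fun p : F × F => p.2.1) e
      rw [← sub_eq_zero]
      set d := x - y with hd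
      have h1 : S.act a d = d := by
        have h0 : d + S.act a d = 0 := by
          rw [hd, map_sub, show x - y + (S.act a x - S.act a y) =
            (x + S.act a x) - (y + S.act a y) by abel, e1, sub_self]
        have h3 := congrArg (d + ·) h0
        simp only [add_zero] at h3
        rwa [← add_assoc, S.W_two, zero_add] at h3
      have h2 : S.act a (S.act S.c d) = S.act S.c d := by
        have h0 : S.act S.c d + S.act a (S.act S.c d) = 0 := by
          rw [hd]; simp only [map_sub]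
          rw [show S.act S.c x - S.act S.c y + (S.act a (S.act S.c x) - S.act a (S.act S.c y)) =
            (S.act S.c x + S.act a (S.act S.c x)) - (S.act S.c y + S.act a (S.act S.c y)) by abel,
            e2, sub_self]
        have h3 := congrArg (S.act S.c d + ·) h0
        simp only [add_zero] at h3
        rwa [← add_assoc, S.W_two, zero_add] at h3
      rw [S.outer_act ha hi, h1] at h2
      have h3 := S.act_c_fixed h2
      rw [← S.act_cube d, h3, map_zero, map_zero]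
    have h := Nat.card_le_card_of_injective f hinj
    rw [Nat.card_prod, S.card_W] at h
    nlinarith
  obtain ⟨d, hd, hd1, hdf, honly⟩ := S.outer_fix ha hi
  let e : G → G := fun j => j⁻¹ * (a * j * a⁻¹)
  let Good := {v : F // v.1 ∈ S.fixJ a}
  let Bad := {v : F // v.1 ∉ S.fixJ a}
  have hrepK : ∀ v : F, S.π (a * S.rep v.1 * a⁻¹) = S.π (S.rep v.1) := fun v => by
    rw [← S.act_π ha (S.rep_mem _), S.π_rep, v.2]
  have eJ : ∀ v : F, e (S.rep v.1) ∈ S.J := fun v =>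
    mul_mem (inv_mem (S.rep_mem _)) (S.conj_J ha (S.rep_mem _))
  have ec : ∀ v : F, ∀ l ∈ S.J, e (S.rep v.1) * l = l * e (S.rep v.1) := fun v =>
    (S.π_eq (S.rep_mem _) (S.conj_J ha (S.rep_mem _))).1 (hrepK v).symm
  -- the values fixed by `a`
  have efix : ∀ v : F, a * e (S.rep v.1) * a⁻¹ = e (S.rep v.1) := by
    intro v
    have hsq := S.center_sq (eJ v) (ec v)
    calc a * e (S.rep v.1) * a⁻¹ = (a * S.rep v.1 * a⁻¹)⁻¹ * (a * a * S.rep v.1 * (a * a)⁻¹) := by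
          simp only [e]; group
      _ = (e (S.rep v.1))⁻¹ := by rw [ha2]; simp only [e]; group
      _ = e (S.rep v.1) := inv_eq_of_mul_eq_one_left hsq
  have hd' : ∃ u ∈ S.U, e u = d := by
    refine ⟨S.c * d * S.c⁻¹, S.conj_U S.c_mem hd, ?_⟩
    have hm := S.conj_U S.c_mem hd
    have hm2 := S.conj_U ha hm
    show (S.c * d * S.c⁻¹)⁻¹ * (a * (S.c * d * S.c⁻¹) * a⁻¹) = d
    rw [S.U_inv hm]
    have hfixv : a * (S.c * d * S.c⁻¹ * (a * (S.c * d * S.c⁻¹) * a⁻¹)) * a⁻¹ =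
        S.c * d * S.c⁻¹ * (a * (S.c * d * S.c⁻¹) * a⁻¹) := by
      calc _ = (a * (S.c * d * S.c⁻¹) * a⁻¹) * (a * a * (S.c * d * S.c⁻¹) * (a * a)⁻¹) := by group
        _ = (a * (S.c * d * S.c⁻¹) * a⁻¹) * (S.c * d * S.c⁻¹) := by rw [ha2]; group
        _ = _ := S.U_cent _ hm2 _ (S.U_le hm)
    refine (honly _ (mul_mem hm hm2) hfixv).resolve_left fun h1 => ?_
    have h2 : a * (S.c * d * S.c⁻¹) * a⁻¹ = S.c * d * S.c⁻¹ :=
      (eq_inv_of_mul_eq_one_right h1).trans (S.U_inv hm)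
    rcases honly _ hm h2 with e0 | e0
    · exact hd1 (by simpa using e0)
    · exact S.c_moves hd hd1 e0
  obtain ⟨u₀, hu₀, heu₀⟩ := hd'
  -- the values of bad vectors
  have hbad : ∀ v : Bad, e (S.rep v.1.1) = z ∨ e (S.rep v.1.1) = d * z := by
    intro v
    have h1 : e (S.rep v.1.1) ≠ 1 := fun h => v.2 ⟨_, S.rep_mem _, S.π_rep _, (inv_mul_eq_one.1 h).symm⟩
    rcases S.central_cases (eJ v.1) (ec v.1) h1 with h | h | h
    · exact Or.inl h
    · exfalso
      have hd0 := (honly _ h.1 (efix v.1)).resolve_left h.2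
      refine v.2 ⟨S.rep v.1.1 * u₀, mul_mem (S.rep_mem _) (S.U_le hu₀), ?_, ?_⟩
      · rw [S.π_mul (S.rep_mem _) (S.U_le hu₀), S.π_rep,
          (S.π_eq_zero (S.U_le hu₀)).2 (fun k hk => S.U_cent u₀ hu₀ k hk), add_zero]
      · symm
        apply inv_mul_eq_one.1
        calc (S.rep v.1.1 * u₀)⁻¹ * (a * (S.rep v.1.1 * u₀) * a⁻¹)
            = u₀⁻¹ * e (S.rep v.1.1) * (a * u₀ * a⁻¹) := by simp only [e]; group
          _ = e (S.rep v.1.1) * (u₀⁻¹ * (a * u₀ * a⁻¹)) := by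
              rw [← ec v.1 _ (inv_mem (S.U_le hu₀))]; group
          _ = d * d := by rw [hd0]; exact congrArg (d * ·) heu₀
          _ = 1 := S.U_sq d hd
    · refine Or.inr ?_
      have hf : a * (e (S.rep v.1.1) * z) * a⁻¹ = e (S.rep v.1.1) * z := by
        rw [show a * (e (S.rep v.1.1) * z) * a⁻¹ = a * e (S.rep v.1.1) * a⁻¹ * (a * z * a⁻¹) by group,
          efix, show a * z * a⁻¹ = z by rw [S.mem_X.1 ha]; group]
      have := (honly _ h.1 hf).resolve_left h.2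
      rw [← this, mul_assoc, S.z_sq, mul_one]
  have hle : Nat.card Bad ≤ Nat.card Good := by
    by_cases hne : IsEmpty Bad
    · simp
    obtain ⟨v₀⟩ := not_isEmpty_iff.1 hne
    refine Nat.card_le_card_of_injective
      (fun v => ⟨⟨v.1.1 + v₀.1.1, by rw [map_add, v.1.2, v₀.1.2]⟩, ?_⟩) fun p q h =>
        Subtype.ext (Subtype.ext (add_right_cancel (congrArg (fun x : Good => x.1.1) h)))
    have hm := mul_mem (S.rep_mem v.1.1) (S.rep_mem v₀.1.1)
    have hval : e (S.rep v.1.1 * S.rep v₀.1.1) = e (S.rep v.1.1) * e (S.rep v₀.1.1) := by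
      have h := ec v.1 _ (inv_mem (S.rep_mem v₀.1.1))
      calc e (S.rep v.1.1 * S.rep v₀.1.1)
          = ((S.rep v₀.1.1)⁻¹ * e (S.rep v.1.1)) * (a * S.rep v₀.1.1 * a⁻¹) := by
            simp only [e]; group
        _ = (e (S.rep v.1.1) * (S.rep v₀.1.1)⁻¹) * (a * S.rep v₀.1.1 * a⁻¹) := by rw [h]
        _ = _ := by simp only [e]; group
    have hz' : z * d = d * z := S.z_center (S.U_le hd)
    have hdz : d * z * z = d := by rw [mul_assoc, S.z_sq, mul_one]
    have hzdz : z * (d * z) = d := by rw [← mul_assoc, hz', hdz]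
    have hdzdz : d * z * (d * z) = 1 := by
      rw [mul_assoc, hzdz, S.U_sq d hd]
    have hcases : e (S.rep v.1.1 * S.rep v₀.1.1) = 1 ∨ e (S.rep v.1.1 * S.rep v₀.1.1) = d := by
      rcases hbad v with h | h <;> rcases hbad v₀ with h' | h' <;> rw [hval, h, h'] <;>
        simp [S.z_sq, hdz, hzdz, hdzdz]
    rcases hcases with h | h
    · exact ⟨_, hm, by rw [S.π_mul (S.rep_mem _) (S.rep_mem _), S.π_rep, S.π_rep],
        (inv_mul_eq_one.1 h).symm⟩
    · refine ⟨S.rep v.1.1 * S.rep v₀.1.1 * u₀, mul_mem hm (S.U_le hu₀), ?_, ?_⟩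
      · rw [S.π_mul hm (S.U_le hu₀), S.π_mul (S.rep_mem _) (S.rep_mem _), S.π_rep, S.π_rep,
          (S.π_eq_zero (S.U_le hu₀)).2 (fun k hk => S.U_cent u₀ hu₀ k hk), add_zero]
      · symm
        apply inv_mul_eq_one.1
        have hc2 : d * u₀⁻¹ = u₀⁻¹ * d := S.U_cent d hd _ (inv_mem (S.U_le hu₀))
        calc (S.rep v.1.1 * S.rep v₀.1.1 * u₀)⁻¹ *
              (a * (S.rep v.1.1 * S.rep v₀.1.1 * u₀) * a⁻¹)
            = u₀⁻¹ * e (S.rep v.1.1 * S.rep v₀.1.1) * (a * u₀ * a⁻¹) := by simp only [e]; group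
          _ = d * (u₀⁻¹ * (a * u₀ * a⁻¹)) := by rw [h, ← hc2, mul_assoc]
          _ = d * d := congrArg (d * ·) heu₀
          _ = 1 := S.U_sq d hd
  have hsum : Nat.card F = Nat.card Good + Nat.card Bad := by
    have := Nat.card_congr (Equiv.sumCompl (fun v : F => v.1 ∈ S.fixJ a))
    rw [Nat.card_sum] at this
    exact this.symm
  have hgood : Nat.card Good ≤ Nat.card (S.fixJ a) :=
    Nat.card_le_card_of_injective (fun v => ⟨v.1.1, v.2⟩) fun p q h =>
      Subtype.ext (Subtype.ext (congrArg Subtype.val h :))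
  omega

end Cfsg.Agent.Lib.Fi23Local27.Setting
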