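import Cfsg.Agent.Lib.Fi23Local27.Build
import Cfsg.Agent.Lib.Fi23Local27.Cases
import Cfsg.Prelude.Def_Spor_Fi23

/-!
S3233 from the statement of S3232: `result` of S3233 is
`main (fun z hz => S3232.result z hz) …`.

Owner: helper27 (S3233).
-/

set_option autoImplicit false

namespace Cfsg.Agent.Lib.Fi23Local27

universe u v w

theorem main (H : Input3232.{u, v, w}) {G : Type u} [Group G] [Finite G] (z : G) (hz : orderOf z = 2)
    {F : Type v} [Field F] [Fintype F] (hF : Fintype.card F = 3) {K : Type w} [Field K] [Fintype K]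
    (hK : Fintype.card K = 4)
    (V E : Subgroup ↥(Subgroup.centralizer ({z} : Set G)))
    (hVE : Cfsg.IsInternalDirectProduct V E (Cfsg.pCore 2 ↥(Subgroup.centralizer ({z} : Set G))))
    (hV : Nat.card ↥V = 4) (hV2 : ∀ v ∈ V, v ^ 2 = 1)
    (hE : Cfsg.IsExtraspecial 2 ↥E) (hEc : Nat.card ↥E = 2 ^ 9)
    (hCJ : Subgroup.centralizer ((Cfsg.pCore 2 ↥(Subgroup.centralizer ({z} : Set G))) :
      Set ↥(Subgroup.centralizer ({z} : Set G))) ≤ Cfsg.pCore 2 ↥(Subgroup.centralizer ({z} : Set G)))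
    (zc c : ↥(Subgroup.centralizer ({z} : Set G))) (hzc : (zc : G) = z) (hc : orderOf c = 3)
    [hJc : (Cfsg.pCore 2 ↥(Subgroup.centralizer ({z} : Set G)) ⊔ Subgroup.zpowers c).Normal]
    (e : (↥(Subgroup.centralizer ({z} : Set G)) ⧸
      (Cfsg.pCore 2 ↥(Subgroup.centralizer ({z} : Set G)) ⊔ Subgroup.zpowers c)) ≃*
        MulAut (Cfsg.PSp 2 F))
    [hcz : ((Subgroup.zpowers c ⊔ Subgroup.zpowers zc).subgroupOf
      (Subgroup.centralizer ({c} : Set ↥(Subgroup.centralizer ({z} : Set G))))).Normal]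
    (e' : (↥(Subgroup.centralizer ({c} : Set ↥(Subgroup.centralizer ({z} : Set G)))) ⧸
      (Subgroup.zpowers c ⊔ Subgroup.zpowers zc).subgroupOf
        (Subgroup.centralizer ({c} : Set ↥(Subgroup.centralizer ({z} : Set G))))) ≃* Cfsg.PSp 2 F) :
    Subgroup.centralizer ({z} : Set G) ⊔ Cfsg.oddCore G = ⊤ ∨ Cfsg.Spor.IsoFi23 G ∨
      (∃ (W : Subgroup G) (_hW : W.Normal), Nat.card ↥W = 4 ∧ (∀ w ∈ W, w ^ 2 = 1) ∧
        Nonempty ((G ⧸ W) ≃* MulAut (Cfsg.PSU 6 K 2))) := by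
  obtain ⟨S, ⟨Ex⟩, ⟨Tp⟩⟩ := exists_data z hz hF V E hVE hV hV2 hE hEc hCJ zc c hzc hc e e'
  exact S.trichotomy H hF hK Ex Tp

end Cfsg.Agent.Lib.Fi23Local27
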