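import Cfsg.Agent.Lib.Fi23Local27.Key
import Cfsg.Agent.Lib.Cores.Basic
import Cfsg.Agent.Lib.Cores.Pi
import Cfsg.Agent.Lib.FusionP3.GenExtra.Iso
import Cfsg.Prelude.Def_Transfer
import Cfsg.Prelude.Def_TwoFusion
import Cfsg.Prelude.Def_Classical
import Cfsg.Prelude.Def_Spor_Fi22
import Cfsg.Prelude.Def_CaseTheorems

/-!
The quotient `C(x) / ⟨x⟩`, `x` one of `d`, `d z` (`d ∈ U#`), satisfies the hypotheses of S3232; the three
outcomes translated to `C(x)`.

Owner: helper27 (S3233).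
-/

set_option autoImplicit false

open scoped commutatorElement

namespace Cfsg.Agent.Lib.Fi23Local27

universe u v w

/-- The statement of S3232. -/
def Input3232 : Prop :=
  ∀ {G : Type u} [Group G] [Finite G] (z : G) (_hz : orderOf z = 2)
    {F : Type v} [Field F] [Fintype F] (_hF : Fintype.card F = 3) {K : Type w} [Field K] [Fintype K]
    (_hK : Fintype.card K = 4)
    (A E : Subgroup ↥(Subgroup.centralizer ({z} : Set G)))
    (_hAE : Cfsg.IsInternalDirectProduct A E (Cfsg.pCore 2 ↥(Subgroup.centralizer ({z} : Set G))))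
    (_hA : Nat.card ↥A = 2) (_hE : Cfsg.IsExtraspecial 2 ↥E) (_hEc : Nat.card ↥E = 2 ^ 9)
    (zc : ↥(Subgroup.centralizer ({z} : Set G))) (_hzc : (zc : G) = z)
    (_hJ' : ⁅(Cfsg.pCore 2 ↥(Subgroup.centralizer ({z} : Set G))),
      (Cfsg.pCore 2 ↥(Subgroup.centralizer ({z} : Set G)))⁆ = Subgroup.zpowers zc)
    (_hCJ : Subgroup.centralizer ((Cfsg.pCore 2 ↥(Subgroup.centralizer ({z} : Set G))) :
      Set ↥(Subgroup.centralizer ({z} : Set G))) ≤ Cfsg.pCore 2 ↥(Subgroup.centralizer ({z} : Set G)))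
    [_hJn : (Cfsg.pCore 2 ↥(Subgroup.centralizer ({z} : Set G))).Normal]
    (_e : (↥(Subgroup.centralizer ({z} : Set G)) ⧸ Cfsg.pCore 2 ↥(Subgroup.centralizer ({z} : Set G))) ≃*
      MulAut (Cfsg.PSp 2 F)),
    Subgroup.centralizer ({z} : Set G) ⊔ Cfsg.oddCore G = ⊤ ∨
      (∃ z₁ : G, orderOf z₁ = 2 ∧ z₁ ∉ Subgroup.zpowers z ∧
        (∃ h₁ : z₁ ∈ Subgroup.centralizer ({z} : Set G),
          (⟨z₁, h₁⟩ : ↥(Subgroup.centralizer ({z} : Set G))) ∈
            Cfsg.pCore 2 ↥(Subgroup.centralizer ({z} : Set G)) ∧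
          ∀ j ∈ Cfsg.pCore 2 ↥(Subgroup.centralizer ({z} : Set G)), j * ⟨z₁, h₁⟩ = ⟨z₁, h₁⟩ * j) ∧
        (Subgroup.zpowers z₁).Normal ∧
        ∃ (G₀ : Subgroup G) (_hz₁ : z₁ ∈ G₀), G₀.index = 2 ∧
          ∃ _hn : ((Subgroup.zpowers z₁).subgroupOf G₀).Normal,
            Nonempty ((↥G₀ ⧸ (Subgroup.zpowers z₁).subgroupOf G₀) ≃* Cfsg.PSU 6 K 2)) ∨
      Cfsg.Spor.IsoFi22 G

namespace Setting

variable {G : Type u} [Group G] {z : G} (S : Setting z)

/-- an extraspecial part of `J` -/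
structure Extra where
  E : Subgroup G
  le : E ≤ S.J
  extra : Cfsg.IsExtraspecial 2 ↥E
  card : Nat.card E = 2 ^ 9
  meet : ∀ e ∈ E, (∀ k ∈ S.J, e * k = k * e) → e = 1 ∨ e = z

/-- the top factor of `X` -/
structure Top (F : Type v) [Field F] where
  ρ : S.X →* MulAut (Cfsg.PSp 2 F)
  surj : Function.Surjective ρ
  ker : ∀ g, ρ g = 1 ↔ (g : G) ∈ S.J ⊔ Subgroup.zpowers S.c

/-- the translated outcomes of S3232 -/
def Outcome (K : Type w) [Field K] [Fintype K] (x : G) : Prop :=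
  S.CoreSplit x ∨
    (∃ z₁ ∈ S.J, (∀ j ∈ S.J, z₁ * j = j * z₁) ∧ z₁ ≠ 1 ∧ z₁ ≠ x ∧ z₁ ≠ z ∧ z₁ ≠ z * x ∧
      (∀ g, g * x = x * g → g * z₁ * g⁻¹ = z₁ ∨ g * z₁ * g⁻¹ = z₁ * x) ∧
      ∃ G₀ : Subgroup G, G₀ ≤ Subgroup.centralizer ({x} : Set G) ∧
        G₀.relIndex (Subgroup.centralizer ({x} : Set G)) = 2 ∧
        ∃ φ : G₀ →* Cfsg.PSU 6 K 2, Function.Surjective φ ∧
          ∀ y, φ y = 1 ↔ (y : G) ∈ ({1, x, z₁, z₁ * x} : Set G)) ∨
    ∃ _hn : ((Subgroup.zpowers x).subgroupOf (Subgroup.centralizer ({x} : Set G))).Normal,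
      Cfsg.Spor.IsoFi22 (↥(Subgroup.centralizer ({x} : Set G)) ⧸
        (Subgroup.zpowers x).subgroupOf (Subgroup.centralizer ({x} : Set G)))

theorem c_norm_J : Subgroup.zpowers S.c ≤ Subgroup.normalizer (S.J : Set G) := by
  rw [Subgroup.zpowers_le, Subgroup.mem_normalizer_iff]
  intro i
  refine ⟨fun hi => S.conj_J S.c_mem hi, fun hi => ?_⟩
  have := S.conj_J (inv_mem S.c_mem) hi
  simpa [mul_assoc] using this

theorem zpowers_c_cases {q : G} (hq : q ∈ Subgroup.zpowers S.c) :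
    q = 1 ∨ q = S.c ∨ q = S.c⁻¹ := by
  obtain ⟨n, rfl⟩ := Subgroup.mem_zpowers_iff.1 hq
  have h3 : S.c ^ (3 : ℤ) = 1 := by
    rw [show (3 : ℤ) = ((3 : ℕ) : ℤ) from rfl, zpow_natCast, pow_three', S.c_three]
  have e : S.c ^ n = S.c ^ (n % 3) := by
    conv_lhs => rw [← Int.emod_add_mul_ediv n 3, zpow_add, zpow_mul, h3, one_zpow, mul_one]
  rw [e]
  rcases (show n % 3 = 0 ∨ n % 3 = 1 ∨ n % 3 = 2 by omega) with h | h | h <;> rw [h]
  · exact Or.inl (zpow_zero _)
  · exact Or.inr (Or.inl (zpow_one _))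
  · refine Or.inr (Or.inr ?_)
    rw [S.c_inv]; exact zpow_two _

/-- 2-elements of `J⟨c⟩` lie in `J` -/
theorem mem_J_of_two {g : G} (hg : g ∈ S.J ⊔ Subgroup.zpowers S.c) (h2 : ∃ k, g ^ 2 ^ k = 1) :
    g ∈ S.J := by
  rw [← SetLike.mem_coe, Subgroup.coe_mul_of_right_le_normalizer_left _ _ S.c_norm_J] at hg
  obtain ⟨j, hj, q, hq, rfl⟩ := hg
  obtain ⟨k, hk⟩ := h2
  have hqX : q ∈ S.X := Subgroup.zpowers_le.2 S.c_mem hq
  have hpow : ∀ n : ℕ, (j * q) ^ n * (q ^ n)⁻¹ ∈ S.J := by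
    intro n
    induction n with
    | zero => simp [one_mem]
    | succ n ih =>
      have := mul_mem hj (S.conj_J hqX ih)
      rwa [show j * (q * ((j * q) ^ n * (q ^ n)⁻¹) * q⁻¹) = (j * q) ^ (n + 1) * (q ^ (n + 1))⁻¹ by
        rw [pow_succ' (j * q), pow_succ' q]; group] at this
  have h1 := hpow (2 ^ k)
  rw [show (j * q) ^ 2 ^ k = 1 from hk, one_mul, inv_mem_iff] at h1
  refine mul_mem hj ?_
  have hcop : Nat.Coprime (2 ^ k) (orderOf q) := by
    have h3 : orderOf q ∣ 3 := by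
      have : orderOf S.c ∣ 3 := orderOf_dvd_of_pow_eq_one (by rw [pow_three', S.c_three])
      exact dvd_trans (orderOf_dvd_of_mem_zpowers hq) this
    exact Nat.Coprime.of_dvd_right h3 (Nat.Coprime.pow_left k (by norm_num))
  obtain ⟨m, hm⟩ := exists_pow_eq_self_of_coprime hcop
  rw [← hm]
  exact pow_mem h1 m

/-- `X` is `C_X(d)⟨c⟩` -/
theorem exists_coset [Finite G] {d : G} (hd : d ∈ S.U) (hd1 : d ≠ 1) {g : G} (hg : g ∈ S.X) :
    ∃ q ∈ Subgroup.zpowers S.c, g * q ∈ S.X ∧ g * q * d = d * (g * q) := by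
  have hxd : g⁻¹ * d * g ∈ S.U := by simpa using S.conj_U (inv_mem hg) hd
  have hxd1 : g⁻¹ * d * g ≠ 1 := fun e => hd1 (by
    calc d = g * (g⁻¹ * d * g) * g⁻¹ := by group
      _ = 1 := by rw [e]; group)
  obtain ⟨q, hq, hqd⟩ : ∃ q ∈ Subgroup.zpowers S.c, q * d * q⁻¹ = g⁻¹ * d * g := by
    rcases S.U_orbit hd hd1 hxd hxd1 with e | e | e
    · exact ⟨1, one_mem _, by rw [e]; group⟩
    · exact ⟨S.c, Subgroup.mem_zpowers _, e.symm⟩
    · exact ⟨S.c⁻¹, inv_mem (Subgroup.mem_zpowers _), by rw [e, inv_inv]⟩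
  refine ⟨q, hq, mul_mem hg (Subgroup.zpowers_le.2 S.c_mem hq), ?_⟩
  calc g * q * d = g * (q * d * q⁻¹) * q := by group
    _ = d * (g * q) := by rw [hqd]; group

/-- a 2-subgroup of `X` normalised by `C_X(d)` lies in `J` -/
theorem two_le_J [Finite G] {d : G} (hd : d ∈ S.U) (hd1 : d ≠ 1) {N : Subgroup G}
    (hN : IsPGroup 2 N) (hNX : N ≤ S.X)
    (hnorm : ∀ g ∈ S.X, g * d = d * g → ∀ n ∈ N, g * n * g⁻¹ ∈ N) : N ≤ S.J := by
  have hle : N ≤ S.J ⊔ Subgroup.zpowers S.c := by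
    refine S.small N (S.X ⊓ Subgroup.centralizer ({d} : Set G)) (fun n hn => S.mem_X.1 (hNX hn))
      (fun g hg => S.mem_X.1 hg.1)
      (fun g hg => hnorm g hg.1 (Subgroup.mem_centralizer_singleton_iff.1 hg.2)) ?_ ?_
    · intro g hg
      obtain ⟨q, hq, hX, hqd⟩ := S.exists_coset hd hd1 (S.mem_X.2 hg)
      refine ⟨g * q, ⟨hX, Subgroup.mem_centralizer_singleton_iff.2 hqd⟩, ?_⟩
      rw [show (g * q)⁻¹ * g = q⁻¹ by group]
      exact Subgroup.mem_sup_right (inv_mem hq)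
    · intro h5
      have := Fact.mk Nat.prime_two
      obtain ⟨n, hn⟩ := hN.exists_card_eq
      rw [hn] at h5
      exact absurd ((by norm_num : Nat.Prime 5).dvd_of_dvd_pow h5) (by norm_num)
  intro n hn
  obtain ⟨k, hk⟩ := hN ⟨n, hn⟩
  exact S.mem_J_of_two (hle hn) ⟨k, congrArg Subtype.val hk⟩

set_option maxHeartbeats 1000000 in
theorem outcome_of_input [Finite G] (H : Input3232.{u, v, w}) {F : Type v} [Field F] [Fintype F]
    (hF : Fintype.card F = 3) {K : Type w} [Field K] [Fintype K] (hK : Fintype.card K = 4)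
    (Ex : S.Extra) (Tp : S.Top F) {d x : G} (hd : d ∈ S.U) (hd1 : d ≠ 1)
    (hxd : x = d ∨ x = d * z) : S.Outcome K x := by
  classical
  have h2p := Fact.mk Nat.prime_two
  have hdc : ∀ j ∈ S.J, d * j = j * d := fun j hj => S.U_cent d hd j hj
  have hdJ : d ∈ S.J := S.U_le hd
  have hdz : d ≠ z := fun e => S.z_notin (e ▸ hd)
  have hxJ : x ∈ S.J := by rcases hxd with rfl | rfl; exacts [hdJ, mul_mem hdJ S.z_mem]
  have hxc : ∀ j ∈ S.J, x * j = j * x := by
    intro j hj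
    rcases hxd with rfl | rfl
    · exact hdc j hj
    · rw [mul_assoc, S.z_center hj, ← mul_assoc, hdc j hj, mul_assoc]
  have hx2 : x * x = 1 := S.center_sq hxJ hxc
  have hx1 : x ≠ 1 := by
    rcases hxd with rfl | rfl
    · exact hd1
    · exact fun e => hdz (eq_inv_of_mul_eq_one_left e |>.trans S.z_inv)
  have hxz : x ≠ z := by
    rcases hxd with rfl | rfl
    · exact hdz
    · exact fun e => hd1 (mul_eq_right.1 e)
  have hzcomm : ∀ g ∈ S.X, g * x = x * g ↔ g * d = d * g := by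
    intro g hg
    have hgz := S.mem_X.1 hg
    rcases hxd with rfl | rfl
    · exact Iff.rfl
    · constructor
      · intro h
        have : g * d * z = d * g * z := by
          rw [mul_assoc g d z, h, mul_assoc d z g, ← hgz, ← mul_assoc]
        exact mul_right_cancel this
      · intro h
        rw [← mul_assoc, h, mul_assoc d g z, hgz, ← mul_assoc]
  set C := Subgroup.centralizer ({x} : Set G) with hC
  have hmC : ∀ {g}, g ∈ C ↔ g * x = x * g := Subgroup.mem_centralizer_singleton_iff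
  have hJC : S.J ≤ C := fun j hj => hmC.2 (hxc j hj).symm
  let Z : Subgroup C := (Subgroup.zpowers x).subgroupOf C
  have hZmem : ∀ g : C, g ∈ Z ↔ (g : G) = 1 ∨ (g : G) = x := by
    intro g
    rw [Subgroup.mem_subgroupOf, Subgroup.mem_zpowers_iff]
    constructor
    · rintro ⟨n, hn⟩
      rw [← hn]
      rcases Int.even_or_odd n with ⟨m, rfl⟩ | ⟨m, rfl⟩
      · left; rw [← two_mul, zpow_mul, zpow_two, hx2, one_zpow]
      · right; rw [zpow_add_one, zpow_mul, zpow_two, hx2, one_zpow, one_mul]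
    · rintro (h | h)
      · exact ⟨0, by rw [zpow_zero, h]⟩
      · exact ⟨1, by rw [zpow_one, h]⟩
  have hZn : Z.Normal := ⟨fun n hn g => by
    rw [hZmem] at hn ⊢
    rcases hn with h | h
    · left; simp [h]
    · right; push_cast; rw [h, hmC.1 g.2]; group⟩
  let q : C →* C ⧸ Z := QuotientGroup.mk' Z
  have hqeq : ∀ a b : C, q a = q b ↔ (b : G) = a ∨ (b : G) = a * x := by
    intro a b
    show (QuotientGroup.mk a : C ⧸ Z) = QuotientGroup.mk b ↔ _
    rw [QuotientGroup.eq, hZmem]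
    push_cast
    rw [inv_mul_eq_iff_eq_mul, inv_mul_eq_iff_eq_mul, mul_one]
  have hzC : z ∈ C := hJC S.z_mem
  set zq : C ⧸ Z := q ⟨z, hzC⟩ with hzq
  have hq1 : ∀ a : C, q a = 1 ↔ (a : G) = 1 ∨ (a : G) = x := fun a => by
    show (QuotientGroup.mk a : C ⧸ Z) = 1 ↔ _
    rw [QuotientGroup.eq_one_iff, hZmem]
  have hzq2 : orderOf zq = 2 := by
    refine orderOf_eq_prime ?_ fun h => ?_
    · rw [hzq, ← map_pow, hq1, pow_two]; left; push_cast; exact S.z_sq
    · rcases (hq1 _).1 h with e | e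
      · exact S.z_ne e
      · exact hxz e.symm
  -- centraliser of the image of `z`
  have hgz : ∀ g : C, q g * zq = zq * q g → (g : G) ∈ S.X := by
    intro g hg
    rw [hzq, ← map_mul, ← map_mul, hqeq] at hg
    push_cast at hg
    rcases hg with e | e
    · exact S.mem_X.2 e.symm
    -- conjugation carries `z` to `z x`
    have hgx := hmC.1 g.2
    have hzx : (g : G) * z * (g : G)⁻¹ = z * x := by
      have e1 : (g : G) * z = z * g * x := by
        rw [show z * (g : G) = g * z * x from e, mul_assoc, hx2, mul_one]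
      calc (g : G) * z * (g : G)⁻¹ = z * g * x * (g : G)⁻¹ := by rw [e1]
        _ = z * x := by rw [mul_assoc z, hgx]; group
    exfalso
    let N : Subgroup G := S.J.map (MulAut.conj (g : G)).toMonoidHom
    have hkey : ∀ h ∈ S.X, h * d = d * h → (g : G)⁻¹ * h * g ∈ S.X := by
      intro h hh hhd
      have hhx := (hzcomm h hh).2 hhd
      have hhzx : h * (z * x) = z * x * h := by
        rw [← mul_assoc, S.mem_X.1 hh, mul_assoc, hhx, ← mul_assoc]
      rw [S.mem_X]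
      calc (g : G)⁻¹ * h * g * z = (g : G)⁻¹ * (h * ((g : G) * z * (g : G)⁻¹)) * g := by group
        _ = (g : G)⁻¹ * ((g : G) * z * (g : G)⁻¹ * h) * g := by rw [hzx, hhzx]
        _ = z * ((g : G)⁻¹ * h * g) := by group
    have hNX : N ≤ S.X := by
      rintro n ⟨j, hj, rfl⟩
      rw [S.mem_X]
      show (g : G) * j * (g : G)⁻¹ * z = z * ((g : G) * j * (g : G)⁻¹)
      have h1 : (g : G) * j * (g : G)⁻¹ * (z * x) = z * x * ((g : G) * j * (g : G)⁻¹) := by
        rw [← hzx]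
        calc (g : G) * j * (g : G)⁻¹ * ((g : G) * z * (g : G)⁻¹) = (g : G) * (j * z) * (g : G)⁻¹ := by
              group
          _ = (g : G) * (z * j) * (g : G)⁻¹ := by rw [S.J_le j hj]
          _ = _ := by group
      have h2 : (g : G) * j * (g : G)⁻¹ * x = x * ((g : G) * j * (g : G)⁻¹) :=
        hmC.1 (mul_mem (mul_mem g.2 (hJC hj)) (inv_mem g.2))
      rw [← mul_assoc, mul_assoc z x, ← h2, ← mul_assoc] at h1
      exact mul_right_cancel h1
    have hle := S.two_le_J hd hd1 (S.J_pGroup.map _) hNX fun h hh hhd n hn => by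
      obtain ⟨j, hj, rfl⟩ := hn
      refine ⟨(g : G)⁻¹ * h * g * j * ((g : G)⁻¹ * h * g)⁻¹, S.conj_J (hkey h hh hhd) hj, ?_⟩
      show (g : G) * _ * (g : G)⁻¹ = h * ((g : G) * j * (g : G)⁻¹) * h⁻¹
      group
    obtain ⟨j, hj, k, hk, hjk⟩ := S.exists_commutator_J
    have h := S.comm_J _ (hle ⟨j, hj, rfl⟩) _ (hle ⟨k, hk, rfl⟩)
    have e2 : ⁅(MulAut.conj (g : G)).toMonoidHom j, (MulAut.conj (g : G)).toMonoidHom k⁆ = z * x := by
      rw [← map_commutatorElement, hjk]; exact hzx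
    rw [e2] at h
    rcases h with h | h
    · exact hxz ((eq_inv_of_mul_eq_one_right h).trans S.z_inv)
    · exact hx1 (mul_eq_left.1 h)
  -- the group `C_X(d)` maps onto the centraliser
  let Hd : Subgroup G := S.X ⊓ C
  have hHd : ∀ {g}, g ∈ Hd ↔ g ∈ S.X ∧ g * d = d * g := by
    intro g
    refine ⟨fun h => ⟨h.1, (hzcomm g h.1).1 (hmC.1 h.2)⟩, fun h => ⟨h.1, hmC.2 ((hzcomm g h.1).2 h.2)⟩⟩
  let Cz := Subgroup.centralizer ({zq} : Set (C ⧸ Z))
  have hinC : ∀ g : Hd, q ⟨g.1, g.2.2⟩ ∈ Cz := fun g => by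
    rw [Subgroup.mem_centralizer_singleton_iff, hzq, ← map_mul, ← map_mul]
    congr 1
    exact Subtype.ext (S.mem_X.1 g.2.1)
  let π' : Hd →* Cz :=
    { toFun := fun g => ⟨q ⟨g.1, g.2.2⟩, hinC g⟩
      map_one' := Subtype.ext (map_one q)
      map_mul' := fun a b => Subtype.ext (map_mul q ⟨a.1, a.2.2⟩ ⟨b.1, b.2.2⟩) }
  have hπ : ∀ g : Hd, (π' g : C ⧸ Z) = q ⟨g.1, g.2.2⟩ := fun g => rfl
  have hπsurj : Function.Surjective π' := by
    rintro ⟨w, hw⟩
    obtain ⟨g, rfl⟩ := QuotientGroup.mk_surjective w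
    exact ⟨⟨g.1, hgz g (Subgroup.mem_centralizer_singleton_iff.1 hw), g.2⟩, rfl⟩
  have hπker : ∀ g : Hd, π' g = 1 ↔ (g : G) = 1 ∨ (g : G) = x := fun g => by
    rw [Subtype.ext_iff, hπ]; exact hq1 _
  have hJHd : S.J ≤ Hd := fun j hj => ⟨S.J_le_X hj, hJC hj⟩
  let JH : Subgroup Hd := S.J.subgroupOf Hd
  have hJHn : JH.Normal := ⟨fun j hj g => by
    rw [Subgroup.mem_subgroupOf] at hj ⊢
    exact S.conj_J g.2.1 hj⟩
  have hpcore : Cfsg.pCore 2 Cz = JH.map π' := by
    refine le_antisymm ?_ ?_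
    · let P : Subgroup Hd := (Cfsg.pCore 2 Cz).comap π'
      have hk : IsPGroup 2 π'.ker := by
        intro g
        refine ⟨1, Subtype.ext (Subtype.ext ?_)⟩
        show (g.1.1) ^ 2 ^ 1 = 1
        rcases (hπker g.1).1 g.2 with e | e
        · rw [e, one_pow]
        · rw [e, pow_one, pow_two, hx2]
      have hP : IsPGroup 2 P := (Cores.pCore_isPGroup 2).comap_of_ker_isPGroup π' hk
      have hle := S.two_le_J hd hd1 (hP.map Hd.subtype)
        (fun n hn => by obtain ⟨m, -, rfl⟩ := hn; exact m.2.1) fun h hh hhd n hn => by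
        obtain ⟨m, hm, rfl⟩ := hn
        have hhm : h ∈ Hd := hHd.2 ⟨hh, hhd⟩
        exact ⟨⟨h, hhm⟩ * m * ⟨h, hhm⟩⁻¹, (Subgroup.Normal.comap inferInstance π').conj_mem m hm _, rfl⟩
      intro w hw
      obtain ⟨g, rfl⟩ := hπsurj w
      exact ⟨g, Subgroup.mem_subgroupOf.2 (hle ⟨g, hw, rfl⟩), rfl⟩
    · have : (JH.map π').Normal := hJHn.map π' hπsurj
      exact Cores.le_pCore ((S.J_pGroup.comap_subtype : IsPGroup 2 JH).map π')
  -- the two factors
  set d₂ := S.c * d * S.c⁻¹ with hd₂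
  have hd₂U : d₂ ∈ S.U := S.conj_U S.c_mem hd
  have hd₂1 : d₂ ≠ 1 := fun e => hd1 (by simpa [hd₂] using e)
  have hd₂d : d₂ ≠ d := S.c_moves hd hd1
  have hd₂x : d₂ ≠ x := by
    rcases hxd with rfl | rfl
    · exact hd₂d
    · intro e
      refine S.z_notin ?_
      have := mul_mem (inv_mem hd) hd₂U
      rwa [e, inv_mul_cancel_left] at this
  let ιJ : S.J →* Cz := π'.comp (Subgroup.inclusion hJHd)
  let A : Subgroup Cz := Subgroup.zpowers (ιJ ⟨d₂, S.U_le hd₂U⟩)
  let ιE : Ex.E →* Cz := ιJ.comp (Subgroup.inclusion Ex.le)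
  let E' : Subgroup Cz := ιE.range
  have hιJ : ∀ j k : S.J, ιJ j = ιJ k ↔ (k : G) = j ∨ (k : G) = j * x := fun j k => by
    rw [Subtype.ext_iff]; exact hqeq _ _
  have hEinj : Function.Injective ιE := by
    intro e e' h
    rcases (hιJ _ _).1 h with h1 | h1
    · exact Subtype.ext h1.symm
    · exfalso
      have hm : x ∈ Ex.E := by
        have := mul_mem (inv_mem e.2) e'.2
        rwa [show (e : G)⁻¹ * e' = x by rw [show (e' : G) = e * x from h1, inv_mul_cancel_left]] at this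
      rcases Ex.meet x hm hxc with e0 | e0
      · exact hx1 e0
      · exact hxz e0
  have hA : Nat.card A = 2 := by
    rw [Nat.card_zpowers]
    refine orderOf_eq_prime ?_ fun h => ?_
    · rw [← map_pow]
      convert map_one ιJ
      exact Subtype.ext (by push_cast; rw [pow_two]; exact S.U_sq _ hd₂U)
    · rw [← map_one ιJ] at h
      rcases (hιJ _ _).1 h.symm with e | e
      · exact hd₂1 e
      · exact hd₂x (by simpa using e)
  have hmeet : A ⊓ E' = ⊥ := by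
    rw [eq_bot_iff]
    rintro w ⟨hwA, ⟨e, rfl⟩⟩
    rw [Subgroup.mem_bot]
    obtain ⟨n, hn⟩ := Subgroup.mem_zpowers_iff.1 hwA
    rw [← map_zpow] at hn
    have he2 : (e : G) = d₂ ^ n ∨ (e : G) = d₂ ^ n * x := by
      have := (hιJ _ _).1 hn
      simpa using this
    have hec : ∀ k ∈ S.J, (e : G) * k = k * e := by
      intro k hk
      have hc2 : d₂ ^ n * k = k * d₂ ^ n :=
        ((show Commute d₂ k from S.U_cent d₂ hd₂U k hk).zpow_left n).eq
      rcases he2 with h | h <;> rw [h]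
      · exact hc2
      · rw [mul_assoc, hxc k hk, ← mul_assoc, hc2, mul_assoc]
    rcases Ex.meet _ e.2 hec with h | h
    · rw [show e = 1 from Subtype.ext h, map_one]
    · exfalso
      have hdn : d₂ ^ n ∈ S.U := zpow_mem hd₂U n
      have key : ∀ t, t ∈ S.U → z = t → False := fun t ht e =>
        S.z_notin (Eq.subst (motive := fun a => a ∈ S.U) e.symm ht)
      rcases hxd with rfl | rfl
      · rcases he2 with h' | h'
        · exact key _ hdn (h.symm.trans h')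
        · exact key _ (mul_mem hdn hd) (h.symm.trans h')
      · rcases he2 with h' | h'
        · exact key _ hdn (h.symm.trans h')
        · rw [h] at h'
          -- `d₂ ^ n * d = 1`
          have h1 : d₂ ^ n * d = 1 := by
            have := congrArg (· * z) h'
            simp only [mul_assoc, S.z_sq, mul_one] at this
            exact this.symm
          rcases Int.even_or_odd n with ⟨m, rfl⟩ | ⟨m, rfl⟩
          · rw [← two_mul, zpow_mul, zpow_two, S.U_sq _ hd₂U, one_zpow, one_mul] at h1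
            exact hd1 h1
          · rw [zpow_add_one, zpow_mul, zpow_two, S.U_sq _ hd₂U, one_zpow, one_mul] at h1
            exact hd₂d ((eq_inv_of_mul_eq_one_left h1).trans (S.U_inv hd))
  have hAle : A ≤ Cfsg.pCore 2 Cz := by
    rw [hpcore]
    exact Subgroup.zpowers_le.2 ⟨⟨d₂, hJHd (S.U_le hd₂U)⟩, Subgroup.mem_subgroupOf.2 (S.U_le hd₂U), rfl⟩
  have hEle : E' ≤ Cfsg.pCore 2 Cz := by
    rw [hpcore]
    rintro w ⟨e, rfl⟩
    exact ⟨⟨e.1, hJHd (Ex.le e.2)⟩, Subgroup.mem_subgroupOf.2 (Ex.le e.2), rfl⟩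
  have hcomm : ∀ a ∈ A, ∀ b ∈ E', a * b = b * a := by
    intro a ha b hb
    obtain ⟨e, rfl⟩ := hb
    obtain ⟨n, rfl⟩ := Subgroup.mem_zpowers_iff.1 ha
    rw [← map_zpow]
    show ιJ _ * ιJ _ = ιJ _ * ιJ _
    rw [← map_mul, ← map_mul]
    congr 1
    exact Subtype.ext (((show Commute d₂ (e : G) from S.U_cent d₂ hd₂U _ (Ex.le e.2)).zpow_left n).eq)
  have hEcard : Nat.card E' = 2 ^ 9 := by
    rw [← Nat.card_congr (MonoidHom.ofInjective hEinj).toEquiv, Ex.card]
  have hpcard : Nat.card (Cfsg.pCore 2 Cz) = 2 ^ 10 := by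
    have hsurjJ : (JH.map π') = ιJ.range := by
      ext w
      constructor
      · rintro ⟨g, hg, rfl⟩
        exact ⟨⟨g.1, Subgroup.mem_subgroupOf.1 hg⟩, rfl⟩
      · rintro ⟨j, rfl⟩
        exact ⟨⟨j.1, hJHd j.2⟩, Subgroup.mem_subgroupOf.2 j.2, rfl⟩
    rw [hpcore, hsurjJ]
    have hk : Nat.card ιJ.ker = 2 := by
      have e : ιJ.ker = Subgroup.zpowers (⟨x, hxJ⟩ : S.J) := by
        ext j
        rw [MonoidHom.mem_ker, ← map_one ιJ, eq_comm, hιJ]
        constructor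
        · rintro (h | h)
          · rw [show j = 1 from Subtype.ext (by simpa using h)]; exact one_mem _
          · rw [show j = ⟨x, hxJ⟩ from Subtype.ext (by simpa using h)]
            exact Subgroup.mem_zpowers _
        · intro h
          obtain ⟨n, rfl⟩ := Subgroup.mem_zpowers_iff.1 h
          push_cast
          rcases Int.even_or_odd n with ⟨m, rfl⟩ | ⟨m, rfl⟩
          · left; rw [← two_mul, zpow_mul, zpow_two, hx2, one_zpow]
          · right; rw [zpow_add_one, zpow_mul, zpow_two, hx2, one_zpow]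
      rw [e, Nat.card_zpowers, Subgroup.orderOf_mk]
      exact orderOf_eq_prime (by rw [pow_two]; exact hx2) hx1
    have h := Subgroup.card_eq_card_quotient_mul_card_subgroup ιJ.ker
    rw [Nat.card_congr (QuotientGroup.quotientKerEquivRange ιJ).toEquiv, hk, S.J_card] at h
    omega
  have hAE : Cfsg.IsInternalDirectProduct A E' (Cfsg.pCore 2 Cz) := by
    refine ⟨hAle, hEle, hcomm, hmeet, le_antisymm (sup_le hAle hEle) ?_⟩
    let f : A × E' → (Cfsg.pCore 2 Cz : Subgroup Cz) := fun p => ⟨p.1.1 * p.2.1, mul_mem (hAle p.1.2) (hEle p.2.2)⟩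
    have hf : Function.Injective f := by
      rintro ⟨a, b⟩ ⟨a', b'⟩ h
      have h' : a.1 * b.1 = a'.1 * b'.1 := congrArg Subtype.val h
      have hm : a'.1⁻¹ * a.1 ∈ A ⊓ E' := by
        refine Subgroup.mem_inf.2 ⟨A.mul_mem (A.inv_mem a'.2) a.2, ?_⟩
        rw [show a'.1⁻¹ * a.1 = b'.1 * b.1⁻¹ by
          rw [eq_mul_inv_iff_mul_eq, mul_assoc, h', inv_mul_cancel_left]]
        exact E'.mul_mem b'.2 (E'.inv_mem b.2)
      rw [hmeet, Subgroup.mem_bot, inv_mul_eq_one] at hm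
      rw [← hm] at h'
      exact Prod.ext (Subtype.ext hm.symm) (Subtype.ext (mul_left_cancel h'))
    have hsurj := (hf.bijective_of_nat_card_le (by
      rw [Nat.card_prod, hA, hEcard, hpcard]; norm_num)).2
    intro w hw
    obtain ⟨⟨a, b⟩, hab⟩ := hsurj ⟨w, hw⟩
    rw [← show a.1 * b.1 = w from congrArg Subtype.val hab]
    exact mul_mem (Subgroup.mem_sup_left a.2) (Subgroup.mem_sup_right b.2)
  have hE' : Cfsg.IsExtraspecial 2 ↥E' :=
    Cfsg.Agent.Lib.FusionP3.GenExtra.isExtraspecial_congr (MonoidHom.ofInjective hEinj) Ex.extra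
  let zc : Cz := ⟨zq, Subgroup.mem_centralizer_singleton_iff.2 rfl⟩
  have hzc' : ιJ ⟨z, S.z_mem⟩ = zc := rfl
  have hJ' : ⁅Cfsg.pCore 2 Cz, Cfsg.pCore 2 Cz⁆ = Subgroup.zpowers zc := by
    rw [hpcore]
    refine le_antisymm (Subgroup.commutator_le.2 ?_) ?_
    · rintro a ⟨g, hg, rfl⟩ b ⟨h, hh, rfl⟩
      rw [← map_commutatorElement]
      rcases S.comm_J g.1 (Subgroup.mem_subgroupOf.1 hg) h.1 (Subgroup.mem_subgroupOf.1 hh) with e | e
      · rw [show ⁅g, h⁆ = 1 from Subtype.ext e, map_one]; exact one_mem _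
      · rw [show ⁅g, h⁆ = ⟨z, hJHd S.z_mem⟩ from Subtype.ext e]
        exact Subgroup.mem_zpowers _
    · rw [Subgroup.zpowers_le]
      obtain ⟨j, hj, k, hk, hjk⟩ := S.exists_commutator_J
      have e : ⁅π' ⟨j, hJHd hj⟩, π' ⟨k, hJHd hk⟩⁆ = zc := by
        rw [← map_commutatorElement,
          show ⁅(⟨j, hJHd hj⟩ : Hd), ⟨k, hJHd hk⟩⁆ = ⟨z, hJHd S.z_mem⟩ from Subtype.ext hjk]
        rfl
      rw [← e]
      exact Subgroup.commutator_mem_commutator
        ⟨_, Subgroup.mem_subgroupOf.2 hj, rfl⟩ ⟨_, Subgroup.mem_subgroupOf.2 hk, rfl⟩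
  have hCJ : Subgroup.centralizer ((Cfsg.pCore 2 Cz) : Set Cz) ≤ Cfsg.pCore 2 Cz := by
    intro w hw
    rw [hpcore] at hw ⊢
    obtain ⟨g, rfl⟩ := hπsurj w
    refine ⟨g, Subgroup.mem_subgroupOf.2 (S.mem_J_of_act g.2.1 fun p => ?_), rfl⟩
    obtain ⟨j, hj, rfl⟩ := S.π_surj p
    have hc := Subgroup.mem_centralizer_iff.1 hw _
      (⟨⟨j, hJHd hj⟩, Subgroup.mem_subgroupOf.2 hj, rfl⟩ : π' ⟨j, hJHd hj⟩ ∈ JH.map π')
    rw [← map_mul, ← map_mul, Subtype.ext_iff] at hc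
    rcases (hqeq _ _).1 hc with e | e
    · rw [S.act_π g.2.1 hj, show (g : G) * j * (g : G)⁻¹ = j by
        rw [show (g : G) * j = j * g from e]; group]
    · have e' : (g : G) * j * (g : G)⁻¹ = j * x := by
        calc (g : G) * j * (g : G)⁻¹ = j * g * x * (g : G)⁻¹ := by
              rw [show (g : G) * j = j * g * x from e]
          _ = j * x := by rw [mul_assoc j _ x, hmC.1 g.2.2]; group
      rw [S.act_π g.2.1 hj, e', S.π_mul hj hxJ, (S.π_eq_zero hxJ).2 hxc, add_zero]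
  -- the top factor
  let ρ' : Hd →* MulAut (Cfsg.PSp 2 F) := Tp.ρ.comp (Subgroup.inclusion inf_le_left)
  have hρsurj : Function.Surjective ρ' := by
    intro a
    obtain ⟨⟨g, hg⟩, rfl⟩ := Tp.surj a
    obtain ⟨qc, hqc, hX, hqd⟩ := S.exists_coset hd hd1 hg
    refine ⟨⟨g * qc, hHd.2 ⟨hX, hqd⟩⟩, ?_⟩
    have h1 : Tp.ρ (⟨g, hg⟩⁻¹ * ⟨g * qc, hX⟩) = 1 :=
      (Tp.ker _).2 (by push_cast; rw [inv_mul_cancel_left]; exact Subgroup.mem_sup_right hqc)
    rw [map_mul, map_inv, inv_mul_eq_one] at h1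
    exact h1.symm
  have hρker : ∀ g : Hd, ρ' g = 1 ↔ (g : G) ∈ S.J := by
    intro g
    refine ⟨fun h => ?_, fun h => (Tp.ker _).2 (Subgroup.mem_sup_left h)⟩
    have hm := (Tp.ker _).1 h
    rw [← SetLike.mem_coe, Subgroup.coe_mul_of_right_le_normalizer_left _ _ S.c_norm_J] at hm
    obtain ⟨j, hj, qc, hqc, he⟩ := hm
    have he' : (g : G) = j * qc := he.symm
    have hqcX : qc * d = d * qc := by
      have h1 := (hHd.1 g.2).2
      rw [he', mul_assoc, ← mul_assoc d, hdc j hj, mul_assoc] at h1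
      exact mul_left_cancel h1
    have hfix : qc * d * qc⁻¹ = d := mul_inv_eq_iff_eq_mul.2 hqcX
    rcases S.zpowers_c_cases hqc with e | e | e
    · rw [he', e, mul_one]; exact hj
    · exact absurd (by rw [← e]; exact hfix) (S.c_moves hd hd1)
    · refine absurd ?_ (S.c_moves hd hd1)
      rw [e, inv_inv] at hfix
      calc S.c * d * S.c⁻¹ = S.c * (S.c⁻¹ * d * S.c) * S.c⁻¹ := by rw [hfix]
        _ = d := by group
  have hker_le : π'.ker ≤ ρ'.ker := by
    intro g hg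
    rw [MonoidHom.mem_ker, hρker]
    rcases (hπker g).1 hg with e | e <;> rw [e]
    exacts [one_mem _, hxJ]
  let θ : Cz →* MulAut (Cfsg.PSp 2 F) := π'.liftOfSurjective hπsurj ⟨ρ', hker_le⟩
  have hθ : ∀ g, θ (π' g) = ρ' g :=
    π'.liftOfRightInverse_comp_apply _ (Function.rightInverse_surjInv hπsurj) ⟨ρ', hker_le⟩
  have hθsurj : Function.Surjective θ := fun a => by
    obtain ⟨g, rfl⟩ := hρsurj a
    exact ⟨π' g, hθ g⟩
  have hθker : θ.ker = Cfsg.pCore 2 Cz := by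
    rw [hpcore]
    ext w
    obtain ⟨g, rfl⟩ := hπsurj w
    rw [MonoidHom.mem_ker, hθ, hρker]
    refine ⟨fun h => ⟨g, Subgroup.mem_subgroupOf.2 h, rfl⟩, ?_⟩
    rintro ⟨g', hg', he⟩
    rw [← hρker, ← hθ, ← he, hθ, hρker]
    exact Subgroup.mem_subgroupOf.1 hg'
  have hJn : (Cfsg.pCore 2 Cz).Normal := inferInstance
  let e : (Cz ⧸ Cfsg.pCore 2 Cz) ≃* MulAut (Cfsg.PSp 2 F) :=
    (QuotientGroup.quotientMulEquivOfEq hθker.symm).trans
      (QuotientGroup.quotientKerEquivOfSurjective θ hθsurj)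
  -- apply S3232
  rcases @H (C ⧸ Z) _ _ zq hzq2 F _ _ hF K _ _ hK A E' hAE hA hE' hEcard zc rfl hJ' hCJ hJn e with
    h | h | h
  · -- split
    refine Or.inl ?_
    let O₁ : Subgroup C := (Cfsg.oddCore (C ⧸ Z)).comap q
    have hO₁n : O₁.Normal := Subgroup.Normal.comap inferInstance q
    let Z₁ : Subgroup O₁ := Z.subgroupOf O₁
    have hZ₁le : Z ≤ O₁ := fun g hg => by
      show q g ∈ Cfsg.oddCore _
      rw [show q g = 1 from (QuotientGroup.eq_one_iff g).2 hg]; exact one_mem _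
    have hZ₁c : Nat.card Z₁ = 2 := by
      rw [Nat.card_congr (Subgroup.subgroupOfEquivOfLe hZ₁le).toEquiv,
        Nat.card_congr (Subgroup.subgroupOfEquivOfLe
          (Subgroup.zpowers_le.2 (hmC.2 rfl) : Subgroup.zpowers x ≤ C)).toEquiv, Nat.card_zpowers]
      exact orderOf_eq_prime (by rw [pow_two]; exact hx2) hx1
    have hZ₁i : Odd Z₁.index := by
      let f : O₁ →* Cfsg.oddCore (C ⧸ Z) := (q.comp O₁.subtype).codRestrict _ fun a => a.2
      have hker : f.ker = Z₁ := by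
        ext a
        rw [MonoidHom.mem_ker, Subtype.ext_iff, Subgroup.mem_subgroupOf]
        exact QuotientGroup.eq_one_iff a.1
      rw [← hker, Subgroup.index_ker]
      exact Cfsg.Agent.Lib.Cores.oddCore_odd.of_dvd_nat (Subgroup.card_subgroup_dvd_card _)
    have hcop : Nat.Coprime (Nat.card Z₁) Z₁.index := by
      rw [hZ₁c]; exact Nat.coprime_two_left.2 hZ₁i
    obtain ⟨O₂, hO₂⟩ := Subgroup.exists_right_complement'_of_coprime hcop
    have hO₂odd : Odd (Nat.card O₂) := by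
      have h1 := hO₂.card_mul
      have h2 := Z₁.card_mul_index
      rw [← h2] at h1
      rw [Nat.eq_of_mul_eq_mul_left Nat.card_pos h1]; exact hZ₁i
    have hdec : ∀ a : O₁, ∃ o ∈ O₂, (a : G) = o.1.1 ∨ (a : G) = o.1.1 * x := by
      intro a
      obtain ⟨⟨⟨t, ht⟩, ⟨o, ho⟩⟩, hto, -⟩ := hO₂.existsUnique a
      refine ⟨o, ho, ?_⟩
      rw [← hto]
      push_cast
      rcases (hZmem t.1).1 (Subgroup.mem_subgroupOf.1 ht) with e | e <;> rw [e]
      · left; rw [one_mul]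
      · right; exact (hmC.1 o.1.2).symm
    let O : Subgroup G := (O₂.map O₁.subtype).map C.subtype
    have hOmem : ∀ {o}, o ∈ O ↔ ∃ a ∈ O₂, (a : G) = o := by
      intro o
      constructor
      · rintro ⟨b, ⟨a, ha, rfl⟩, rfl⟩; exact ⟨a, ha, rfl⟩
      · rintro ⟨a, ha, rfl⟩; exact ⟨_, ⟨a, ha, rfl⟩, rfl⟩
    have hOodd : Odd (Nat.card O) := by
      rw [Subgroup.card_map_of_injective C.subtype_injective,
        Subgroup.card_map_of_injective O₁.subtype_injective]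
      exact hO₂odd
    have hOo : ∀ o ∈ O, Odd (orderOf o) := fun o ho =>
      hOodd.of_dvd_nat (Subgroup.orderOf_dvd_natCard _ ho)
    have hOC : ∀ o ∈ O, o * x = x * o := fun o ho => by
      obtain ⟨a, -, rfl⟩ := hOmem.1 ho; exact hmC.1 a.1.2
    have hmemO : ∀ o : C, o ∈ O₁ → Odd (orderOf (o : G)) → (o : G) ∈ O := by
      intro o ho hodd
      obtain ⟨a, ha, h1 | h1⟩ := hdec ⟨o, ho⟩
      · exact hOmem.2 ⟨a, ha, h1.symm⟩
      · exfalso
        apply hx1
        have hao : Odd (orderOf a.1.1) := hOo _ (hOmem.2 ⟨a, ha, rfl⟩)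
        have hcm : Commute a.1.1 x := hmC.1 a.1.2
        have hn := pow_orderOf_eq_one (o : G)
        set n := orderOf (o : G) * orderOf a.1.1
        have h2 : (a.1.1 * x) ^ n = 1 := by
          rw [← h1, pow_mul, hn, one_pow]
        rw [hcm.mul_pow, show a.1.1 ^ n = 1 from orderOf_dvd_iff_pow_eq_one.1 (dvd_mul_left _ _),
          one_mul] at h2
        obtain ⟨m, hm⟩ := hodd.mul hao
        rw [show n = 2 * m + 1 from hm, pow_succ, pow_mul, pow_two, hx2, one_pow, one_mul] at h2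
        exact h2
    have hOnorm : ∀ g, g * x = x * g → ∀ o ∈ O, g * o * g⁻¹ ∈ O := by
      intro g hg o ho
      have hodd := hOo o ho
      obtain ⟨a, -, rfl⟩ := hOmem.1 ho
      have hm := hO₁n.conj_mem a.1 a.2 ⟨g, hmC.2 hg⟩
      refine hmemO _ hm ?_
      push_cast
      rw [show g * a.1.1 * g⁻¹ = MulAut.conj g a.1.1 from rfl, MulEquiv.orderOf_eq]
      exact hodd
    -- no nontrivial fixed points
    have hfix : ∀ o ∈ O, o ∈ S.X → o = 1 := by
      intro o ho hoX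
      refine S.odd_centralising hoX (hOo o ho) fun j hj => ?_
      have h1 : o * (j * o⁻¹ * j⁻¹) ∈ O :=
        mul_mem ho (hOnorm j (hxc j hj).symm _ (inv_mem ho))
      have h2 : o * j * o⁻¹ * j⁻¹ ∈ S.J := mul_mem (S.conj_J hoX hj) (inv_mem hj)
      rw [show o * (j * o⁻¹ * j⁻¹) = o * j * o⁻¹ * j⁻¹ by group] at h1
      have hd0 : orderOf (o * j * o⁻¹ * j⁻¹) ∣ 2 ^ 11 := by
        rw [← S.J_card]; exact Subgroup.orderOf_dvd_natCard _ h2
      have := orderOf_eq_one_iff.1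
        ((Nat.Coprime.pow_right 11 (Nat.coprime_two_right.2 (hOo _ h1))).eq_one_of_dvd hd0)
      exact mul_inv_eq_one.1 this
    refine ⟨O, hOodd, fun o ho => ?_, hOnorm, hOC, fun g hg => ?_⟩
    · -- inversion
      let f : O → O := fun a => ⟨a.1⁻¹ * (z * a.1 * z), mul_mem (inv_mem a.2) (by
        simpa [S.z_inv] using hOnorm z (hxc z S.z_mem).symm a.1 a.2)⟩
      have hf : Function.Injective f := by
        intro a b h
        have h' : a.1⁻¹ * (z * a.1 * z) = b.1⁻¹ * (z * b.1 * z) := congrArg Subtype.val h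
        have hm : b.1 * a.1⁻¹ ∈ S.X := by
          rw [S.mem_X]
          have h2 : b.1 * a.1⁻¹ * (z * a.1 * z) = z * b.1 * z := by rw [mul_assoc, h']; group
          calc b.1 * a.1⁻¹ * z = b.1 * a.1⁻¹ * (z * a.1 * z) * (z⁻¹ * a.1⁻¹) := by group
            _ = z * b.1 * z * (z⁻¹ * a.1⁻¹) := by rw [h2]
            _ = z * (b.1 * a.1⁻¹) := by group
        have := hfix _ (mul_mem b.2 (inv_mem a.2)) hm
        exact Subtype.ext (mul_inv_eq_one.1 this).symm
      obtain ⟨a, ha⟩ := Finite.surjective_of_injective hf ⟨o, ho⟩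
      have ha' : a.1⁻¹ * (z * a.1 * z) = o := congrArg Subtype.val ha
      rw [← ha']
      calc z * (a.1⁻¹ * (z * a.1 * z)) * z = z * a.1⁻¹ * z * a.1 * (z * z) := by group
        _ = z⁻¹ * a.1⁻¹ * z⁻¹ * a.1 := by rw [S.z_sq, mul_one, S.z_inv]
        _ = (a.1⁻¹ * (z * a.1 * z))⁻¹ := by group
    · have hq : q ⟨g, hmC.2 hg⟩ ∈
          Subgroup.centralizer ({zq} : Set (C ⧸ Z)) ⊔ Cfsg.oddCore (C ⧸ Z) := by rw [h]; trivial
      have hn : (Cfsg.oddCore (C ⧸ Z)).Normal := inferInstance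
      rw [Subgroup.mem_sup_of_normal_right] at hq
      obtain ⟨w, hw, o, ho, hwo⟩ := hq
      obtain ⟨k, hk⟩ := hπsurj ⟨w, hw⟩
      have hk' : q ⟨k.1, k.2.2⟩ = w := congrArg Subtype.val hk
      obtain ⟨o', rfl⟩ := QuotientGroup.mk_surjective o
      obtain ⟨a, ha, h1⟩ := hdec ⟨o', ho⟩
      have hge : q ⟨g, hmC.2 hg⟩ = q (⟨k.1, k.2.2⟩ * o') := by
        rw [map_mul, hk']; exact hwo.symm
      have hcases : g = k.1 * a.1.1 ∨ g = k.1 * x * a.1.1 := by
        have hax : a.1.1 * x = x * a.1.1 := hmC.1 a.1.2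
        have hg' := (hqeq _ _).1 hge.symm
        push_cast at hg'
        rcases hg' with e | e <;> rcases h1 with e1 | e1 <;> rw [e1] at e
        · exact Or.inl e
        · right; rw [e, hax]; group
        · right; rw [e, mul_assoc, hax]; group
        · left; rw [e, mul_assoc k.1 (a.1.1 * x) x, mul_assoc _ x x, hx2, mul_one]
      rcases hcases with e | e
      · exact ⟨k.1, k.2.1, hmC.1 k.2.2, a.1.1, hOmem.2 ⟨a, ha, rfl⟩, e⟩
      · exact ⟨k.1 * x, mul_mem k.2.1 (S.J_le_X hxJ), by rw [hmC.1 k.2.2, mul_assoc x, hmC.1 k.2.2],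
          a.1.1, hOmem.2 ⟨a, ha, rfl⟩, e⟩
  · -- index two
    refine Or.inr (Or.inl ?_)
    obtain ⟨w₁, hw2, hwz, ⟨hwC, hwp, hwc⟩, hwn, G₁, hwG, hG₁, hn₁, ⟨eφ⟩⟩ := h
    have hwp' := hwp
    rw [hpcore] at hwp'
    obtain ⟨g₁, hg₁, hg₁e⟩ := hwp'
    have hg₁J : (g₁ : G) ∈ S.J := Subgroup.mem_subgroupOf.1 hg₁
    have hq₁ : q ⟨g₁.1, g₁.2.2⟩ = w₁ := congrArg Subtype.val hg₁e
    have hcen : ∀ j ∈ S.J, (g₁ : G) * j = j * g₁ := by
      intro j hj
      have hc := hwc (π' ⟨j, hJHd hj⟩) (by rw [hpcore]; exact ⟨_, Subgroup.mem_subgroupOf.2 hj, rfl⟩)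
      rw [← hg₁e, ← map_mul, ← map_mul, Subtype.ext_iff] at hc
      rcases (hqeq _ _).1 hc with e | e
      · exact e
      · exfalso
        have hcm : ⁅(g₁ : G), j⁆ = x := by
          rw [commutatorElement_def, show (g₁ : G) * j = j * g₁ * x from e,
            mul_assoc j _ x, hmC.1 g₁.2.2, show j * (x * (g₁ : G)) * (g₁ : G)⁻¹ * j⁻¹ = j * x * j⁻¹ by group,
            ← hxc j hj]
          group
        rcases S.comm_J _ hg₁J j hj with e' | e' <;> rw [hcm] at e'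
        exacts [hx1 e', hxz e']
    have hw1 : w₁ ≠ 1 := fun e => by simp [e] at hw2
    have hne : ∀ t : G, ∀ ht : t ∈ C, (q ⟨t, ht⟩ = 1 ∨ q ⟨t, ht⟩ = zq) → (g₁ : G) ≠ t := by
      intro t ht h' e
      subst e
      rw [hq₁] at h'
      rcases h' with e' | e'
      · exact hw1 e'
      · exact hwz (e' ▸ Subgroup.mem_zpowers zq)
    refine ⟨g₁.1, hg₁J, hcen, hne 1 (one_mem C) (Or.inl (map_one q)), hne x (hmC.2 rfl) (Or.inl ((hq1 _).2 (Or.inr rfl))),
      hne z hzC (Or.inr rfl),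
      hne (z * x) (mul_mem hzC (hmC.2 rfl))
        (Or.inr ((hqeq _ _).2 (Or.inr (by show z = z * x * x; rw [mul_assoc, hx2, mul_one])))),
      fun g hg => ?_, ?_⟩
    · have hm := hwn.conj_mem w₁ (Subgroup.mem_zpowers _) (q ⟨g, hmC.2 hg⟩)
      obtain ⟨n, hn⟩ := Subgroup.mem_zpowers_iff.1 hm
      have hw₁2 : w₁ * w₁ = 1 := by rw [← pow_two, ← hw2]; exact pow_orderOf_eq_one w₁
      rcases Int.even_or_odd n with ⟨m, rfl⟩ | ⟨m, rfl⟩
      · exfalso
        rw [← two_mul, zpow_mul, zpow_two, hw₁2, one_zpow] at hn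
        exact hw1 (by simpa using hn.symm)
      · rw [zpow_add_one, zpow_mul, zpow_two, hw₁2, one_zpow, one_mul, ← hq₁, ← map_inv, ← map_mul,
          ← map_mul, hqeq] at hn
        exact hn
    · let G₀ : Subgroup G := (G₁.comap q).map C.subtype
      have hG₀ : G₀ ≤ C := Subgroup.map_subtype_le _
      have hsub : G₀.subgroupOf C = G₁.comap q :=
        Subgroup.comap_map_eq_self_of_injective C.subtype_injective _
      refine ⟨G₀, hG₀, ?_, ?_⟩
      · rw [Subgroup.relIndex, hsub, Subgroup.index_comap_of_surjective _ (QuotientGroup.mk'_surjective Z)]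
        exact hG₁
      · have hmem : ∀ y : G₀, q ⟨y.1, hG₀ y.2⟩ ∈ G₁ := fun y => by
          obtain ⟨b, hb, hbe⟩ := y.2
          rw [show (⟨y.1, hG₀ y.2⟩ : C) = b from Subtype.ext hbe.symm]
          exact hb
        let f : G₀ →* G₁ :=
          { toFun := fun y => ⟨q ⟨y.1, hG₀ y.2⟩, hmem y⟩
            map_one' := Subtype.ext (map_one q)
            map_mul' := fun a b => Subtype.ext (map_mul q ⟨a.1, hG₀ a.2⟩ ⟨b.1, hG₀ b.2⟩) }
        have hfs : Function.Surjective f := by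
          rintro ⟨w, hw⟩
          obtain ⟨b, rfl⟩ := QuotientGroup.mk_surjective w
          exact ⟨⟨b.1, ⟨b, hw, rfl⟩⟩, rfl⟩
        refine ⟨eφ.toMonoidHom.comp ((QuotientGroup.mk' _).comp f), ?_, fun y => ?_⟩
        · exact eφ.surjective.comp ((QuotientGroup.mk'_surjective _).comp hfs)
        · rw [MonoidHom.comp_apply, MonoidHom.comp_apply]
          rw [show eφ.toMonoidHom (QuotientGroup.mk' _ (f y)) = eφ (QuotientGroup.mk' _ (f y)) from rfl,
            EmbeddingLike.map_eq_one_iff, QuotientGroup.mk'_apply, QuotientGroup.eq_one_iff,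
            Subgroup.mem_subgroupOf]
          show q ⟨y.1, hG₀ y.2⟩ ∈ Subgroup.zpowers w₁ ↔ _
          have hw₁2 : w₁ * w₁ = 1 := by rw [← pow_two, ← hw2]; exact pow_orderOf_eq_one w₁
          simp only [Set.mem_insert_iff, Set.mem_singleton_iff]
          constructor
          · intro hm
            obtain ⟨n, hn⟩ := Subgroup.mem_zpowers_iff.1 hm
            rcases Int.even_or_odd n with ⟨m, rfl⟩ | ⟨m, rfl⟩
            · rw [← two_mul, zpow_mul, zpow_two, hw₁2, one_zpow, eq_comm, hq1] at hn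
              tauto
            · rw [zpow_add_one, zpow_mul, zpow_two, hw₁2, one_zpow, one_mul, ← hq₁, hqeq] at hn
              tauto
          · intro hm
            rcases hm with e' | e' | e' | e'
            · rw [(hq1 _).2 (Or.inl e')]; exact one_mem _
            · rw [(hq1 _).2 (Or.inr e')]; exact one_mem _
            · rw [← (hqeq ⟨g₁.1, g₁.2.2⟩ ⟨y.1, hG₀ y.2⟩).2 (Or.inl e'), hq₁]
              exact Subgroup.mem_zpowers _
            · rw [← (hqeq ⟨g₁.1, g₁.2.2⟩ ⟨y.1, hG₀ y.2⟩).2 (Or.inr e'), hq₁]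
              exact Subgroup.mem_zpowers _
  · exact Or.inr (Or.inr ⟨hZn, h⟩)

end Setting

end Cfsg.Agent.Lib.Fi23Local27
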