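import Mathlib
import Cfsg.Agent.Lib.Fi23Local27.Invol

/-!
The centraliser `X = C(z)` with `O₂(X) = J = 2² × 2^{1+8}`, `U = [Z(J), c]`: the data used in the proof
of S3233, its action on the hermitian space `J/Z(J)` and the realisation of all isometries.

Owner: helper27 (S3233).
-/

set_option autoImplicit false

open scoped commutatorElement

namespace Cfsg.Agent.Lib.Fi23Local27

variable {G : Type*} [Group G]

/-- The local data at `z`. -/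
structure Setting (z : G) where
  J : Subgroup G
  U : Subgroup G
  c : G
  z_ne : z ≠ 1
  z_sq : z * z = 1
  z_mem : z ∈ J
  J_le : ∀ j ∈ J, j * z = z * j
  J_card : Nat.card J = 2 ^ 11
  J_norm : ∀ g, g * z = z * g → ∀ j ∈ J, g * j * g⁻¹ ∈ J
  J_cent : ∀ g, g * z = z * g → (∀ j ∈ J, g * j = j * g) → g ∈ J
  comm_J : ∀ j ∈ J, ∀ k ∈ J, ⁅j, k⁆ = 1 ∨ ⁅j, k⁆ = z
  U_le : U ≤ J
  U_card : Nat.card U = 4
  U_sq : ∀ u ∈ U, u * u = 1
  U_norm : ∀ g, g * z = z * g → ∀ u ∈ U, g * u * g⁻¹ ∈ U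
  U_cent : ∀ u ∈ U, ∀ j ∈ J, u * j = j * u
  z_notin : z ∉ U
  center_J : ∀ j ∈ J, (∀ k ∈ J, j * k = k * j) → j ∈ U ∨ j * z ∈ U
  c_comm : c * z = z * c
  c_ne : c ≠ 1
  c_three : c * c * c = 1
  c_fix : ∀ j ∈ J, c * j * c⁻¹ = j → j = 1 ∨ j = z
  conj_c : ∀ g, g * z = z * g → g * c * g⁻¹ * c⁻¹ ∈ J ∨ g * c * g⁻¹ * c ∈ J
  flip : ∃ h, h * z = z * h ∧ h * c * h⁻¹ = c⁻¹
  card_X : Nat.card (Subgroup.centralizer ({z} : Set G)) = 3 * 2 ^ 11 * 51840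
  small : ∀ N L : Subgroup G, (∀ n ∈ N, n * z = z * n) → (∀ g ∈ L, g * z = z * g) →
    (∀ g ∈ L, ∀ n ∈ N, g * n * g⁻¹ ∈ N) →
    (∀ g, g * z = z * g → ∃ l ∈ L, l⁻¹ * g ∈ J ⊔ Subgroup.zpowers c) →
    ¬ 5 ∣ Nat.card N → N ≤ J ⊔ Subgroup.zpowers c

namespace Setting

variable {z : G} (S : Setting z)

/-- the centraliser of the involution -/
def X (_S : Setting z) : Subgroup G := Subgroup.centralizer ({z} : Set G)

theorem mem_X {g : G} : g ∈ S.X ↔ g * z = z * g := Subgroup.mem_centralizer_singleton_iff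

theorem J_le_X : S.J ≤ S.X := fun j hj => S.mem_X.2 (S.J_le j hj)

theorem c_mem : S.c ∈ S.X := S.mem_X.2 S.c_comm

theorem conj_J {g j : G} (hg : g ∈ S.X) (hj : j ∈ S.J) : g * j * g⁻¹ ∈ S.J :=
  S.J_norm g (S.mem_X.1 hg) j hj

theorem conj_U {g u : G} (hg : g ∈ S.X) (hu : u ∈ S.U) : g * u * g⁻¹ ∈ S.U :=
  S.U_norm g (S.mem_X.1 hg) u hu

theorem c_inv : S.c⁻¹ = S.c * S.c := inv_eq_of_mul_eq_one_left (by rw [← S.c_three])

theorem U_inv {u : G} (hu : u ∈ S.U) : u⁻¹ = u := inv_eq_of_mul_eq_one_left (S.U_sq u hu)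

theorem c_notin : S.c ∉ S.J := fun h => by
  rcases S.c_fix S.c h (by group) with h1 | h1
  · exact S.c_ne h1
  · have h3 := S.c_three
    rw [h1, S.z_sq, one_mul] at h3
    exact S.z_ne h3

theorem cc_conj (x : G) : S.c * (S.c * x * S.c⁻¹) * S.c⁻¹ = S.c⁻¹ * x * S.c := by
  rw [show S.c * (S.c * x * S.c⁻¹) * S.c⁻¹ = S.c * S.c * x * (S.c * S.c)⁻¹ by group, ← S.c_inv,
    inv_inv]

theorem cc_conj' (x : G) : S.c⁻¹ * (S.c⁻¹ * x * S.c) * S.c = S.c * x * S.c⁻¹ := by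
  rw [← S.cc_conj x]; group

theorem z_center {j : G} (hj : j ∈ S.J) : z * j = j * z := (S.J_le j hj).symm

theorem c_moves {u : G} (hu : u ∈ S.U) (h1 : u ≠ 1) : S.c * u * S.c⁻¹ ≠ u := fun h => by
  rcases S.c_fix u (S.U_le hu) h with e | e
  · exact h1 e
  · exact S.z_notin (e ▸ hu)

theorem U_cases [Finite G] {a b : G} (ha : a ∈ S.U) (hb : b ∈ S.U) (ha1 : a ≠ 1) (hb1 : b ≠ 1)
    (hab : a ≠ b) {u : G} (hu : u ∈ S.U) : u = 1 ∨ u = a ∨ u = b ∨ u = a * b := by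
  classical
  have := Fintype.ofFinite G
  by_contra h
  push Not at h
  obtain ⟨h1, h2, h3, h4⟩ := h
  have hab1 : a * b ≠ 1 := fun e => hab (by
    rw [← S.U_inv hb]; exact eq_inv_of_mul_eq_one_left e)
  have hsub : ({1, a, b, a * b, u} : Finset G) ⊆ Finset.univ.filter (· ∈ S.U) := by
    intro x hx
    simp only [Finset.mem_insert, Finset.mem_singleton] at hx
    rw [Finset.mem_filter]
    refine ⟨Finset.mem_univ _, ?_⟩
    rcases hx with rfl | rfl | rfl | rfl | rfl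
    exacts [one_mem _, ha, hb, mul_mem ha hb, hu]
  have hc := Finset.card_le_card hsub
  have h4' := S.U_card
  rw [Nat.card_eq_fintype_card, Fintype.card_subtype] at h4'
  rw [h4'] at hc
  have h5 : ({1, a, b, a * b, u} : Finset G).card = 5 := by
    have e1 : a * b ≠ a := fun h => hb1 (mul_eq_left.1 h)
    have e2 : a * b ≠ b := fun h => ha1 (mul_eq_right.1 h)
    simp [ha1.symm, hb1.symm, hab1.symm, hab, h1.symm, h2.symm, h3.symm, h4.symm, e1.symm, e2.symm]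
  omega

theorem exists_U : ∃ d ∈ S.U, d ≠ 1 := by
  have hne : S.U ≠ ⊥ := fun h => by simpa [h] using S.U_card
  exact S.U.bot_or_exists_ne_one.resolve_left hne

theorem U_orbit [Finite G] {d u : G} (hd : d ∈ S.U) (hd1 : d ≠ 1) (hu : u ∈ S.U) (hu1 : u ≠ 1) :
    u = d ∨ u = S.c * d * S.c⁻¹ ∨ u = S.c⁻¹ * d * S.c := by
  have h1 : S.c * d * S.c⁻¹ ≠ 1 := fun h => hd1 (by simpa using h)
  have hm1 : S.c * d * S.c⁻¹ ∈ S.U := S.conj_U S.c_mem hd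
  have hm2 : S.c⁻¹ * d * S.c ∈ S.U := by simpa using S.conj_U (inv_mem S.c_mem) hd
  have h2 : S.c⁻¹ * d * S.c ≠ d := fun h => S.c_moves hd hd1 (by
    conv_lhs => rw [← h]
    group)
  have h3 : S.c⁻¹ * d * S.c ≠ S.c * d * S.c⁻¹ := fun h => h2 (by
    rw [← S.cc_conj, ← h]; group)
  rcases S.U_cases hd hm1 hd1 h1 (S.c_moves hd hd1).symm hu with h | h | h | h
  · exact absurd h hu1
  · exact Or.inl h
  · exact Or.inr (Or.inl h)
  · rcases S.U_cases hd hm1 hd1 h1 (S.c_moves hd hd1).symm hm2 with e | e | e | e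
    · refine absurd ?_ hd1
      calc d = S.c * (S.c⁻¹ * d * S.c) * S.c⁻¹ := by group
        _ = 1 := by rw [e]; group
    · exact absurd e h2
    · exact absurd e h3
    · exact Or.inr (Or.inr (h.trans e.symm))

theorem center_fix {j : G} (hj : j ∈ S.J) (hc : ∀ k ∈ S.J, j * k = k * j) {g : G} (hg : g ∈ S.X)
    (hU : ∀ u ∈ S.U, g * u * g⁻¹ = u) : g * j * g⁻¹ = j := by
  rcases S.center_J j hj hc with h | h
  · exact hU j h
  · have h' := hU _ h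
    rw [show g * (j * z) * g⁻¹ = g * j * g⁻¹ * (g * z * g⁻¹) by group,
      show g * z * g⁻¹ = z by rw [S.mem_X.1 hg]; group] at h'
    exact mul_right_cancel h'

/-! ### Inner and outer elements -/

/-- the elements centralising `c` modulo `J` -/
def Inner (g : G) : Prop := g ∈ S.X ∧ g * S.c * g⁻¹ * S.c⁻¹ ∈ S.J

theorem inner_one : S.Inner 1 := ⟨one_mem _, by simp [one_mem]⟩

theorem Inner.mul {g h : G} (hg : S.Inner g) (hh : S.Inner h) : S.Inner (g * h) := by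
  refine ⟨mul_mem hg.1 hh.1, ?_⟩
  have := mul_mem (S.conj_J hg.1 hh.2) hg.2
  rwa [show g * (h * S.c * h⁻¹ * S.c⁻¹) * g⁻¹ * (g * S.c * g⁻¹ * S.c⁻¹) =
    g * h * S.c * (g * h)⁻¹ * S.c⁻¹ by group] at this

theorem Inner.inv {g : G} (hg : S.Inner g) : S.Inner g⁻¹ := by
  refine ⟨inv_mem hg.1, ?_⟩
  have := inv_mem (S.conj_J (inv_mem hg.1) hg.2)
  rwa [show (g⁻¹ * (g * S.c * g⁻¹ * S.c⁻¹) * g⁻¹⁻¹)⁻¹ = g⁻¹ * S.c * g⁻¹⁻¹ * S.c⁻¹ by group]
    at this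

/-- the inner elements as a subgroup -/
def X0 : Subgroup G where
  carrier := {g | S.Inner g}
  mul_mem' := Inner.mul S
  one_mem' := S.inner_one
  inv_mem' := Inner.inv S

theorem mem_X0 {g : G} : g ∈ S.X0 ↔ S.Inner g := Iff.rfl

theorem X0_le : S.X0 ≤ S.X := fun _ h => h.1

theorem inner_J {j : G} (hj : j ∈ S.J) : S.Inner j := by
  refine ⟨S.J_le_X hj, ?_⟩
  have := mul_mem hj (S.conj_J S.c_mem (inv_mem hj))
  rwa [show j * (S.c * j⁻¹ * S.c⁻¹) = j * S.c * j⁻¹ * S.c⁻¹ by group] at this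

theorem inner_c : S.Inner S.c := ⟨S.c_mem, by simp [one_mem]⟩

theorem outer_spec {g : G} (hg : g ∈ S.X) (hi : ¬ S.Inner g) : g * S.c * g⁻¹ * S.c ∈ S.J :=
  (S.conj_c g (S.mem_X.1 hg)).resolve_left fun h => hi ⟨hg, h⟩

theorem not_inner_flip {h : G} (hh : h * S.c * h⁻¹ = S.c⁻¹) : ¬ S.Inner h := fun hi => by
  have := hi.2
  rw [hh, ← mul_inv_rev, ← S.c_inv, inv_inv] at this
  exact S.c_notin this

theorem outer_mul {g h : G} (hg : g ∈ S.X) (hgi : ¬ S.Inner g) (hh : h ∈ S.X) (hhi : ¬ S.Inner h) :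
    S.Inner (g * h) := by
  refine ⟨mul_mem hg hh, ?_⟩
  have h1 := S.conj_J hg (S.outer_spec hh hhi)
  have h2 := S.conj_J S.c_mem (inv_mem (S.outer_spec hg hgi))
  have h3 := mul_mem h1 h2
  rwa [show g * (h * S.c * h⁻¹ * S.c) * g⁻¹ * (S.c * (g * S.c * g⁻¹ * S.c)⁻¹ * S.c⁻¹) =
    g * h * S.c * (g * h)⁻¹ * S.c⁻¹ by group] at h3

theorem card_X0 [Finite G] : Nat.card S.X0 = 2 ^ 11 * 77760 := by
  obtain ⟨h, hz, hh⟩ := S.flip
  have hhX : h ∈ S.X := S.mem_X.2 hz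
  have hidx : (S.X0.subgroupOf S.X).index = 2 := by
    refine Subgroup.index_eq_two_iff.2 ⟨⟨h, hhX⟩, fun b => ?_⟩
    simp only [Subgroup.mem_subgroupOf, Subgroup.coe_mul, mem_X0]
    by_cases hb : S.Inner b.1
    · refine Or.inr ⟨hb, fun hbh => S.not_inner_flip hh ?_⟩
      have := (Inner.inv S hb).mul S hbh
      rwa [inv_mul_cancel_left] at this
    · exact Or.inl ⟨S.outer_mul b.2 hb hhX (S.not_inner_flip hh), hb⟩
  have h1 := (S.X0.subgroupOf S.X).card_mul_index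
  rw [hidx, Nat.card_congr (Subgroup.subgroupOfEquivOfLe S.X0_le).toEquiv] at h1
  have h2 : Nat.card S.X = 3 * 2 ^ 11 * 51840 := S.card_X
  rw [h2] at h1
  omega

/-- inner elements commute with the action of `c` on `U` -/
theorem inner_conj_U {g u : G} (hg : S.Inner g) (hu : u ∈ S.U) :
    g * (S.c * u * S.c⁻¹) * g⁻¹ = S.c * (g * u * g⁻¹) * S.c⁻¹ := by
  have h := S.U_cent _ (S.conj_U S.c_mem (S.conj_U hg.1 hu)) _ hg.2
  calc g * (S.c * u * S.c⁻¹) * g⁻¹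
      = (g * S.c * g⁻¹ * S.c⁻¹) * (S.c * (g * u * g⁻¹) * S.c⁻¹) *
          (g * S.c * g⁻¹ * S.c⁻¹)⁻¹ := by group
    _ = _ := by rw [← h]; group

/-- outer elements invert the action of `c` on `U` -/
theorem outer_conj_U {g u : G} (hg : g ∈ S.X) (hi : ¬ S.Inner g) (hu : u ∈ S.U) :
    g * (S.c * u * S.c⁻¹) * g⁻¹ = S.c⁻¹ * (g * u * g⁻¹) * S.c := by
  have hm : S.c⁻¹ * (g * u * g⁻¹) * S.c ∈ S.U := by
    simpa using S.conj_U (inv_mem S.c_mem) (S.conj_U hg hu)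
  have h := S.U_cent _ hm _ (S.outer_spec hg hi)
  calc g * (S.c * u * S.c⁻¹) * g⁻¹
      = (g * S.c * g⁻¹ * S.c) * (S.c⁻¹ * (g * u * g⁻¹) * S.c) *
          (g * S.c * g⁻¹ * S.c)⁻¹ := by group
    _ = _ := by rw [← h]; group

theorem inner_fix_all [Finite G] {g d : G} (hg : S.Inner g) (hd : d ∈ S.U) (hd1 : d ≠ 1)
    (hfix : g * d * g⁻¹ = d) {u : G} (hu : u ∈ S.U) : g * u * g⁻¹ = u := by
  by_cases hu1 : u = 1
  · simp [hu1]
  rcases S.U_orbit hd hd1 hu hu1 with h | h | h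
  · rw [h, hfix]
  · rw [h, S.inner_conj_U hg hd, hfix]
  · have hm : S.c⁻¹ * d * S.c ∈ S.U := by simpa using S.conj_U (inv_mem S.c_mem) hd
    have h' := S.inner_conj_U hg hm
    rw [show S.c * (S.c⁻¹ * d * S.c) * S.c⁻¹ = d by group, hfix] at h'
    subst h
    rw [show g * (S.c⁻¹ * d * S.c) * g⁻¹ = S.c⁻¹ * (S.c * (g * (S.c⁻¹ * d * S.c) * g⁻¹) * S.c⁻¹) * S.c
      by group, ← h']

theorem inner_comm_U [Finite G] {g h u : G} (hg : S.Inner g) (hh : S.Inner h) (hu : u ∈ S.U) :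
    g * (h * u * h⁻¹) * g⁻¹ = h * (g * u * g⁻¹) * h⁻¹ := by
  by_cases hu1 : u = 1
  · simp [hu1]
  have hn : g * u * g⁻¹ ≠ 1 := fun e => hu1 (by simpa using e)
  rcases S.U_orbit hu hu1 (S.conj_U hg.1 hu) hn with e | e | e
  · rw [e, S.inner_fix_all hg hu hu1 e (S.conj_U hh.1 hu)]
  · have := S.inner_fix_all (Inner.mul S (Inner.inv S S.inner_c) hg) hu hu1
      (by rw [show S.c⁻¹ * g * u * (S.c⁻¹ * g)⁻¹ = S.c⁻¹ * (g * u * g⁻¹) * S.c by group, e]; group)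
      (S.conj_U hh.1 hu)
    rw [e, S.inner_conj_U hh hu]
    calc g * (h * u * h⁻¹) * g⁻¹
        = S.c * (S.c⁻¹ * g * (h * u * h⁻¹) * (S.c⁻¹ * g)⁻¹) * S.c⁻¹ := by group
      _ = _ := by rw [this]
  · have := S.inner_fix_all (Inner.mul S S.inner_c hg) hu hu1
      (by rw [show S.c * g * u * (S.c * g)⁻¹ = S.c * (g * u * g⁻¹) * S.c⁻¹ by group, e]; group)
      (S.conj_U hh.1 hu)
    have hm : S.c⁻¹ * u * S.c ∈ S.U := by simpa using S.conj_U (inv_mem S.c_mem) hu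
    have h2 := S.inner_conj_U hh hm
    rw [show S.c * (S.c⁻¹ * u * S.c) * S.c⁻¹ = u by group] at h2
    rw [e]
    calc g * (h * u * h⁻¹) * g⁻¹
        = S.c⁻¹ * (S.c * g * (h * u * h⁻¹) * (S.c * g)⁻¹) * S.c := by group
      _ = _ := by rw [this, h2]; group

theorem inner_commutator [Finite G] {g h u : G} (hg : S.Inner g) (hh : S.Inner h) (hu : u ∈ S.U) :
    ⁅g, h⁆ * u * ⁅g, h⁆⁻¹ = u := by
  have hi := S.conj_U (inv_mem hh.1) (S.conj_U (inv_mem hg.1) hu)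
  have h1 := S.inner_comm_U hg hh hi
  have h2 := S.inner_comm_U (Inner.inv S hg) (Inner.inv S hh) hu
  simp only [commutatorElement_def]
  calc g * h * g⁻¹ * h⁻¹ * u * (g * h * g⁻¹ * h⁻¹)⁻¹
      = g * (h * (g⁻¹ * (h⁻¹ * u * h⁻¹⁻¹) * g⁻¹⁻¹) * h⁻¹) * g⁻¹ := by group
    _ = g * (h * (h⁻¹ * (g⁻¹ * u * g⁻¹⁻¹) * h⁻¹⁻¹) * h⁻¹) * g⁻¹ := by rw [h2]
    _ = u := by group

/-- an inner element squaring into `J` centralises `U` -/
theorem inner_fix_U [Finite G] {g : G} (hg : S.Inner g) (h2 : g * g ∈ S.J) {u : G} (hu : u ∈ S.U) :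
    g * u * g⁻¹ = u := by
  by_cases hu1 : u = 1
  · simp [hu1]
  have hsq : g * (g * u * g⁻¹) * g⁻¹ = u := by
    have := S.U_cent u hu _ h2
    calc g * (g * u * g⁻¹) * g⁻¹ = g * g * u * (g * g)⁻¹ := by group
      _ = u := by rw [← this]; group
  have hn : g * u * g⁻¹ ≠ 1 := fun e => hu1 (by simpa using e)
  rcases S.U_orbit hu hu1 (S.conj_U hg.1 hu) hn with e | e | e
  · exact e
  · exfalso
    rw [e, S.inner_conj_U hg hu, e] at hsq
    refine S.c_moves hu hu1 ?_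
    conv_lhs => rw [← hsq]
    rw [show S.c * (S.c * (S.c * u * S.c⁻¹) * S.c⁻¹) * S.c⁻¹ =
      (S.c * S.c * S.c) * u * (S.c * S.c * S.c)⁻¹ by group, S.c_three, one_mul, inv_one, mul_one]
  · exfalso
    have hm : S.c⁻¹ * u * S.c ∈ S.U := by simpa using S.conj_U (inv_mem S.c_mem) hu
    have h1 := S.inner_conj_U hg hm
    rw [show S.c * (S.c⁻¹ * u * S.c) * S.c⁻¹ = u by group, e] at h1
    rw [e] at hsq
    rw [hsq] at h1
    refine S.c_moves hu hu1 ?_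
    have h1' : S.c * u * S.c⁻¹ = S.c⁻¹ * u * S.c := h1.symm
    have h2 : S.c * S.c * u * (S.c * S.c)⁻¹ = u := by
      calc S.c * S.c * u * (S.c * S.c)⁻¹ = S.c * (S.c * u * S.c⁻¹) * S.c⁻¹ := by group
        _ = S.c * (S.c⁻¹ * u * S.c) * S.c⁻¹ := by rw [h1']
        _ = u := by group
    rw [← S.c_inv, inv_inv] at h2
    calc S.c * u * S.c⁻¹ = S.c * (S.c⁻¹ * u * S.c) * S.c⁻¹ := by rw [h2]
      _ = u := by group

/-- an outer element fixes exactly one involution of `U` -/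
theorem outer_fix [Finite G] {g : G} (hg : g ∈ S.X) (hi : ¬ S.Inner g) :
    ∃ d ∈ S.U, d ≠ 1 ∧ g * d * g⁻¹ = d ∧ ∀ u ∈ S.U, g * u * g⁻¹ = u → u = 1 ∨ u = d := by
  obtain ⟨u, hu, hu1⟩ := S.exists_U
  have hm1 : S.c * u * S.c⁻¹ ∈ S.U := S.conj_U S.c_mem hu
  have hm2 : S.c⁻¹ * u * S.c ∈ S.U := by simpa using S.conj_U (inv_mem S.c_mem) hu
  have hn1 : S.c * u * S.c⁻¹ ≠ 1 := fun h => hu1 (by simpa using h)
  have hn2 : S.c⁻¹ * u * S.c ≠ 1 := fun h => hu1 (by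
    have := congrArg (fun x => S.c * x * S.c⁻¹) h
    simpa [← mul_assoc] using this)
  have hn : g * u * g⁻¹ ≠ 1 := fun e => hu1 (by simpa using e)
  have hfix : ∃ d ∈ S.U, d ≠ 1 ∧ g * d * g⁻¹ = d := by
    rcases S.U_orbit hu hu1 (S.conj_U hg hu) hn with e | e | e
    · exact ⟨u, hu, hu1, e⟩
    · refine ⟨_, hm2, hn2, ?_⟩
      have h1 := S.outer_conj_U hg hi hm2
      rw [show S.c * (S.c⁻¹ * u * S.c) * S.c⁻¹ = u by group, e] at h1
      calc g * (S.c⁻¹ * u * S.c) * g⁻¹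
          = S.c * (S.c⁻¹ * (g * (S.c⁻¹ * u * S.c) * g⁻¹) * S.c) * S.c⁻¹ := by group
        _ = S.c * (S.c * u * S.c⁻¹) * S.c⁻¹ := by rw [← h1]
        _ = S.c⁻¹ * u * S.c := S.cc_conj u
    · refine ⟨_, hm1, hn1, ?_⟩
      rw [S.outer_conj_U hg hi hu, e, S.cc_conj']
  obtain ⟨d, hd, hd1, hdf⟩ := hfix
  refine ⟨d, hd, hd1, hdf, fun v hv hvf => ?_⟩
  by_cases hv1 : v = 1
  · exact Or.inl hv1
  refine Or.inr ?_
  rcases S.U_orbit hd hd1 hv hv1 with e | e | e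
  · exact e
  all_goals
    exfalso
    have hne : S.c * d * S.c⁻¹ ≠ S.c⁻¹ * d * S.c := fun h => S.c_moves hd hd1 (by
      have h2 : S.c * S.c * d * (S.c * S.c)⁻¹ = d := by
        calc S.c * S.c * d * (S.c * S.c)⁻¹ = S.c * (S.c * d * S.c⁻¹) * S.c⁻¹ := by group
          _ = S.c * (S.c⁻¹ * d * S.c) * S.c⁻¹ := by rw [h]
          _ = d := by group
      rw [← S.c_inv, inv_inv] at h2
      calc S.c * d * S.c⁻¹ = S.c * (S.c⁻¹ * d * S.c) * S.c⁻¹ := by rw [h2]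
        _ = d := by group)
  · rw [e, S.outer_conj_U hg hi hd, hdf] at hvf
    exact hne hvf.symm
  · have h1 := S.outer_conj_U hg hi hd
    rw [e] at hvf
    have hm := S.outer_conj_U hg hi (S.conj_U (inv_mem S.c_mem) hd)
    simp only [inv_inv] at hm
    rw [show S.c * (S.c⁻¹ * d * S.c) * S.c⁻¹ = d by group, hdf, hvf] at hm
    refine hne ?_
    calc S.c * d * S.c⁻¹ = S.c * (S.c⁻¹ * (S.c⁻¹ * d * S.c) * S.c) * S.c⁻¹ := by rw [← hm]
      _ = S.c⁻¹ * d * S.c := by group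

end Setting

end Cfsg.Agent.Lib.Fi23Local27
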