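import Cfsg.Agent.Lib.Fi23Local27.Setting

/-!
The hermitian space `J/Z(J)` of a setting, the action of `C(z)` on it, its kernel `J`, the realisation
of every isometry by an inner element, and the orders of fixed spaces of involutions.

Owner: helper27 (S3233).
-/

set_option autoImplicit false

open scoped commutatorElement

namespace Cfsg.Agent.Lib.Fi23Local27.Setting

variable {G : Type*} [Group G] {z : G} (S : Setting z)

theorem comm_mul_left {j k l : G} (hj : j ∈ S.J) (hk : k ∈ S.J) (hl : l ∈ S.J) :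
    ⁅j * k, l⁆ = ⁅j, l⁆ * ⁅k, l⁆ := by
  rcases S.comm_J k hk l hl with h | h <;> rcases S.comm_J j hj l hl with h' | h' <;>
    simp only [commutatorElement_def] at h h' ⊢ <;>
    rw [show j * k * l * (j * k)⁻¹ * l⁻¹ = j * (k * l * k⁻¹ * l⁻¹) * j⁻¹ * (j * l * j⁻¹ * l⁻¹) by group,
      h, h'] <;>
    simp [show j * z = z * j from S.J_le j hj, mul_assoc]

theorem comm_swap {j k : G} (hj : j ∈ S.J) (hk : k ∈ S.J) : ⁅j, k⁆ = ⁅k, j⁆ := by
  have : ⁅j, k⁆ = (⁅k, j⁆)⁻¹ := (commutatorElement_inv k j).symm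
  rw [this]
  rcases S.comm_J k hk j hj with h | h <;> rw [h]
  · exact inv_one
  · exact inv_eq_of_mul_eq_one_left S.z_sq

theorem central_iff {j : G} (hj : j ∈ S.J) :
    (∀ k ∈ S.J, j * k = k * j) ↔ ∀ k ∈ S.J, ⁅j, k⁆ = 1 := by
  simp [commutatorElement_eq_one_iff_mul_comm]

/-- the commutator form -/
noncomputable def b (_S : Setting z) (j k : G) : ZMod 2 := by classical exact if ⁅j, k⁆ = 1 then 0 else 1

theorem b_eq_zero {j k : G} : S.b j k = 0 ↔ ⁅j, k⁆ = 1 := by
  unfold b; split_ifs with h <;> simp [h]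

theorem b_mul_left {j k l : G} (hj : j ∈ S.J) (hk : k ∈ S.J) (hl : l ∈ S.J) :
    S.b (j * k) l = S.b j l + S.b k l := by
  unfold b
  rw [S.comm_mul_left hj hk hl]
  rcases S.comm_J k hk l hl with h | h <;> rcases S.comm_J j hj l hl with h' | h' <;>
    simp [h, h', S.z_ne, S.z_sq, show (1 : ZMod 2) + 1 = 0 from rfl]

theorem b_symm {j k : G} (hj : j ∈ S.J) (hk : k ∈ S.J) : S.b j k = S.b k j := by
  unfold b; rw [S.comm_swap hj hk]

theorem b_self (j : G) : S.b j j = 0 := S.b_eq_zero.2 (by simp [commutatorElement_eq_one_iff_mul_comm])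

theorem b_conj {g j k : G} (hg : g ∈ S.X) (hj : j ∈ S.J) (hk : k ∈ S.J) :
    S.b (g * j * g⁻¹) (g * k * g⁻¹) = S.b j k := by
  unfold b
  have : ⁅g * j * g⁻¹, g * k * g⁻¹⁆ = g * ⁅j, k⁆ * g⁻¹ := by
    simp only [commutatorElement_def]; group
  rw [this]
  by_cases h : ⁅j, k⁆ = 1
  · simp [h]
  · rw [if_neg h, if_neg fun e => h (by simpa using e)]

/-- `J/Z(J)` -/
def W : Type _ := Additive (↥S.J ⧸ Subgroup.center ↥S.J)

instance : AddCommGroup S.W :=
  { (inferInstance : AddGroup (Additive (↥S.J ⧸ Subgroup.center ↥S.J))) with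
    add_comm := fun x y => by
      obtain ⟨a, ha⟩ := QuotientGroup.mk_surjective (Additive.toMul x)
      obtain ⟨b, hb⟩ := QuotientGroup.mk_surjective (Additive.toMul y)
      refine Additive.toMul.injective ?_
      show Additive.toMul x * Additive.toMul y = Additive.toMul y * Additive.toMul x
      rw [← ha, ← hb, ← QuotientGroup.mk_mul, ← QuotientGroup.mk_mul, QuotientGroup.eq,
        Subgroup.mem_center_iff]
      intro k
      have hc : ∀ l ∈ S.J, (⁅(b : G)⁻¹, (a : G)⁻¹⁆ : G) * l = l * ⁅(b : G)⁻¹, (a : G)⁻¹⁆ := by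
        intro l hl
        rcases S.comm_J _ (inv_mem b.2) _ (inv_mem a.2) with h | h <;> rw [h]
        · simp
        · exact S.z_center hl
      refine Subtype.ext ?_
      have := hc k.1 k.2
      simp only [commutatorElement_def, inv_inv] at this
      simp only [Subgroup.coe_mul, InvMemClass.coe_inv, mul_inv_rev]
      simpa [mul_assoc] using this.symm }

theorem W_two (x : S.W) : x + x = 0 := by
  obtain ⟨a, ha⟩ := QuotientGroup.mk_surjective (Additive.toMul x)
  refine Additive.toMul.injective ?_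
  show Additive.toMul x * Additive.toMul x = 1
  rw [← ha, ← QuotientGroup.mk_mul, QuotientGroup.eq_one_iff, Subgroup.mem_center_iff]
  intro k
  refine Subtype.ext ?_
  show (k : G) * (a * a) = a * a * k
  have h : ⁅(a : G) * a, (k : G)⁆ = 1 := by
    rw [S.comm_mul_left a.2 a.2 k.2]
    rcases S.comm_J _ a.2 _ k.2 with h | h <;> simp [h, S.z_sq]
  exact (commutatorElement_eq_one_iff_mul_comm.1 h).symm

noncomputable instance : Module (ZMod 2) S.W :=
  AddCommGroup.zmodModule (n := 2) fun x => by rw [two_nsmul, S.W_two]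

/-- the class of an element of `J`, as a function on `J` -/
def mkW (j : S.J) : S.W := Additive.ofMul (QuotientGroup.mk j)

theorem mkW_mul (j k : S.J) : S.mkW (j * k) = S.mkW j + S.mkW k := rfl

/-- the class of an element of `J` -/
noncomputable def π (j : G) : S.W := by
  classical exact if h : j ∈ S.J then S.mkW ⟨j, h⟩ else 0

theorem π_mk' {j : G} (hj : j ∈ S.J) : S.π j = S.mkW ⟨j, hj⟩ := by
  unfold π; rw [dif_pos hj]

theorem π_mk (j : S.J) : S.π j = S.mkW j := S.π_mk' j.2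

theorem π_mul {j k : G} (hj : j ∈ S.J) (hk : k ∈ S.J) : S.π (j * k) = S.π j + S.π k := by
  rw [S.π_mk' (mul_mem hj hk), S.π_mk' hj, S.π_mk' hk]
  exact S.mkW_mul ⟨j, hj⟩ ⟨k, hk⟩

theorem π_one : S.π 1 = 0 := by
  have := S.π_mul (one_mem S.J) (one_mem S.J)
  rw [mul_one] at this
  exact left_eq_add.1 this

theorem π_inv {j : G} (hj : j ∈ S.J) : S.π j⁻¹ = S.π j := by
  have h := S.π_mul hj (inv_mem hj)
  rw [mul_inv_cancel, S.π_one] at h
  calc S.π j⁻¹ = S.π j + S.π j + S.π j⁻¹ := by rw [S.W_two, zero_add]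
    _ = S.π j := by rw [add_assoc, ← h, add_zero]

theorem π_surj (x : S.W) : ∃ j ∈ S.J, S.π j = x := by
  obtain ⟨a, ha⟩ := QuotientGroup.mk_surjective (Additive.toMul x)
  exact ⟨a, a.2, by rw [S.π_mk, mkW, ha]; rfl⟩

theorem π_eq_zero {j : G} (hj : j ∈ S.J) : S.π j = 0 ↔ ∀ k ∈ S.J, j * k = k * j := by
  rw [S.π_mk' hj]
  refine (Iff.trans (QuotientGroup.eq_one_iff (N := Subgroup.center ↥S.J) (⟨j, hj⟩ : S.J)) ?_)
  rw [Subgroup.mem_center_iff]
  exact ⟨fun h k hk => (congrArg Subtype.val (h ⟨k, hk⟩)).symm,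
    fun h k => Subtype.ext (h k.1 k.2).symm⟩

theorem π_eq {j k : G} (hj : j ∈ S.J) (hk : k ∈ S.J) :
    S.π j = S.π k ↔ ∀ l ∈ S.J, j⁻¹ * k * l = l * (j⁻¹ * k) := by
  rw [← S.π_eq_zero (mul_mem (inv_mem hj) hk), S.π_mul (inv_mem hj) hk, S.π_inv hj]
  exact ⟨fun h => by rw [h, S.W_two], fun h => by
    calc S.π j = S.π j + (S.π k + S.π k) := by rw [S.W_two, add_zero]
      _ = S.π k := by rw [← add_assoc, h, zero_add]⟩

/-- a representative -/
noncomputable def rep (x : S.W) : G := (S.π_surj x).choose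

theorem rep_mem (x : S.W) : S.rep x ∈ S.J := (S.π_surj x).choose_spec.1

theorem π_rep (x : S.W) : S.π (S.rep x) = x := (S.π_surj x).choose_spec.2

theorem b_congr {j j' k : G} (hj : j ∈ S.J) (hj' : j' ∈ S.J) (hk : k ∈ S.J) (h : S.π j = S.π j') :
    S.b j k = S.b j' k := by
  have hz := (S.π_eq hj hj').1 h k hk
  have h0 : S.b (j⁻¹ * j') k = 0 :=
    S.b_eq_zero.2 (commutatorElement_eq_one_iff_mul_comm.2 hz)
  conv_rhs => rw [show j' = j * (j⁻¹ * j') by group, S.b_mul_left hj (mul_mem (inv_mem hj) hj') hk,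
    h0, add_zero]

theorem act_wd {g j j' : G} (hg : g ∈ S.X) (hj : j ∈ S.J) (hj' : j' ∈ S.J) (h : S.π j = S.π j') :
    S.π (g * j * g⁻¹) = S.π (g * j' * g⁻¹) := by
  rw [S.π_eq (S.conj_J hg hj) (S.conj_J hg hj')]
  intro l hl
  have := (S.π_eq hj hj').1 h _ (S.conj_J (inv_mem hg) hl)
  rw [inv_inv] at this
  calc (g * j * g⁻¹)⁻¹ * (g * j' * g⁻¹) * l = g * (j⁻¹ * j' * (g⁻¹ * l * g)) * g⁻¹ := by group
    _ = g * (g⁻¹ * l * g * (j⁻¹ * j')) * g⁻¹ := by rw [this]
    _ = _ := by group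

/-- the action of an element of `C(z)` -/
noncomputable def act (g : G) : S.W →ₗ[ZMod 2] S.W := by
  classical exact if hg : g ∈ S.X then
    AddMonoidHom.toZModLinearMap 2 {
      toFun := fun x => S.π (g * S.rep x * g⁻¹)
      map_zero' := by
        rw [S.act_wd hg (S.rep_mem 0) (one_mem _) (by rw [S.π_rep, S.π_one])]
        simp [S.π_one]
      map_add' := fun x y => by
        rw [S.act_wd hg (S.rep_mem (x + y)) (mul_mem (S.rep_mem x) (S.rep_mem y))
          (by rw [S.π_mul (S.rep_mem x) (S.rep_mem y), S.π_rep, S.π_rep, S.π_rep]),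
          ← S.π_mul (S.conj_J hg (S.rep_mem x)) (S.conj_J hg (S.rep_mem y))]
        congr 1; group }
  else LinearMap.id

theorem act_π {g j : G} (hg : g ∈ S.X) (hj : j ∈ S.J) : S.act g (S.π j) = S.π (g * j * g⁻¹) := by
  rw [act, dif_pos hg]
  exact S.act_wd hg (S.rep_mem _) hj (S.π_rep _)

theorem act_mul {g h : G} (hg : g ∈ S.X) (hh : h ∈ S.X) (x : S.W) :
    S.act (g * h) x = S.act g (S.act h x) := by
  obtain ⟨j, hj, rfl⟩ := S.π_surj x
  rw [S.act_π hh hj, S.act_π hg (S.conj_J hh hj), S.act_π (mul_mem hg hh) hj]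
  congr 1; group

theorem act_J {j : G} (hj : j ∈ S.J) (x : S.W) : S.act j x = x := by
  obtain ⟨k, hk, rfl⟩ := S.π_surj x
  rw [S.act_π (S.J_le_X hj) hk, S.π_mul (mul_mem hj hk) (inv_mem hj), S.π_mul hj hk, S.π_inv hj]
  rw [add_comm (S.π j), add_assoc, S.W_two, add_zero]

theorem act_one (x : S.W) : S.act 1 x = x := S.act_J (one_mem _) x

theorem act_inv_apply {g : G} (hg : g ∈ S.X) (x : S.W) : S.act g⁻¹ (S.act g x) = x := by
  rw [← S.act_mul (inv_mem hg) hg, inv_mul_cancel, act_one]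

theorem act_apply_inv {g : G} (hg : g ∈ S.X) (x : S.W) : S.act g (S.act g⁻¹ x) = x := by
  rw [← S.act_mul hg (inv_mem hg), mul_inv_cancel, act_one]

theorem act_cube (x : S.W) : S.act S.c (S.act S.c (S.act S.c x)) = x := by
  rw [← S.act_mul S.c_mem S.c_mem, ← S.act_mul (mul_mem S.c_mem S.c_mem) S.c_mem, S.c_three, act_one]

/-- `c` has no fixed point -/
theorem act_c_fixed {x : S.W} (h : S.act S.c x = x) [Finite G] : x = 0 := by
  obtain ⟨j, hj, rfl⟩ := S.π_surj x
  rw [S.act_π S.c_mem hj] at h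
  have hmem := mul_mem (inv_mem hj) (S.conj_J S.c_mem hj)
  have hz : ∀ l ∈ S.J, j⁻¹ * (S.c * j * S.c⁻¹) * l = l * (j⁻¹ * (S.c * j * S.c⁻¹)) :=
    (S.π_eq hj (S.conj_J S.c_mem hj)).1 h.symm
  obtain ⟨w, hw⟩ : ∃ w ∈ S.U, S.c * j * S.c⁻¹ = j * w ∨ S.c * j * S.c⁻¹ = j * w * z := by
    rcases S.center_J _ hmem hz with e | e
    · exact ⟨_, e, Or.inl (by group)⟩
    · refine ⟨_, e, Or.inr ?_⟩
      calc S.c * j * S.c⁻¹ = j * (j⁻¹ * (S.c * j * S.c⁻¹) * (z * z)) := by rw [S.z_sq]; group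
        _ = _ := by group
  -- `u ↦ c u c⁻¹ u` is onto `U`
  obtain ⟨⟨u, hu⟩, hu2⟩ : ∃ u : S.U, (⟨_, mul_mem (S.conj_U S.c_mem u.2) u.2⟩ : S.U) = ⟨w, hw.1⟩ := by
    refine (Finite.surjective_of_injective (f := fun u : S.U =>
      (⟨_, mul_mem (S.conj_U S.c_mem u.2) u.2⟩ : S.U)) ?_) _
    intro a a' e
    have e' : S.c * (a : G) * S.c⁻¹ * a = S.c * (a' : G) * S.c⁻¹ * a' := congrArg Subtype.val e
    by_contra hne
    have hm : (a : G) * a' ∈ S.U := mul_mem a.2 a'.2
    have h1 : (a : G) * a' ≠ 1 := fun h1 => hne (Subtype.ext (by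
      rw [← S.U_inv a'.2]; exact eq_inv_of_mul_eq_one_left h1))
    refine S.c_moves hm h1 ?_
    have ha := S.U_cent _ a'.2 _ (S.U_le a.2)
    calc S.c * ((a : G) * a') * S.c⁻¹ = S.c * a * S.c⁻¹ * (S.c * a' * S.c⁻¹) := by group
      _ = S.c * a * S.c⁻¹ * (S.c * a' * S.c⁻¹ * a' * a') := by
          rw [mul_assoc (S.c * (a' : G) * S.c⁻¹) (a' : G), S.U_sq _ a'.2, mul_one]
      _ = S.c * a * S.c⁻¹ * (S.c * a * S.c⁻¹ * a * a') := by rw [← e']
      _ = (S.c * a * S.c⁻¹) * (S.c * a * S.c⁻¹) * (a * a') := by group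
      _ = a * a' := by rw [S.U_sq _ (S.conj_U S.c_mem a.2), one_mul]
  have hu3 : S.c * u * S.c⁻¹ * u = w := congrArg Subtype.val hu2
  have hju : j * u ∈ S.J := mul_mem hj (S.U_le hu)
  have hcu := S.U_cent _ (S.conj_U S.c_mem hu) _ (S.U_le hu)
  have hmove : S.c * (j * u) * S.c⁻¹ = j * u ∨ S.c * (j * u) * S.c⁻¹ = j * u * z := by
    have hu' : ∀ v, v = S.c * u * S.c⁻¹ → v * u * v = u := fun v hv => by
      subst hv
      rw [hcu, mul_assoc, S.U_sq _ (S.conj_U S.c_mem hu), mul_one]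
    rcases hw.2 with e | e
    · left
      calc S.c * (j * u) * S.c⁻¹ = S.c * j * S.c⁻¹ * (S.c * u * S.c⁻¹) := by group
        _ = j * (S.c * u * S.c⁻¹ * u * (S.c * u * S.c⁻¹)) := by rw [e, ← hu3]; group
        _ = j * u := by rw [hu' _ rfl]
    · right
      calc S.c * (j * u) * S.c⁻¹ = S.c * j * S.c⁻¹ * (S.c * u * S.c⁻¹) := by group
        _ = j * (S.c * u * S.c⁻¹ * u) * (z * (S.c * u * S.c⁻¹)) := by rw [e, ← hu3]; group
        _ = j * (S.c * u * S.c⁻¹ * u * (S.c * u * S.c⁻¹)) * z := by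
          rw [S.z_center (S.U_le (S.conj_U S.c_mem hu))]; group
        _ = j * u * z := by rw [hu' _ rfl]
  have hfin : S.c * (j * u) * S.c⁻¹ = j * u := by
    refine hmove.resolve_right fun e => S.z_ne ?_
    have hz3 : S.c * z * S.c⁻¹ = z := by rw [S.c_comm]; group
    have h3 : S.c * (S.c * (S.c * (j * u) * S.c⁻¹) * S.c⁻¹) * S.c⁻¹ = j * u := by
      rw [S.cc_conj]; group
    rw [e, show S.c * (j * u * z) * S.c⁻¹ = S.c * (j * u) * S.c⁻¹ * (S.c * z * S.c⁻¹) by group, e, hz3,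
      mul_assoc (j * u), S.z_sq, mul_one, e] at h3
    exact mul_eq_left.1 h3
  rw [S.π_eq_zero hj]
  intro k hk
  have hj2 : j = j * u * u := by rw [mul_assoc, S.U_sq u hu, mul_one]
  rcases S.c_fix _ hju hfin with e | e <;> rw [hj2, e]
  · rw [one_mul]; exact S.U_cent u hu k hk
  · rw [mul_assoc, S.U_cent u hu k hk, ← mul_assoc, S.z_center hk, mul_assoc]

theorem act_c_rel [Finite G] (x : S.W) : S.act S.c (S.act S.c x) + S.act S.c x + x = 0 := by
  refine S.act_c_fixed ?_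
  rw [map_add, map_add, S.act_cube]
  abel

theorem card_center_J [Finite G] : Nat.card (Subgroup.center ↥S.J) = 8 := by
  classical
  let f : S.U × ZMod 2 → Subgroup.center ↥S.J := fun p =>
    ⟨⟨p.1.1 * (if p.2 = 0 then 1 else z),
      mul_mem (S.U_le p.1.2) (by split_ifs; exacts [one_mem _, S.z_mem])⟩,
      Subgroup.mem_center_iff.2 fun k => Subtype.ext (by
        show (k : G) * (p.1.1 * _) = p.1.1 * _ * k
        have h1 := S.U_cent p.1.1 p.1.2 k k.2
        split_ifs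
        · simp [h1]
        · rw [← mul_assoc, ← h1, mul_assoc, ← S.z_center k.2, mul_assoc])⟩
  have hinj : Function.Injective f := by
    rintro ⟨u, a⟩ ⟨v, b⟩ e
    have e' : (u : G) * (if a = 0 then 1 else z) = (v : G) * (if b = 0 then 1 else z) :=
      congrArg (fun w : Subgroup.center ↥S.J => ((w : S.J) : G)) e
    have hb : ∀ q : ZMod 2, q = 0 ∨ q = 1 := by decide
    rcases hb a with rfl | rfl <;> rcases hb b with rfl | rfl <;> simp at e'
    · rw [e']
    · have hm := mul_mem (inv_mem v.2) u.2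
      rw [show (v : G)⁻¹ * u = z by rw [e', inv_mul_cancel_left]] at hm
      exact absurd hm S.z_notin
    · have hm := mul_mem (inv_mem u.2) v.2
      rw [show (u : G)⁻¹ * v = z by rw [← e', inv_mul_cancel_left]] at hm
      exact absurd hm S.z_notin
    · rw [e']
  have hsurj : Function.Surjective f := by
    rintro ⟨⟨j, hj⟩, hc⟩
    rcases S.center_J j hj fun k hk =>
      (congrArg Subtype.val (Subgroup.mem_center_iff.1 hc ⟨k, hk⟩)).symm with h | h
    · exact ⟨⟨⟨j, h⟩, 0⟩, Subtype.ext (Subtype.ext (by simp [f]))⟩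
    · exact ⟨⟨⟨_, h⟩, 1⟩, Subtype.ext (Subtype.ext (by simp [f, mul_assoc, S.z_sq]))⟩
  rw [← Nat.card_eq_of_bijective f ⟨hinj, hsurj⟩, Nat.card_prod, S.U_card, Nat.card_zmod]

theorem card_W [Finite G] : Nat.card S.W = 256 := by
  have h := Subgroup.card_eq_card_quotient_mul_card_subgroup (Subgroup.center ↥S.J)
  rw [S.J_card, S.card_center_J] at h
  have : Nat.card S.W = Nat.card (↥S.J ⧸ Subgroup.center ↥S.J) := Nat.card_congr Additive.toMul
  omega

/-- the hermitian space -/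
noncomputable def H [Finite G] : HForm S.W where
  c := S.act S.c
  f := LinearMap.mk₂ (ZMod 2) (fun x y => S.b (S.rep x) (S.rep y))
    (fun x x' y => by
      rw [S.b_congr (S.rep_mem _) (mul_mem (S.rep_mem x) (S.rep_mem x')) (S.rep_mem y)
        (by rw [S.π_mul (S.rep_mem x) (S.rep_mem x'), S.π_rep, S.π_rep, S.π_rep]),
        S.b_mul_left (S.rep_mem x) (S.rep_mem x') (S.rep_mem y)])
    (fun r x y => by
      have hb : ∀ q : ZMod 2, q = 0 ∨ q = 1 := by decide
      rcases hb r with rfl | rfl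
      · rw [zero_smul, zero_smul, S.b_congr (S.rep_mem _) (one_mem _) (S.rep_mem y)
          (by rw [S.π_rep, S.π_one])]
        exact S.b_eq_zero.2 (by simp)
      · rw [one_smul, one_smul])
    (fun x y y' => by
      rw [S.b_symm (S.rep_mem x) (S.rep_mem _), S.b_congr (S.rep_mem _)
        (mul_mem (S.rep_mem y) (S.rep_mem y')) (S.rep_mem x)
        (by rw [S.π_mul (S.rep_mem y) (S.rep_mem y'), S.π_rep, S.π_rep, S.π_rep]),
        S.b_mul_left (S.rep_mem y) (S.rep_mem y') (S.rep_mem x),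
        S.b_symm (S.rep_mem y) (S.rep_mem x), S.b_symm (S.rep_mem y') (S.rep_mem x)])
    (fun r x y => by
      have hb : ∀ q : ZMod 2, q = 0 ∨ q = 1 := by decide
      rcases hb r with rfl | rfl
      · rw [zero_smul, zero_smul, S.b_symm (S.rep_mem x) (S.rep_mem _),
          S.b_congr (S.rep_mem _) (one_mem _) (S.rep_mem x) (by rw [S.π_rep, S.π_one])]
        exact S.b_eq_zero.2 (by simp)
      · rw [one_smul, one_smul])
  alt x := S.b_self _
  nondeg x hx := by
    rw [← S.π_rep x, S.π_eq_zero (S.rep_mem x)]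
    intro k hk
    have := hx (S.π k)
    simp only [LinearMap.mk₂_apply] at this
    rw [S.b_symm (S.rep_mem x) (S.rep_mem _), S.b_congr (S.rep_mem _) hk (S.rep_mem x) (S.π_rep _)] at this
    exact (commutatorElement_eq_one_iff_mul_comm.1 (S.b_eq_zero.1 this)).symm
  c_rel := S.act_c_rel
  f_c x y := by
    simp only [LinearMap.mk₂_apply]
    obtain ⟨j, hj, rfl⟩ := S.π_surj x
    obtain ⟨k, hk, rfl⟩ := S.π_surj y
    rw [S.act_π S.c_mem hj, S.act_π S.c_mem hk]
    have e : ∀ a a', a ∈ S.J → a' ∈ S.J → S.b (S.rep (S.π a)) (S.rep (S.π a')) = S.b a a' :=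
      fun a a' ha ha' => by
        rw [S.b_congr (S.rep_mem _) ha (S.rep_mem _) (S.π_rep _), S.b_symm ha (S.rep_mem _),
          S.b_congr (S.rep_mem _) ha' ha (S.π_rep _), S.b_symm ha' ha]
    rw [e _ _ (S.conj_J S.c_mem hj) (S.conj_J S.c_mem hk), e _ _ hj hk, S.b_conj S.c_mem hj hk]
  card := S.card_W

theorem H_c [Finite G] (x : S.W) : S.H.c x = S.act S.c x := rfl

theorem H_f [Finite G] {j k : G} (hj : j ∈ S.J) (hk : k ∈ S.J) :
    S.H.f (S.π j) (S.π k) = S.b j k := by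
  show S.b (S.rep (S.π j)) (S.rep (S.π k)) = _
  rw [S.b_congr (S.rep_mem _) hj (S.rep_mem _) (S.π_rep _), S.b_symm hj (S.rep_mem _),
    S.b_congr (S.rep_mem _) hk hj (S.π_rep _), S.b_symm hk hj]

theorem act_f [Finite G] {g : G} (hg : g ∈ S.X) (x y : S.W) :
    S.H.f (S.act g x) (S.act g y) = S.H.f x y := by
  obtain ⟨j, hj, rfl⟩ := S.π_surj x
  obtain ⟨k, hk, rfl⟩ := S.π_surj y
  rw [S.act_π hg hj, S.act_π hg hk, S.H_f (S.conj_J hg hj) (S.conj_J hg hk), S.H_f hj hk,
    S.b_conj hg hj hk]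

theorem isom_act [Finite G] {g : G} (hg : S.Inner g) : S.H.IsIsom (S.act g) := by
  refine ⟨fun x => ?_, S.act_f hg.1⟩
  simp only [S.H_c]
  have hmem := hg.2
  calc S.act g (S.act S.c x) = S.act (g * S.c * g⁻¹ * S.c⁻¹ * (S.c * g)) x := by
        rw [← S.act_mul hg.1 S.c_mem]; congr 2; group
    _ = S.act (g * S.c * g⁻¹ * S.c⁻¹) (S.act (S.c * g) x) :=
        S.act_mul (S.J_le_X hmem) (mul_mem S.c_mem hg.1) x
    _ = S.act S.c (S.act g x) := by rw [S.act_J hmem, S.act_mul S.c_mem hg.1]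

theorem outer_act [Finite G] {g : G} (hg : g ∈ S.X) (hi : ¬ S.Inner g) (x : S.W) :
    S.act g (S.act S.c x) = S.act S.c (S.act S.c (S.act g x)) := by
  have hmem := S.outer_spec hg hi
  calc S.act g (S.act S.c x) = S.act (g * S.c * g⁻¹ * S.c * (S.c⁻¹ * g)) x := by
        rw [← S.act_mul hg S.c_mem]; congr 2; group
    _ = S.act (g * S.c * g⁻¹ * S.c) (S.act (S.c⁻¹ * g) x) :=
        S.act_mul (S.J_le_X hmem) (mul_mem (inv_mem S.c_mem) hg) x
    _ = S.act S.c (S.act S.c (S.act g x)) := by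
        rw [S.act_J hmem, S.c_inv, S.act_mul (mul_mem S.c_mem S.c_mem) hg, S.act_mul S.c_mem S.c_mem]

theorem inner_or_fix [Finite G] {g : G} (hg : g ∈ S.X) (h : ∀ x, S.act g x = x) : S.Inner g := by
  by_contra hi
  obtain ⟨x, hx⟩ : ∃ x : S.W, x ≠ 0 := by
    by_contra hc
    push Not at hc
    have : Subsingleton S.W := ⟨fun a b => (hc a).trans (hc b).symm⟩
    have := S.card_W
    rw [Nat.card_eq_one_iff_unique.2 ⟨inferInstance, ⟨0⟩⟩] at this
    omega
  have h1 := S.outer_act hg hi x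
  rw [h, h] at h1
  have h2 : S.act S.c x = 0 := S.act_c_fixed h1.symm
  apply hx
  rw [← S.act_cube x, h2, map_zero, map_zero]

/-- the kernel of the action is `J` -/
theorem mem_J_of_act [Finite G] {g : G} (hg : g ∈ S.X) (h : ∀ x, S.act g x = x) : g ∈ S.J := by
  let N : Subgroup G :=
    { carrier := {g | g ∈ S.X ∧ ∀ x, S.act g x = x}
      one_mem' := ⟨one_mem _, S.act_one⟩
      mul_mem' := fun {a b} ha hb => ⟨mul_mem ha.1 hb.1, fun x => by rw [S.act_mul ha.1 hb.1, hb.2, ha.2]⟩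
      inv_mem' := fun {a} ha => ⟨inv_mem ha.1, fun x => by
        conv_lhs => rw [← ha.2 x]
        exact S.act_inv_apply ha.1 x⟩ }
  have hpow : ∀ n ∈ N, n ^ 12 ∈ S.J := by
    intro n hn
    have hi := S.inner_or_fix hn.1 hn.2
    -- `n³` centralises `U`
    have hfix : ∀ u ∈ S.U, n * n * n * u * (n * n * n)⁻¹ = u := by
      intro u hu
      by_cases hu1 : u = 1
      · simp [hu1]
      have hne : n * u * n⁻¹ ≠ 1 := fun e => hu1 (by simpa using e)
      have hm := S.conj_U hn.1 hu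
      rw [show n * n * n * u * (n * n * n)⁻¹ = n * (n * (n * u * n⁻¹) * n⁻¹) * n⁻¹ by group]
      rcases S.U_orbit hu hu1 hm hne with e | e | e
      · simp only [e]
      · rw [e, S.inner_conj_U hi hu, e, S.inner_conj_U hi (S.conj_U S.c_mem hu),
          S.inner_conj_U hi hu, e, S.cc_conj]
        group
      · have hm' : S.c⁻¹ * u * S.c ∈ S.U := by simpa using S.conj_U (inv_mem S.c_mem) hu
        have key : ∀ v ∈ S.U, n * (S.c⁻¹ * v * S.c) * n⁻¹ = S.c⁻¹ * (n * v * n⁻¹) * S.c := by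
          intro v hv
          have hv' : S.c⁻¹ * v * S.c ∈ S.U := by simpa using S.conj_U (inv_mem S.c_mem) hv
          have := S.inner_conj_U hi hv'
          rw [show S.c * (S.c⁻¹ * v * S.c) * S.c⁻¹ = v by group] at this
          rw [this]; group
        rw [e, key u hu, e, key _ hm', key u hu, e, S.cc_conj']
        group
    -- the square of `n³` centralises `J`
    set m := n * n * n with hm
    have hmX : m ∈ S.X := mul_mem (mul_mem hn.1 hn.1) hn.1
    have hmW : ∀ x, S.act m x = x := fun x => by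
      rw [hm, S.act_mul (mul_mem hn.1 hn.1) hn.1, S.act_mul hn.1 hn.1, hn.2, hn.2, hn.2]
    have h2 : m * m ∈ S.J := by
      refine S.J_cent _ (S.mem_X.1 (mul_mem hmX hmX)) fun j hj => ?_
      have hmem := mul_mem (inv_mem hj) (S.conj_J hmX hj)
      have h0 : S.π j = S.π (m * j * m⁻¹) := by
        have := hmW (S.π j)
        rwa [S.act_π hmX hj, eq_comm] at this
      have hz := (S.π_eq hj (S.conj_J hmX hj)).1 h0
      have hfix2 := S.center_fix hmem hz hmX hfix
      have hsq : (j⁻¹ * (m * j * m⁻¹)) * (j⁻¹ * (m * j * m⁻¹)) = 1 := by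
        rcases S.center_J _ hmem hz with e | e
        · exact S.U_sq _ e
        · have e2 := S.U_sq _ e
          rwa [show j⁻¹ * (m * j * m⁻¹) * z * (j⁻¹ * (m * j * m⁻¹) * z) =
            j⁻¹ * (m * j * m⁻¹) * (z * (j⁻¹ * (m * j * m⁻¹))) * z by group, S.z_center hmem,
            show ∀ a : G, a * (a * z) * z = a * a * (z * z) from fun a => by group, S.z_sq, mul_one] at e2
      have e : m * m * j * (m * m)⁻¹ = j := by
        symm
        calc j = j * ((j⁻¹ * (m * j * m⁻¹)) * (j⁻¹ * (m * j * m⁻¹))) := by rw [hsq, mul_one]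
          _ = (m * j * m⁻¹) * (m * (j⁻¹ * (m * j * m⁻¹)) * m⁻¹) := by rw [hfix2]; group
          _ = m * m * j * (m * m)⁻¹ := by group
      exact mul_inv_eq_iff_eq_mul.1 e
    have : n ^ 12 = (m * m) * (m * m) := by
      simp only [hm, pow_succ, pow_zero, one_mul, mul_assoc]
    rw [this]
    exact mul_mem h2 h2
  have h5 : ¬ 5 ∣ Nat.card N := by
    intro h5
    have := Fact.mk (show Nat.Prime 5 by norm_num)
    obtain ⟨⟨n, hn⟩, hord⟩ := exists_prime_orderOf_dvd_card' 5 h5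
    have hn5 : orderOf n = 5 := by rwa [Subgroup.orderOf_mk] at hord
    have h12 := hpow n hn
    have hd : orderOf (n ^ 12) ∣ 2 ^ 11 := by
      rw [← S.J_card]; exact Subgroup.orderOf_dvd_natCard _ h12
    rw [orderOf_pow' _ (by norm_num : (12 : ℕ) ≠ 0), hn5] at hd
    norm_num at hd
  have hle : N ≤ S.J ⊔ Subgroup.zpowers S.c := by
    refine S.small N S.X (fun n hn => S.mem_X.1 hn.1) (fun g hg => S.mem_X.1 hg) ?_ ?_ h5
    · intro g hg n hn
      refine ⟨mul_mem (mul_mem hg hn.1) (inv_mem hg), fun x => ?_⟩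
      rw [S.act_mul (mul_mem hg hn.1) (inv_mem hg), S.act_mul hg hn.1, hn.2, S.act_apply_inv hg]
    · exact fun g hg => ⟨g, S.mem_X.2 hg, by rw [inv_mul_cancel]; exact one_mem _⟩
  -- elements of `J⟨c⟩` acting trivially
  have hgm : g ∈ S.J ⊔ Subgroup.zpowers S.c := hle ⟨hg, h⟩
  have hnorm : Subgroup.zpowers S.c ≤ Subgroup.normalizer (S.J : Set G) := by
    rw [Subgroup.zpowers_le, Subgroup.mem_normalizer_iff]
    intro k
    refine ⟨fun hk => S.conj_J S.c_mem hk, fun hk => ?_⟩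
    have := S.conj_J (inv_mem S.c_mem) hk
    simpa [mul_assoc] using this
  rw [← SetLike.mem_coe, Subgroup.coe_mul_of_right_le_normalizer_left _ _ hnorm] at hgm
  obtain ⟨j, hj, k, hk, rfl⟩ := hgm
  obtain ⟨k, rfl⟩ := Subgroup.mem_zpowers_iff.1 hk
  have hkX : ∀ x, S.act (S.c ^ k) x = x := fun x => by
    have h1 := h x
    rw [S.act_mul (S.J_le_X hj) (zpow_mem S.c_mem k), S.act_J hj] at h1
    exact h1
  suffices hc : S.c ^ k = 1 by show j * S.c ^ k ∈ S.J; rwa [hc, mul_one]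
  have h3 : S.c ^ (3 : ℤ) = 1 := by
    rw [show (3 : ℤ) = ((3 : ℕ) : ℤ) from rfl, zpow_natCast, pow_three', S.c_three]
  rw [← Int.emod_add_mul_ediv k 3, zpow_add, zpow_mul, h3, one_zpow, mul_one]
  have hk' : k % 3 = 0 := by
    obtain ⟨x, hx⟩ : ∃ x : S.W, x ≠ 0 := by
      by_contra hc
      push Not at hc
      have : Subsingleton S.W := ⟨fun a b => (hc a).trans (hc b).symm⟩
      have := S.card_W
      rw [Nat.card_eq_one_iff_unique.2 ⟨inferInstance, ⟨0⟩⟩] at this
      omega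
    have hpw : S.c ^ k = S.c ^ (k % 3) := by
      conv_lhs => rw [← Int.emod_add_mul_ediv k 3, zpow_add, zpow_mul, h3, one_zpow, mul_one]
    have hx' := hkX x
    rw [hpw] at hx'
    rcases (show k % 3 = 0 ∨ k % 3 = 1 ∨ k % 3 = 2 by omega) with e | e | e
    · exact e
    · rw [e, zpow_one] at hx'; exact absurd (S.act_c_fixed hx') hx
    · exfalso
      rw [e, show (2 : ℤ) = 1 + 1 from rfl, zpow_add, zpow_one, S.act_mul S.c_mem S.c_mem] at hx'
      refine hx (S.act_c_fixed ?_)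
      conv_lhs => rw [← hx', S.act_cube]
  rw [hk', zpow_zero]

/-- every isometry comes from an inner element -/
theorem realize [Finite G] {φ : S.W →ₗ[ZMod 2] S.W} (hφ : S.H.IsIsom φ) :
    ∃ g, S.Inner g ∧ S.act g = φ := by
  classical
  let I := {φ : S.W →ₗ[ZMod 2] S.W // S.H.IsIsom φ}
  have hfin : Finite S.W := S.H.finite
  have hfinI : Finite I := Finite.of_injective (fun φ : I => (φ.1 : S.W → S.W))
    fun a b e => Subtype.ext (DFunLike.coe_injective e)
  let K := S.J.subgroupOf S.X0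
  let F : ↥S.X0 ⧸ K → I := Quotient.lift (fun g : S.X0 => (⟨S.act g.1, S.isom_act g.2⟩ : I))
    fun a b hab => Subtype.ext (LinearMap.ext fun x => by
      have hk : a⁻¹ * b ∈ K := QuotientGroup.leftRel_apply.1 hab
      have hj : (a.1)⁻¹ * b.1 ∈ S.J := hk
      have hbb : b.1 = a.1 * (a.1⁻¹ * b.1) := (mul_inv_cancel_left _ _).symm
      show S.act a.1 x = S.act b.1 x
      rw [hbb, S.act_mul (S.X0_le a.2) (S.J_le_X hj), S.act_J hj])
  have hinj : Function.Injective F := by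
    intro q q' e
    obtain ⟨a, rfl⟩ := QuotientGroup.mk_surjective q
    obtain ⟨b, rfl⟩ := QuotientGroup.mk_surjective q'
    have e' : S.act a.1 = S.act b.1 := congrArg Subtype.val e
    refine QuotientGroup.eq.2 (S.mem_J_of_act (S.X0_le (mul_mem (inv_mem a.2) b.2)) fun x => ?_)
    show S.act (a.1⁻¹ * b.1) x = x
    rw [S.act_mul (inv_mem (S.X0_le a.2)) (S.X0_le b.2), ← e', S.act_inv_apply (S.X0_le a.2)]
  have hc : Nat.card (↥S.X0 ⧸ K) = 77760 := by
    have h := Subgroup.card_eq_card_quotient_mul_card_subgroup K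
    rw [S.card_X0, Nat.card_congr (Subgroup.subgroupOfEquivOfLe
      (fun j hj => S.inner_J hj : S.J ≤ S.X0)).toEquiv, S.J_card] at h
    omega
  obtain ⟨q, hq⟩ := (hinj.bijective_of_nat_card_le (by rw [hc]; exact S.H.card_isom_le)).2 ⟨φ, hφ⟩
  obtain ⟨a, rfl⟩ := QuotientGroup.mk_surjective q
  exact ⟨a.1, a.2, congrArg Subtype.val hq⟩

theorem isInv_act [Finite G] {t : G} (ht : S.Inner t) (h2 : t * t ∈ S.J) : S.H.IsInv (S.act t) :=
  ⟨S.isom_act ht, fun x => by rw [← S.act_mul ht.1 ht.1, S.act_J h2]⟩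

theorem act_ne_id [Finite G] {t : G} (ht : t ∈ S.X) (hJ : t ∉ S.J) : S.act t ≠ LinearMap.id :=
  fun h => hJ (S.mem_J_of_act ht fun x => by rw [h]; rfl)

/-- an outer involution has a small fixed space -/
theorem outer_fix_card [Finite G] {t : G} (ht : t ∈ S.X) (hi : ¬ S.Inner t) :
    Nat.card {x // S.act t x = x} ≤ 16 := by
  let f : {x // S.act t x = x} × {x // S.act t x = x} → S.W := fun p => p.1.1 + S.act S.c p.2.1
  have hinj : Function.Injective f := by
    rintro ⟨a, b⟩ ⟨a', b'⟩ e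
    have e' : a.1 + S.act S.c b.1 = a'.1 + S.act S.c b'.1 := e
    have hb : b.1 = b'.1 := by
      have hd : S.act S.c (b.1 - b'.1) = a'.1 - a.1 := by
        rw [map_sub, sub_eq_sub_iff_add_eq_add, add_comm, e', add_comm]
      have hfix : S.act t (b.1 - b'.1) = b.1 - b'.1 := by rw [map_sub, b.2, b'.2]
      have h1 := S.outer_act ht hi (b.1 - b'.1)
      rw [hfix] at h1
      have h2 : S.act t (a'.1 - a.1) = a'.1 - a.1 := by rw [map_sub, a'.2, a.2]
      rw [hd, h2, ← hd] at h1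
      have h3 := S.act_c_fixed h1.symm
      refine sub_eq_zero.1 ?_
      rw [← S.act_cube (b.1 - b'.1), h3, map_zero, map_zero]
    have ha : a.1 = a'.1 := by rw [hb] at e'; exact add_right_cancel e'
    exact Prod.ext (Subtype.ext ha) (Subtype.ext hb)
  have hfin : Finite S.W := S.H.finite
  have h := Nat.card_le_card_of_injective f hinj
  rw [Nat.card_prod, S.card_W] at h
  nlinarith

theorem fix_card_le [Finite G] {t : G} (ht : t ∈ S.X) (h2 : t * t ∈ S.J) (hJ : t ∉ S.J) :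
    Nat.card {x // S.act t x = x} ≤ 64 := by
  by_cases hi : S.Inner t
  · exact HForm.card_fix_le (S.isInv_act hi h2) (S.act_ne_id ht hJ)
  · exact (S.outer_fix_card ht hi).trans (by norm_num)

end Cfsg.Agent.Lib.Fi23Local27.Setting
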